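import Mathlib
import Cfsg.Agent.H77.A2.Step.Data

/-!
A derivation that closes 352 cosets of the subgroup on x and y (generated data).
-/

set_option autoImplicit false
set_option maxRecDepth 100000
set_option linter.all false
set_option Elab.async false

namespace H77
namespace A2
namespace Step

open H93.CosetI

noncomputable section

def st0 : List Step := [
(13,[],[]),
(14,[],[]),
(0,[],[]),
(10,[1,4],[4]),
(0,[],[]),
(0,[],[]),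
(0,[],[]),
(0,[],[]),
(0,[],[]),
(11,[3,1,2,2,1,2,1,2,4,8,10,12,14,16],[4,8,10]),
(0,[],[]),
(0,[],[]),
(0,[],[]),
(0,[],[]),
(0,[],[]),
(0,[],[]),
(0,[],[]),
(0,[],[]),
(0,[],[]),
(0,[],[]),
(0,[],[]),
(0,[],[]),
(0,[],[]),
(0,[],[]),
(0,[],[]),
(0,[],[]),
(0,[],[]),
(0,[],[]),
(0,[],[]),
(0,[],[]),
(0,[],[]),
(0,[],[]),
(0,[],[]),
(0,[],[]),
(0,[],[]),
(0,[],[]),
(0,[],[]),
(0,[],[]),
(0,[],[]),
(0,[],[]),
(0,[],[]),
(0,[],[]),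
(0,[],[]),
(0,[],[]),
(0,[],[]),
(0,[],[]),
(0,[],[]),
(12,[1,2,1,2,1,2,2,2,4,8,20,22,24,26,28,30,32,34,36,38,40,42,44,46,48,50,52,54,56,58,60,62,64,66,68,70,72,74,76,78,80,82,84,86,88,90,92],[4]),
(0,[],[]),
(3,[95,96],[8,20,22]),
(0,[],[]),
(0,[],[]),
(0,[],[]),
(4,[95,93,100,102,104],[7,95,93,100,102,104]),
(0,[],[]),
(0,[],[]),
(0,[],[]),
(0,[],[]),
(6,[95,93,91,89,87,108,110,112,114],[7,8,10,12,14,16]),
(0,[],[]),
(0,[],[]),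
(0,[],[]),
(0,[],[]),
(0,[],[]),
(0,[],[]),
(0,[],[]),
(0,[],[]),
(0,[],[]),
(0,[],[]),
(0,[],[]),
(0,[],[]),
(0,[],[]),
(0,[],[]),
(0,[],[]),
(0,[],[]),
(0,[],[]),
(0,[],[]),
(5,[95,96,98,24,130,132,134,136,138,140,142,144,146,148,150,152],[7,8,20,118]),
(0,[],[]),
(0,[],[]),
(0,[],[]),
(0,[],[]),
(0,[],[]),
(0,[],[]),
(0,[],[]),
(0,[],[]),
(0,[],[]),
(0,[],[]),
(0,[],[]),
(0,[],[]),
(0,[],[]),
(0,[],[]),
(7,[95,96,98,24,130,156,158,160,162,164,166,168,170,172,174,176,178,180,182],[7,8,10,12]),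
(4,[9,7,8,10,19,117,115,113],[10,19,117,115]),
(1,[187],[]),
(1,[189,113],[]),
(1,[189,114],[]),
(3,[19,17],[12,185,183]),
(4,[13,11,20,118,120,122],[14,194,181,179,177]),
(12,[32,34,36,38,40,42,44,46,48,50,52,54,56,58,60,62,64,66,68,70,72,74,76,78,80,82,84,86,88,90,92,94,7,95,93,91,89,87,85,83,81,79,77,75,73,71,69,67],[]),
(10,[33,199,65],[]),
(3,[124],[196,175,173,171]),
(0,[],[]),
(0,[],[]),
(10,[10,206],[204]),
(0,[],[]),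
(0,[],[]),
(0,[],[]),
(0,[],[]),
(0,[],[]),
(0,[],[]),
(0,[],[]),
(0,[],[]),
(0,[],[]),
(0,[],[]),
(0,[],[]),
(0,[],[]),
(0,[],[]),
(11,[20,118,120,210,212,214,216,218,220,222,224,226,228,230,232,234],[204]),
(0,[],[]),
(0,[],[]),
(0,[],[]),
(0,[],[]),
(0,[],[]),
(0,[],[]),
(0,[],[]),
(0,[],[]),
(0,[],[]),
(0,[],[]),
(8,[20,22,24,130,156,158,238,240,242,244,246,248,250,252,254,256],[10,12,185]),
(0,[],[]),
(0,[],[]),
(0,[],[]),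
(0,[],[]),
(0,[],[]),
(0,[],[]),
(0,[],[]),
(0,[],[]),
(0,[],[]),
(0,[],[]),
(0,[],[]),
(0,[],[]),
(0,[],[]),
(5,[9,95,96,260,262,264,266,268,270,272,274,276,278,280,282,284],[10,12,185,259]),
(0,[],[]),
(0,[],[]),
(0,[],[]),
(0,[],[]),
(0,[],[]),
(0,[],[]),
(0,[],[]),
(7,[9,95,96,260,262,288,290,292,294,296,298,300],[10,12,14,16,18,12,14,16,117,193,111]),
(0,[],[]),
(0,[],[]),
(0,[],[]),
(0,[],[]),
(0,[],[]),
(0,[],[]),
(0,[],[]),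
(0,[],[]),
(0,[],[]),
(0,[],[]),
(0,[],[]),
(0,[],[]),
(0,[],[]),
(0,[],[]),
(0,[],[]),
(0,[],[]),
(0,[],[]),
(0,[],[]),
(0,[],[]),
(0,[],[]),
(0,[],[]),
(0,[],[]),
(0,[],[]),
(0,[],[]),
(0,[],[]),
(0,[],[]),
(0,[],[]),
(0,[],[]),
(0,[],[]),
(0,[],[]),
(0,[],[]),
(0,[],[]),
(0,[],[]),
(0,[],[]),
(0,[],[]),
(0,[],[]),
(0,[],[]),
(0,[],[]),
(0,[],[]),
(0,[],[]),
(0,[],[]),
(0,[],[]),
(0,[],[]),
(0,[],[]),
(12,[10,19,117,304,306,308,310,312,314,316,318,320,322,324,326,328,330,332,334,336,338,340,342,344,346,348,350,352,354,356,358,360,362,364,366,368,370,372,374,376,378,380,382,384,386,388,390],[204]),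
(3,[120,210],[155,153,151]),
(0,[],[]),
(0,[],[]),
(0,[],[]),
(0,[],[]),
(0,[],[]),
(0,[],[]),
(6,[19,117,304,306,308,396,398,400,402,404,406],[11,20,118,155]),
(0,[],[]),
(0,[],[]),
(0,[],[]),
(0,[],[]),
(0,[],[]),
(0,[],[]),
(0,[],[]),
(0,[],[]),
(11,[12,14,194,182,259,257,255,253,410,412,414,416,418,420,422,424],[206]),
(0,[],[]),
(0,[],[]),
(0,[],[]),
(0,[],[]),
(0,[],[]),
(0,[],[]),
(0,[],[]),
(0,[],[]),
(0,[],[]),
(0,[],[]),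
(0,[],[]),
(5,[19,17,194,181,428,430,432,434,436,438,440,442,444,446,448],[11,20,22,24,26]),
(0,[],[]),
(0,[],[]),
(0,[],[]),
(0,[],[]),
(0,[],[]),
(0,[],[]),
(0,[],[]),
(0,[],[]),
(0,[],[]),
(0,[],[]),
(7,[19,17,194,181,428,452,454,456,458,460,462,464,466,468,470],[11,20,118,155,153,151,149,147]),
(0,[],[]),
(0,[],[]),
(0,[],[]),
(0,[],[]),
(0,[],[]),
(0,[],[]),
(0,[],[]),
(0,[],[]),
(0,[],[]),
(0,[],[]),
(0,[],[]),
(0,[],[]),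
(0,[],[])]
theorem ok0 : data.stepsOK st0 0 = true := by decide +kernel
def st1 : List Step := [
(0,[],[]),
(0,[],[]),
(0,[],[]),
(0,[],[]),
(0,[],[]),
(0,[],[]),
(0,[],[]),
(0,[],[]),
(0,[],[]),
(0,[],[]),
(0,[],[]),
(0,[],[]),
(0,[],[]),
(0,[],[]),
(0,[],[]),
(0,[],[]),
(0,[],[]),
(0,[],[]),
(0,[],[]),
(0,[],[]),
(0,[],[]),
(0,[],[]),
(0,[],[]),
(0,[],[]),
(0,[],[]),
(0,[],[]),
(0,[],[]),
(0,[],[]),
(12,[11,9,7,95,93,91,474,476,478,480,482,484,486,488,490,492,494,496,498,500,502,504,506,508,510,512,514,516,518,520,522,524,526,528,530,532,534,536,538,540,542,544,546,548,550,552,554],[206]),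
(3,[130,132],[26,451,449]),
(12,[330,332,334,336,338,340,342,344,346,348,350,352,354,356,358,360,362,364,366,368,370,372,374,376,378,380,382,384,386,388,390,392,209,557,555,553,551,549,547,545,543,541,539,537,535,533,531,529],[]),
(10,[331,561,527],[]),
(12,[362,364,366,368,370,372,374,376,378,380,382,384,386,388,390,392,209,557,555,553,551,549,547,545,543,541,539,537,535,533,531,529,527,525,523,521,519,517,515,513,511,509,507,505,503,501,499,497],[]),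
(10,[363,565,495],[]),
(0,[],[]),
(0,[],[]),
(10,[14,570],[568]),
(0,[],[]),
(0,[],[]),
(0,[],[]),
(0,[],[]),
(0,[],[]),
(0,[],[]),
(0,[],[]),
(0,[],[]),
(0,[],[]),
(0,[],[]),
(0,[],[]),
(0,[],[]),
(0,[],[]),
(11,[185,259,257,574,576,578,580,582,584,586,588,590,592,594,596,598],[568]),
(0,[],[]),
(0,[],[]),
(0,[],[]),
(0,[],[]),
(8,[185,183,181,428,452,454,602,604,606,608],[14,16,18,11,9,7,95,93,100]),
(0,[],[]),
(0,[],[]),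
(0,[],[]),
(0,[],[]),
(5,[13,19,17,15,13,19,117,304,612,614,616,618],[14,16,18,11,20,22,99,260]),
(0,[],[]),
(0,[],[]),
(0,[],[]),
(0,[],[]),
(0,[],[]),
(0,[],[]),
(0,[],[]),
(0,[],[]),
(0,[],[]),
(0,[],[]),
(0,[],[]),
(0,[],[]),
(0,[],[]),
(0,[],[]),
(0,[],[]),
(0,[],[]),
(0,[],[]),
(0,[],[]),
(0,[],[]),
(0,[],[]),
(0,[],[]),
(0,[],[]),
(0,[],[]),
(0,[],[]),
(0,[],[]),
(0,[],[]),
(0,[],[]),
(0,[],[]),
(0,[],[]),
(0,[],[]),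
(0,[],[]),
(0,[],[]),
(0,[],[]),
(0,[],[]),
(0,[],[]),
(0,[],[]),
(0,[],[]),
(0,[],[]),
(0,[],[]),
(12,[14,194,181,428,452,454,456,458,622,624,626,628,630,632,634,636,638,640,642,644,646,648,650,652,654,656,658,660,662,664,666,668,670,672,674,676,678,680,682,684,686,688,690,692,694,696,698],[568]),
(3,[474,476],[90,100,611]),
(3,[110,192,304,612,614],[303]),
(1,[704],[]),
(1,[707,616],[]),
(1,[300,708],[]),
(1,[707,615],[]),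
(1,[711],[]),
(1,[715,618],[]),
(3,[574],[256,287,285,283]),
(3,[262,264],[621,717,299]),
(0,[],[]),
(0,[],[]),
(0,[],[]),
(0,[],[]),
(0,[],[]),
(0,[],[]),
(0,[],[]),
(0,[],[]),
(0,[],[]),
(0,[],[]),
(0,[],[]),
(0,[],[]),
(11,[16,117,304,612,722,724,726,728,730,732,734,736,738,740,742,744],[570]),
(0,[],[]),
(0,[],[]),
(0,[],[]),
(0,[],[]),
(5,[194,182,184,14,194,182,259,257,574,718,281,748,750,752,754],[15,185,183,181,179]),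
(0,[],[]),
(0,[],[]),
(0,[],[]),
(0,[],[]),
(0,[],[]),
(0,[],[]),
(0,[],[]),
(7,[194,182,184,14,194,181,428,430,758,760,762,764,766,768,770],[15,185,259,287,285,283,281,279]),
(0,[],[]),
(0,[],[]),
(0,[],[]),
(0,[],[]),
(0,[],[]),
(0,[],[]),
(0,[],[]),
(0,[],[]),
(0,[],[]),
(0,[],[]),
(0,[],[]),
(0,[],[]),
(0,[],[]),
(0,[],[]),
(0,[],[]),
(0,[],[]),
(0,[],[]),
(0,[],[]),
(0,[],[]),
(0,[],[]),
(0,[],[]),
(0,[],[]),
(0,[],[]),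
(0,[],[]),
(0,[],[]),
(0,[],[]),
(0,[],[]),
(0,[],[]),
(0,[],[]),
(0,[],[]),
(0,[],[]),
(0,[],[]),
(0,[],[]),
(0,[],[]),
(0,[],[]),
(0,[],[]),
(0,[],[]),
(0,[],[]),
(0,[],[]),
(12,[15,13,11,9,7,95,96,98,774,776,778,780,782,784,786,788,790,792,794,796,798,800,802,804,806,808,810,812,814,816,818,820,822,824,826,828,830,832,834,836,838,840,842,844,846,848,850],[570]),
(3,[178,428,430,758],[757,755]),
(1,[854],[]),
(1,[857,760],[]),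
(1,[752,858],[]),
(1,[857,759],[]),
(1,[861],[]),
(1,[865,762],[]),
(3,[276,278,748,750,866],[]),
(0,[],[]),
(0,[],[]),
(10,[117,872],[870]),
(0,[],[]),
(0,[],[]),
(4,[17,15,185,259,257,255,876,878],[117,304,306]),
(0,[],[]),
(0,[],[]),
(0,[],[]),
(0,[],[]),
(0,[],[]),
(0,[],[]),
(0,[],[]),
(0,[],[]),
(11,[18,11,9,95,93,91,89,87,882,884,886,888,890,892,894,896],[870]),
(0,[],[]),
(0,[],[]),
(0,[],[]),
(0,[],[]),
(0,[],[]),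
(0,[],[]),
(0,[],[]),
(8,[18,12,14,194,181,428,452,900,902,904,906,908,910,912],[117,193,111,109,85]),
(0,[],[]),
(0,[],[]),
(0,[],[]),
(0,[],[]),
(0,[],[]),
(0,[],[]),
(0,[],[]),
(0,[],[]),
(0,[],[]),
(0,[],[]),
(0,[],[]),
(0,[],[]),
(0,[],[]),
(0,[],[]),
(0,[],[]),
(0,[],[]),
(0,[],[]),
(0,[],[]),
(0,[],[]),
(0,[],[]),
(0,[],[]),
(0,[],[]),
(0,[],[]),
(0,[],[]),
(0,[],[]),
(0,[],[]),
(0,[],[]),
(0,[],[]),
(0,[],[]),
(0,[],[]),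
(0,[],[]),
(0,[],[]),
(0,[],[]),
(0,[],[]),
(0,[],[]),
(0,[],[]),
(0,[],[]),
(0,[],[]),
(0,[],[]),
(0,[],[]),
(0,[],[]),
(0,[],[])]
theorem ok1 : data.stepsOK st1 250 = true := by decide +kernel
def st2 : List Step := [
(0,[],[]),
(0,[],[]),
(0,[],[]),
(0,[],[]),
(12,[117,304,306,308,396,398,926,928,930,932,934,936,938,940,942,944,946,948,950,952,954,956,958,960,962,964,966,968,970,972,974,976,978,980,982,984,986,988,990,992,994,996,998,1000,1002,1004,1006],[870]),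
(3,[454,456,458],[900,902]),
(0,[],[]),
(0,[],[]),
(10,[118,1014],[1012]),
(0,[],[]),
(0,[],[]),
(0,[],[]),
(0,[],[]),
(0,[],[]),
(0,[],[]),
(0,[],[]),
(0,[],[]),
(0,[],[]),
(0,[],[]),
(11,[22,24,130,132,134,136,1018,1020,1022,1024,1026,1028,1030,1032,1034,1036],[1012]),
(0,[],[]),
(0,[],[]),
(0,[],[]),
(0,[],[]),
(0,[],[]),
(0,[],[]),
(0,[],[]),
(0,[],[]),
(0,[],[]),
(0,[],[]),
(8,[22,99,260,262,288,290,1040,1042,1044,1046,1048,1050,1052,1054,1056,1058],[118,155,153]),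
(0,[],[]),
(0,[],[]),
(0,[],[]),
(0,[],[]),
(0,[],[]),
(0,[],[]),
(0,[],[]),
(0,[],[]),
(0,[],[]),
(0,[],[]),
(0,[],[]),
(0,[],[]),
(0,[],[]),
(0,[],[]),
(0,[],[]),
(0,[],[]),
(0,[],[]),
(0,[],[]),
(0,[],[]),
(0,[],[]),
(0,[],[]),
(0,[],[]),
(0,[],[]),
(0,[],[]),
(0,[],[]),
(0,[],[]),
(0,[],[]),
(0,[],[]),
(0,[],[]),
(0,[],[]),
(0,[],[]),
(0,[],[]),
(0,[],[]),
(0,[],[]),
(0,[],[]),
(0,[],[]),
(0,[],[]),
(0,[],[]),
(0,[],[]),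
(0,[],[]),
(0,[],[]),
(0,[],[]),
(0,[],[]),
(0,[],[]),
(0,[],[]),
(0,[],[]),
(0,[],[]),
(0,[],[]),
(0,[],[]),
(12,[118,120,122,124,126,1076,1078,1080,1082,1084,1086,1088,1090,1092,1094,1096,1098,1100,1102,1104,1106,1108,1110,1112,1114,1116,1118,1120,1122,1124,1126,1128,1130,1132,1134,1136,1138,1140,1142,1144,1146,1148,1150,1152,1154,1156,1158],[1012]),
(0,[],[]),
(10,[24,1162],[774]),
(0,[],[]),
(0,[],[]),
(0,[],[]),
(0,[],[]),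
(4,[23,118,155,409,1166,1168,1170,1172],[24,130,156]),
(0,[],[]),
(0,[],[]),
(0,[],[]),
(6,[23,118,120,122,124,126,1076,1176,1178,1180],[24,26,28,30,32]),
(0,[],[]),
(0,[],[]),
(0,[],[]),
(0,[],[]),
(0,[],[]),
(0,[],[]),
(0,[],[]),
(0,[],[]),
(0,[],[]),
(11,[99,260,262,264,266,268,1184,1186,1188,1190,1192,1194,1196,1198,1200],[774,776]),
(0,[],[]),
(0,[],[]),
(0,[],[]),
(0,[],[]),
(0,[],[]),
(8,[99,97,93,91,89,87,108,303,712,722,724,1204,1206,1208,1210,1212],[24,26,451]),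
(0,[],[]),
(0,[],[]),
(0,[],[]),
(0,[],[]),
(0,[],[]),
(5,[23,21,9,7,95,96,260,262,264,720,297,1216,1218,1220,1222,1224],[24,26,451,1215]),
(0,[],[]),
(0,[],[]),
(0,[],[]),
(0,[],[]),
(0,[],[]),
(0,[],[]),
(0,[],[]),
(0,[],[]),
(0,[],[]),
(0,[],[]),
(7,[23,21,9,7,95,93,91,474,476,1228,1230,1232,1234,1236,1238,1240,1242,1244,1246],[24,26,28,30]),
(0,[],[]),
(0,[],[]),
(0,[],[]),
(0,[],[]),
(0,[],[]),
(0,[],[]),
(0,[],[]),
(0,[],[]),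
(0,[],[]),
(0,[],[]),
(0,[],[]),
(0,[],[]),
(0,[],[]),
(0,[],[]),
(0,[],[]),
(0,[],[]),
(0,[],[]),
(0,[],[]),
(0,[],[]),
(0,[],[]),
(0,[],[]),
(0,[],[]),
(0,[],[]),
(0,[],[]),
(0,[],[]),
(0,[],[]),
(0,[],[]),
(0,[],[]),
(0,[],[]),
(0,[],[]),
(0,[],[]),
(0,[],[]),
(0,[],[]),
(0,[],[]),
(0,[],[]),
(0,[],[]),
(0,[],[]),
(0,[],[]),
(0,[],[]),
(0,[],[]),
(0,[],[]),
(0,[],[]),
(12,[24,130,156,158,238,1250,1252,1254,1256,1258,1260,1262,1264,1266,1268,1270,1272,1274,1276,1278,1280,1282,1284,1286,1288,1290,1292,1294,1296,1298,1300,1302,1304,1306,1308,1310,1312,1314,1316,1318,1320,1322,1324,1326,1328,1330,1332],[774]),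
(3,[1250,1252,1254],[240,242]),
(3,[290,292,294,1216,1218],[]),
(8,[477,475,89,87,108,110,191,111,303,301,716,620,261,97,93,100,102,104],[1228]),
(4,[1064],[1063,476,1228,1341,107,1340,1229,477,1062,1064]),
(0,[],[]),
(0,[],[]),
(0,[],[]),
(0,[],[]),
(0,[],[]),
(0,[],[]),
(6,[130,156,158,238,1250,1344,1346,1348,1350,1352,1354],[25,99,260,621]),
(0,[],[]),
(0,[],[]),
(0,[],[]),
(0,[],[]),
(0,[],[]),
(0,[],[]),
(0,[],[]),
(0,[],[]),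
(0,[],[]),
(0,[],[]),
(0,[],[]),
(0,[],[]),
(0,[],[]),
(0,[],[]),
(11,[26,28,1358,1360,1362,1364,1366,1368,1370,1372,1374,1376,1378,1380,1382,1384],[1162]),
(0,[],[]),
(5,[130,132,558,447,1388],[25,99,97,93,100,611,703,1228,1341,105,103,611,703,477,1062]),
(0,[],[]),
(0,[],[]),
(0,[],[]),
(0,[],[]),
(0,[],[]),
(0,[],[]),
(0,[],[]),
(0,[],[]),
(0,[],[]),
(0,[],[]),
(7,[130,132,558,447,1388,1392,1394,1396,1398,1400,1402,1404,1406,1408,1410],[25,99,260,621,717,299,297,295]),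
(0,[],[]),
(0,[],[]),
(0,[],[]),
(0,[],[]),
(0,[],[]),
(0,[],[]),
(0,[],[]),
(0,[],[]),
(0,[],[]),
(0,[],[]),
(0,[],[]),
(0,[],[]),
(0,[],[]),
(0,[],[]),
(0,[],[]),
(0,[],[]),
(0,[],[]),
(0,[],[]),
(0,[],[]),
(0,[],[]),
(0,[],[]),
(0,[],[]),
(0,[],[]),
(0,[],[]),
(0,[],[]),
(0,[],[]),
(0,[],[]),
(0,[],[]),
(0,[],[]),
(0,[],[]),
(0,[],[]),
(0,[],[]),
(0,[],[]),
(0,[],[]),
(0,[],[]),
(0,[],[]),
(0,[],[]),
(0,[],[]),
(0,[],[]),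
(12,[25,23,118,120,122,124,202,170,1414,1416,1418,1420,1422,1424,1426,1428,1430,1432,1434,1436,1438,1440,1442,1444,1446,1448,1450,1452,1454,1456,1458,1460,1462,1464,1466,1468,1470,1472,1474,1476,1478,1480,1482,1484,1486,1488,1490],[1162]),
(4,[27,25,99,260,262,288,1339,1220,1222],[28,1358]),
(3,[1358,1360],[30,1249,1247]),
(4,[87,108,303,301,716,1357,1355,1353],[88,474,1062,1391])]
theorem ok2 : data.stepsOK st2 500 = true := by decide +kernel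
def st3 : List Step := [
(1,[1499],[]),
(1,[1501,1392],[]),
(1,[1353,1502],[]),
(1,[1501,1390],[]),
(1,[1501,1389],[]),
(1,[1350,1508],[]),
(1,[1505],[]),
(1,[1513,1394],[]),
(1,[1355,1514],[]),
(1,[1510],[]),
(1,[1519,1349],[]),
(1,[447,1520],[]),
(1,[1519,1350],[]),
(1,[1517],[]),
(1,[1527,1396],[]),
(1,[1523],[]),
(1,[1531,1347],[]),
(1,[558,1532],[]),
(1,[1535],[]),
(1,[1537,1345],[]),
(1,[135,1538],[]),
(1,[1541],[]),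
(1,[1543,1252],[]),
(1,[137,1544],[]),
(1,[1543,1251],[]),
(1,[1547],[]),
(1,[1551,1254],[]),
(1,[139,1552],[]),
(1,[1555],[]),
(1,[1557,1256],[]),
(1,[1557,1336],[]),
(1,[141,1560],[]),
(1,[1563],[]),
(1,[1565,244],[]),
(1,[143,1566],[]),
(1,[1565,243],[]),
(1,[1569],[]),
(1,[1573,246],[]),
(1,[145,1574],[]),
(1,[1577],[]),
(1,[1579,248],[]),
(1,[147,1580],[]),
(1,[1583],[]),
(1,[1585,250],[]),
(1,[149,1586],[]),
(1,[1589],[]),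
(1,[1591,410],[]),
(1,[1591,916],[]),
(1,[151,1594],[]),
(1,[1591,252],[]),
(1,[394,1598],[]),
(1,[1597],[]),
(1,[1603,918],[]),
(1,[153,1604],[]),
(1,[1601],[]),
(1,[1609,254],[]),
(1,[213,1610],[]),
(1,[1609,876],[]),
(1,[210,1614],[]),
(1,[1607],[]),
(1,[1619,920],[]),
(1,[408,1620],[]),
(1,[1613],[]),
(1,[1625,574],[]),
(1,[215,1626],[]),
(1,[1625,256],[]),
(1,[1617],[]),
(1,[1633,878],[]),
(1,[123,1634],[]),
(1,[1623],[]),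
(1,[1639,922],[]),
(1,[1167,1640],[]),
(1,[1629],[]),
(1,[1645,576],[]),
(1,[217,1646],[]),
(1,[1637],[]),
(1,[1651,880],[]),
(1,[125,1652],[]),
(1,[1642],[]),
(1,[1657,1168],[]),
(1,[925,1658],[]),
(1,[1657,1167],[]),
(1,[1649],[]),
(1,[1665,578],[]),
(1,[219,1666],[]),
(1,[1655],[]),
(1,[1671,307],[]),
(1,[127,1672],[]),
(1,[1671,308],[]),
(1,[203,1676],[]),
(1,[1661],[]),
(1,[1681,1170],[]),
(1,[1669],[]),
(1,[1685,580],[]),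
(1,[1675],[]),
(1,[1689,612],[]),
(1,[1077,1690],[]),
(1,[1689,305],[]),
(1,[129,1694],[]),
(1,[1679],[]),
(1,[1699,396],[]),
(1,[168,1700],[]),
(1,[1699,310],[]),
(1,[171,1704],[]),
(1,[1692],[]),
(1,[1709,1176],[]),
(1,[723,1710],[]),
(1,[1709,1078],[]),
(1,[712,1714],[]),
(1,[1696],[]),
(1,[1719,129],[]),
(1,[1703],[]),
(1,[1723,398],[]),
(1,[1707],[]),
(1,[1727,312],[]),
(1,[173,1728],[]),
(1,[1713],[]),
(1,[1733,1178],[]),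
(1,[725,1734],[]),
(1,[1717],[]),
(1,[1739,1080],[]),
(1,[303,1740],[]),
(1,[1731],[]),
(1,[1745,314],[]),
(1,[1737],[]),
(1,[1749,1180],[]),
(1,[727,1750],[]),
(1,[1743],[]),
(1,[1755,1082],[]),
(1,[1753],[]),
(1,[1759,1182],[]),
(1,[729,1760],[]),
(1,[1762],[]),
(1,[1765,730],[]),
(1,[200,1766],[]),
(1,[1769],[]),
(1,[1771,732],[]),
(8,[100,611,609,607],[92,94,8,10,19,117,1720,127,125,196,176,178,428,452,900]),
(6,[104,107,1340,1229,702,609,607,1774,901,453,430,432,434],[103,611,609]),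
(1,[1777],[]),
(1,[1779,608],[]),
(1,[1779,607],[]),
(1,[437,1782],[]),
(1,[1785],[]),
(1,[1787,1774],[]),
(1,[1787,605],[]),
(1,[439,1790],[]),
(1,[1793],[]),
(1,[1795,603],[]),
(1,[441,1796],[]),
(1,[1799],[]),
(1,[1801,456],[]),
(1,[443,1802],[]),
(1,[1801,455],[]),
(1,[1805],[]),
(1,[1809,458],[]),
(1,[445,1810],[]),
(1,[1813],[]),
(1,[1815,460],[]),
(1,[447,1816],[]),
(1,[1815,622],[]),
(1,[1815,1010],[]),
(1,[1525,1822],[]),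
(1,[1819],[]),
(1,[1827,462],[]),
(1,[449,1828],[]),
(1,[1824],[]),
(1,[1833,1352],[]),
(1,[905,1834],[]),
(1,[1833,1506],[]),
(1,[902,1838],[]),
(1,[1831],[]),
(1,[1843,464],[]),
(1,[1214,1844],[]),
(1,[1837],[]),
(1,[1849,1354],[]),
(1,[907,1850],[]),
(1,[1841],[]),
(1,[1855,1063],[]),
(1,[1788,1856],[]),
(1,[1855,1064],[]),
(1,[900,1860],[]),
(1,[1846],[]),
(1,[1865,1214],[]),
(1,[1865,1227],[]),
(1,[1853],[]),
(1,[1871,1356],[]),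
(1,[1871,1528],[]),
(1,[909,1874],[]),
(1,[1859],[]),
(1,[1879,476],[]),
(1,[439,1880],[]),
(1,[1879,475],[]),
(1,[436,1884],[]),
(1,[1863],[]),
(1,[1889,1343,1888],[]),
(1,[452,1890],[]),
(1,[1889,1066],[]),
(1,[1806,1894],[]),
(1,[1877],[]),
(1,[1899,1398],[]),
(1,[1883],[]),
(1,[1903,1228],[]),
(1,[441,1904],[]),
(1,[1903,478],[]),
(1,[1886],[]),
(1,[1911,1780],[]),
(1,[88,1912],[]),
(1,[1911,436],[]),
(1,[1911,435],[]),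
(1,[91,1918],[]),
(1,[1893],[]),
(1,[1923,1807],[]),
(1,[431,1924],[]),
(1,[1923,900],[]),
(1,[428,1928],[]),
(1,[1897],[]),
(1,[1933,1068],[]),
(1,[443,1934],[]),
(1,[1907],[]),
(1,[1939,1230],[]),
(1,[443,1940],[]),
(1,[1939,1341],[]),
(1,[1915],[]),
(1,[1947,610],[]),
(1,[86,1948],[]),
(1,[1921],[]),
(1,[1953,433],[]),
(1,[93,1954],[]),
(1,[1927],[]),
(1,[1959,441],[]),
(1,[1959,442],[]),
(1,[862,1962],[]),
(1,[1959,1944],[]),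
(1,[430,1966],[]),
(1,[1931],[]),
(1,[1971,1789],[]),
(1,[181,1972],[]),
(1,[1971,902],[]),
(1,[178,1976],[]),
(1,[1937],[]),
(1,[1981,1070],[]),
(1,[1943],[]),
(1,[1985,1232],[]),
(1,[1983,1986],[]),
(1,[1951],[]),
(1,[1991,102],[]),
(1,[109,1992],[]),
(1,[1991,101],[]),
(1,[84,1996],[])]
theorem ok3 : data.stepsOK st3 750 = true := by decide +kernel
def st4 : List Step := [
(1,[1957],[]),
(1,[2001,1960],[]),
(1,[92,2002],[]),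
(1,[2001,863],[]),
(1,[97,2006],[]),
(1,[2001,431],[]),
(1,[95,2010],[]),
(1,[1964],[]),
(1,[2015,753],[]),
(1,[1983,2016],[]),
(1,[2015,754],[]),
(1,[445,2020],[]),
(1,[1968],[]),
(1,[2025,429],[]),
(1,[104,2026],[]),
(1,[1975],[]),
(1,[2031,438],[]),
(1,[183,2032],[]),
(1,[2031,1917],[]),
(1,[194,2036],[]),
(1,[1979],[]),
(1,[2041,904],[]),
(1,[176,2042],[]),
(1,[1989],[]),
(1,[2047,1234],[]),
(1,[1073,2048],[]),
(1,[1994],[]),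
(1,[2053,109],[]),
(1,[2053,1756],[]),
(1,[2053,110],[]),
(1,[105,2058],[]),
(1,[2053,303],[]),
(1,[1999],[]),
(1,[2065,92],[]),
(1,[914,2066],[]),
(1,[2065,91],[]),
(1,[82,2070],[]),
(1,[2005,2064],[]),
(1,[2075,1908],[]),
(1,[2015,2009],[]),
(1,[2079,1982],[]),
(1,[261,2080],[]),
(1,[2079,444],[]),
(1,[99,2084],[]),
(1,[2025,2013],[]),
(1,[2089,105],[]),
(1,[9,2090],[]),
(1,[2018],[]),
(1,[2095,1072],[]),
(1,[867,2096],[]),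
(1,[2023],[]),
(1,[2101,756],[]),
(1,[2029],[]),
(1,[2105,179],[]),
(1,[2063,2106],[]),
(1,[2034,2074],[]),
(1,[2111,259],[]),
(1,[914,2112],[]),
(1,[2111,184],[]),
(1,[82,2116],[]),
(1,[2039],[]),
(1,[2045],[]),
(1,[2123,906],[]),
(1,[196,2124],[]),
(1,[2051],[]),
(1,[2129,1236],[]),
(1,[1075,2130],[]),
(1,[2061,2088],[]),
(1,[2135,192],[]),
(1,[94,2136],[]),
(1,[2068],[]),
(1,[2141,914],[]),
(1,[2141,913],[]),
(1,[97,2144],[]),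
(1,[2072,2120],[]),
(1,[2149,81],[]),
(1,[571,2150],[]),
(1,[2149,82],[]),
(1,[17,2154],[]),
(1,[2095,2083],[]),
(1,[2159,866],[]),
(1,[263,2160],[]),
(1,[2087],[]),
(1,[2165,446],[]),
(1,[25,2166],[]),
(1,[2165,1820],[]),
(1,[775,2170],[]),
(1,[2165,2102],[]),
(1,[22,2174],[]),
(1,[2093],[]),
(1,[2179,2054],[]),
(1,[11,2180],[]),
(1,[2179,2056],[]),
(1,[205,2184],[]),
(1,[2099],[]),
(1,[2189,1074],[]),
(1,[869,2190],[]),
(1,[2108],[]),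
(1,[2195,301],[]),
(1,[176,2196],[]),
(1,[2115,2140],[]),
(1,[2201,1631],[]),
(1,[97,2202],[]),
(1,[2149,2118],[]),
(1,[2207,15],[]),
(1,[2207,570],[]),
(1,[569,2210],[]),
(1,[2207,16],[]),
(1,[2127],[]),
(1,[2217,1872],[]),
(1,[122,2218],[]),
(1,[2217,908],[]),
(1,[125,2222],[]),
(1,[2133],[]),
(1,[2227,1238],[]),
(1,[2139],[]),
(1,[2231,872],[]),
(1,[2147],[]),
(1,[2235,911],[]),
(1,[261,2236],[]),
(1,[2152],[]),
(1,[2241,572],[]),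
(1,[2241,853],[]),
(1,[2241,747],[]),
(1,[78,2246],[]),
(1,[2157],[]),
(1,[2251,2143],[]),
(1,[2251,2076],[]),
(1,[871,2254],[]),
(1,[2163],[]),
(1,[2259,868],[]),
(1,[265,2260],[]),
(1,[2169],[]),
(1,[2265,448],[]),
(1,[131,2266],[]),
(1,[2265,559],[]),
(1,[27,2270],[]),
(1,[2172],[]),
(1,[2275,1165],[]),
(1,[2275,775],[]),
(1,[2275,1335],[]),
(1,[2275,776],[]),
(1,[625,2282],[]),
(1,[2177],[]),
(1,[2287,177],[]),
(1,[119,2288],[]),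
(1,[2183],[]),
(1,[2293,882],[]),
(1,[207,2294],[]),
(1,[2187],[]),
(1,[2299,1084],[]),
(1,[236,2300],[]),
(1,[2193],[]),
(1,[2305,2228],[]),
(1,[277,2306],[]),
(1,[2199],[]),
(1,[2311,716],[]),
(1,[196,2312],[]),
(1,[2311,299],[]),
(1,[174,2316],[]),
(1,[2205],[]),
(1,[2321,213],[]),
(1,[261,2322],[]),
(1,[2321,214],[]),
(1,[99,2326],[]),
(1,[2212,2240],[]),
(1,[2331,2243],[]),
(1,[2331,569],[]),
(1,[2331,701],[]),
(1,[2245,2336],[]),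
(1,[2331,601],[]),
(1,[78,2340],[]),
(1,[2221],[]),
(1,[2225],[]),
(1,[2347,1900],[]),
(1,[203,2348],[]),
(1,[2238,2346],[]),
(1,[2353,261],[]),
(1,[2353,262],[]),
(1,[203,2356],[]),
(1,[2249],[]),
(1,[2361,745],[]),
(1,[2256],[]),
(1,[2365,875],[]),
(1,[2365,871],[]),
(1,[2365,1009],[]),
(1,[2365,899],[]),
(1,[481,2372],[]),
(1,[2263],[]),
(1,[2377,275],[]),
(1,[267,2378],[]),
(1,[2377,276],[]),
(1,[721,2382],[]),
(1,[2269],[]),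
(1,[2387,1867],[]),
(1,[157,2388],[]),
(1,[2273],[]),
(1,[2393,134],[]),
(1,[29,2394],[]),
(1,[2393,133],[]),
(1,[2285],[]),
(1,[2401,1203],[]),
(1,[2291],[]),
(1,[2405,175],[]),
(1,[154,2406],[]),
(1,[2297],[]),
(1,[2411,884],[]),
(1,[426,2412],[]),
(1,[2303],[]),
(1,[2417,1086],[]),
(1,[2309],[]),
(1,[2421,1240],[]),
(1,[772,2422],[]),
(1,[2314,2344],[]),
(1,[2427,123],[]),
(1,[2319],[]),
(1,[2431,297],[]),
(1,[2431,721],[]),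
(1,[172,2434],[]),
(1,[2325,2352],[]),
(1,[2439,394],[]),
(1,[203,2440],[]),
(1,[2439,211],[]),
(1,[2329],[]),
(1,[2447,216],[]),
(1,[25,2448],[]),
(1,[2338],[]),
(1,[2453,2245],[]),
(1,[2343],[]),
(1,[2457,599],[]),
(1,[2363,2458],[]),
(1,[2351],[]),
(1,[2463,1400],[]),
(1,[168,2464],[]),
(1,[2359],[]),
(1,[2469,288],[]),
(1,[168,2470],[]),
(1,[2375],[]),
(1,[2475,897],[]),
(1,[2381],[]),
(1,[2479,273],[]),
(1,[2385,2430],[]),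
(1,[2483,773],[]),
(1,[2433,2484],[]),
(1,[2391],[]),
(1,[2489,466],[]),
(1,[159,2490],[]),
(1,[2489,1868],[]),
(1,[1174,2494],[]),
(1,[2397],[])]
theorem ok4 : data.stepsOK st4 1000 = true := by decide +kernel
def st5 : List Step := [
(1,[2499,136],[]),
(1,[1359,2500],[]),
(1,[2499,1548],[]),
(1,[31,2504],[]),
(1,[2409],[]),
(1,[2509,2432],[]),
(1,[408,2510],[]),
(1,[2509,1746],[]),
(1,[2509,173],[]),
(1,[152,2516],[]),
(1,[2415],[]),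
(1,[2521,886],[]),
(1,[424,2522],[]),
(1,[2425],[]),
(1,[2527,1242],[]),
(1,[2437],[]),
(1,[2531,266],[]),
(1,[2442],[]),
(1,[2535,169],[]),
(1,[148,2536],[]),
(1,[2535,203],[]),
(1,[2451],[]),
(1,[2543,218],[]),
(1,[131,2544],[]),
(1,[2460],[]),
(1,[2549,2363],[]),
(1,[2467],[]),
(1,[2553,1402],[]),
(1,[1725,2554],[]),
(1,[2473],[]),
(1,[2559,290],[]),
(1,[1725,2560],[]),
(1,[2559,1339],[]),
(1,[166,2564],[]),
(1,[2487],[]),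
(1,[2569,2528],[]),
(1,[1217,2570],[]),
(1,[2493],[]),
(1,[2575,468],[]),
(1,[161,2576],[]),
(1,[2497],[]),
(1,[2581,1225],[]),
(1,[2502],[]),
(1,[2585,1495],[]),
(1,[1019,2586],[]),
(1,[2585,1360],[]),
(1,[139,2590],[]),
(1,[2585,1359],[]),
(1,[2507],[]),
(1,[2597,239],[]),
(1,[33,2598],[]),
(1,[2597,240],[]),
(1,[1248,2602],[]),
(1,[2512],[]),
(1,[2607,408],[]),
(1,[2607,1663],[]),
(1,[1217,2610],[]),
(1,[2607,407],[]),
(1,[294,2614],[]),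
(1,[2519],[]),
(1,[2619,2532],[]),
(1,[1060,2620],[]),
(1,[2619,1414],[]),
(1,[2525],[]),
(1,[2627,888],[]),
(1,[2539],[]),
(1,[2631,1724],[]),
(1,[2631,167],[]),
(1,[146,2634],[]),
(1,[2547],[]),
(1,[2639,1686],[]),
(1,[157,2640],[]),
(1,[2639,220],[]),
(1,[2557],[]),
(1,[2647,1404],[]),
(1,[401,2648],[]),
(1,[2562],[]),
(1,[2653,400],[]),
(1,[1041,2654],[]),
(1,[2653,926],[]),
(1,[293,2658],[]),
(1,[2653,2633],[]),
(1,[2567],[]),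
(1,[2665,1220],[]),
(1,[164,2666],[]),
(1,[2665,1219],[]),
(1,[2573],[]),
(1,[2673,1244],[]),
(1,[2579],[]),
(1,[2677,470],[]),
(1,[163,2678],[]),
(1,[2589],[]),
(1,[2683,2583],[]),
(1,[1021,2684],[]),
(1,[2683,1223],[]),
(1,[2593],[]),
(1,[2691,1362],[]),
(1,[2691,1496],[]),
(1,[141,2694],[]),
(1,[2601],[]),
(1,[2699,160],[]),
(1,[35,2700],[]),
(1,[2699,159],[]),
(1,[2604],[]),
(1,[2707,1248],[]),
(1,[2612],[]),
(1,[2711,2674],[]),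
(1,[925,2712],[]),
(1,[2711,2671],[]),
(1,[2711,1217],[]),
(1,[2617],[]),
(1,[2721,405],[]),
(1,[1412,2722],[]),
(1,[2622],[]),
(1,[2727,1060],[]),
(1,[2727,1059],[]),
(1,[269,2730],[]),
(1,[2637],[]),
(1,[2735,2717],[]),
(1,[144,2736],[]),
(1,[2643],[]),
(1,[2741,582],[]),
(1,[2704,2742],[]),
(1,[2651],[]),
(1,[2747,1406],[]),
(1,[403,2748],[]),
(1,[2656],[]),
(1,[2753,1041],[]),
(1,[2753,1042],[]),
(1,[2661],[]),
(1,[2759,928],[]),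
(1,[295,2760],[]),
(1,[2669],[]),
(1,[2765,2689],[]),
(1,[2681],[]),
(1,[2769,472],[]),
(1,[2687],[]),
(1,[2773,1173],[]),
(1,[2773,1174],[]),
(1,[2697],[]),
(1,[2703],[]),
(1,[2781,162],[]),
(1,[2714,2778],[]),
(1,[2785,1682],[]),
(1,[140,2786],[]),
(1,[2724],[]),
(1,[2791,1412],[]),
(1,[2791,1411],[]),
(1,[402,2794],[]),
(1,[2733],[]),
(1,[2799,1057],[]),
(1,[1185,2800],[]),
(1,[2739],[]),
(1,[2805,2718],[]),
(1,[2745],[]),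
(1,[2809,584],[]),
(1,[200,2810],[]),
(1,[2751],[]),
(1,[2815,1408],[]),
(1,[2763],[]),
(1,[2819,930],[]),
(1,[2789],[]),
(1,[2823,2775],[]),
(1,[2693,2824],[]),
(1,[2797],[]),
(1,[2829,2817],[]),
(1,[2757,2830],[]),
(1,[2802],[]),
(1,[2835,1185],[]),
(1,[2835,1186],[]),
(1,[1054,2838],[]),
(1,[2813],[]),
(1,[2843,586],[]),
(1,[1773,2844],[]),
(1,[2826],[]),
(1,[2849,2693],[]),
(1,[2849,1364],[]),
(1,[2777,2852],[]),
(1,[2832],[]),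
(1,[2857,2757],[]),
(1,[2857,1044],[]),
(1,[402,2860],[]),
(1,[2841],[]),
(1,[2865,1188],[]),
(1,[2846],[]),
(1,[2869,1773],[]),
(1,[2855],[]),
(1,[2873,1366],[]),
(1,[156,2874],[]),
(1,[2863],[]),
(1,[2879,1046],[]),
(1,[2755,2880],[]),
(1,[2877],[]),
(1,[2885,1368],[]),
(1,[2398,2886],[]),
(1,[2883],[]),
(1,[2891,1048],[]),
(1,[293,2892],[]),
(1,[2889],[]),
(1,[2897,1370],[]),
(1,[2895],[]),
(1,[2901,1050],[]),
(1,[295,2902],[]),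
(1,[2905],[]),
(1,[2907,1052],[]),
(1,[2609,2908],[]),
(1,[2911],[]),
(1,[2913,2866],[]),
(1,[2515,2914],[]),
(1,[2913,1054],[]),
(1,[152,2918],[]),
(1,[2917],[]),
(1,[2923,1190],[]),
(1,[317,2924],[]),
(1,[2921],[]),
(1,[2929,2836],[]),
(1,[2728,2930],[]),
(1,[2927],[]),
(1,[2935,1192],[]),
(1,[2933],[]),
(1,[2939,270],[]),
(1,[269,2940],[]),
(1,[2943,2938],[]),
(1,[2945,2481],[]),
(10,[2851,1022],[1558]),
(10,[2609,2820],[2514]),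
(12,[1272,1274,1276,1278,1280,1282,1284,1286,1288,1290,1292,1294,1296,1298,1300,1302,1304,1306,1308,1310,1312,1314,1316,1318,1320,1322,1324,1326,1328,1330,1332,2281,2276,1493,1491,1489,1487,1485,1483,1481,1479,1477,1475,1473,1471,1469,1467,1465],[]),
(10,[1273,2953,1463],[]),
(12,[1304,1306,1308,1310,1312,1314,1316,1318,1320,1322,1324,1326,1328,1330,1332,2281,2276,1493,1491,1489,1487,1485,1483,1481,1479,1477,1475,1473,1471,1469,1467,1465,1463,1461,1459,1457,1455,1453,1451,1449,1447,1445,1443,1441,1439,1437,1435,1433],[]),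
(10,[1305,2957,1431],[]),
(0,[],[]),
(10,[28,2960],[2898]),
(0,[],[]),
(0,[],[]),
(0,[],[]),
(0,[],[]),
(0,[],[]),
(0,[],[]),
(11,[2398,156,2705,34,36,38,40,42,2964,2966,2968,2970,2972,2974],[2898,1372,1374]),
(0,[],[]),
(8,[2398,131,25,23,118,120,2429,121,155,2609,2807,144,2771,2783,36,2978],[28,30,2709]),
(0,[],[]),
(0,[],[]),
(0,[],[]),
(0,[],[]),
(5,[27,130,2399,28,2595,138,2851,2776,2705,34,36,38,2982,2984,2986,2988],[28,30,2709,2981]),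
(0,[],[]),
(0,[],[]),
(0,[],[]),
(0,[],[])]
theorem ok5 : data.stepsOK st5 1250 = true := by decide +kernel
def st6 : List Step := [
(0,[],[]),
(0,[],[]),
(0,[],[]),
(0,[],[]),
(0,[],[]),
(0,[],[]),
(0,[],[]),
(0,[],[]),
(0,[],[]),
(0,[],[]),
(0,[],[]),
(0,[],[]),
(0,[],[]),
(0,[],[]),
(0,[],[]),
(0,[],[]),
(0,[],[]),
(0,[],[]),
(0,[],[]),
(0,[],[]),
(0,[],[]),
(0,[],[]),
(0,[],[]),
(0,[],[]),
(0,[],[]),
(0,[],[]),
(0,[],[]),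
(0,[],[]),
(0,[],[]),
(0,[],[]),
(0,[],[]),
(0,[],[]),
(0,[],[]),
(0,[],[]),
(12,[28,2595,1018,1020,2850,140,1570,2708,199,2992,2994,2996,2998,3000,3002,3004,3006,3008,3010,3012,3014,3016,3018,3020,3022,3024,3026,3028,3030,3032,3034,3036,3038,3040,3042,3044,3046,3048,3050,3052,3054,3056,3058,3060,3062,3064,3066],[2898]),
(0,[],[]),
(0,[],[]),
(0,[],[]),
(0,[],[]),
(0,[],[]),
(0,[],[]),
(11,[30,32,34,2782,2770,146,148,150,2624,1416,3070,3072,3074,3076,3078,3080],[2960]),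
(0,[],[]),
(0,[],[]),
(0,[],[]),
(0,[],[]),
(0,[],[]),
(0,[],[]),
(0,[],[]),
(0,[],[]),
(0,[],[]),
(0,[],[]),
(0,[],[]),
(0,[],[]),
(0,[],[]),
(0,[],[]),
(0,[],[]),
(0,[],[]),
(0,[],[]),
(0,[],[]),
(0,[],[]),
(0,[],[]),
(0,[],[]),
(0,[],[]),
(0,[],[]),
(0,[],[]),
(0,[],[]),
(0,[],[]),
(0,[],[]),
(0,[],[]),
(0,[],[]),
(0,[],[]),
(0,[],[]),
(0,[],[]),
(0,[],[]),
(0,[],[]),
(0,[],[]),
(0,[],[]),
(0,[],[]),
(12,[29,27,25,23,118,120,2445,2541,1592,412,3084,3086,3088,3090,3092,3094,3096,3098,3100,3102,3104,3106,3108,3110,3112,3114,3116,3118,3120,3122,3124,3126,3128,3130,3132,3134,3136,3138,3140,3142,3144,3146,3148,3150,3152,3154,3156],[2960]),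
(7,[34,2782,2766,1019,138,2851,2776,2705,34,36,38,40,42,44,46],[33,2709,2981,2991,2989,2987,2985,2983,40]),
(1,[3160],[]),
(1,[3163,48],[]),
(1,[3163,47],[]),
(4,[2782,2770,145,143,1570,2981,2991],[36,38,40,3166]),
(8,[35,2704,157,2399,28,2595,1018,2767,2783,36,38,2982,2984],[36,2978,2991,3168,3167,41,2982]),
(1,[3170],[]),
(1,[3173,2985],[]),
(1,[3173,2986],[]),
(5,[38,2982,3176],[37,35,2704,157,131,26,2398,156,2777,1021,1019,2594,30,2709,2981,2991,2989]),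
(12,[3038,3040,3042,3044,3046,3048,3050,3052,3054,3056,3058,3060,3062,3064,3066,3068,2963,3159,3157,3155,3153,3151,3149,3147,3145,3143,3141,3139,3137,3135,3133,3131,3129,3127,3125,3123,3121,3119,3117,3115,3113,3111,3109,3107,3105,3103,3101,3099],[]),
(10,[3039,3181,3097],[]),
(0,[],[]),
(0,[],[]),
(0,[],[]),
(0,[],[]),
(0,[],[]),
(0,[],[]),
(0,[],[]),
(0,[],[]),
(0,[],[]),
(11,[2709,2981,2979,38,40,42,3184,3186,3188,3190,3192,3194,3196,3198,3200],[199,2992]),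
(0,[],[]),
(6,[34,36,38,40,42,3184,3186,3204],[33,2709,2981,2991,3168,45,3184]),
(0,[],[]),
(0,[],[]),
(0,[],[]),
(0,[],[]),
(0,[],[]),
(0,[],[]),
(11,[2704,157,2399,27,25,23,118,120,3208,3210,3212,3214,3216,3218],[201,2871,588]),
(0,[],[]),
(0,[],[]),
(10,[36,3224],[3222]),
(0,[],[]),
(0,[],[]),
(0,[],[]),
(0,[],[]),
(0,[],[]),
(0,[],[]),
(0,[],[]),
(0,[],[]),
(11,[35,33,31,2595,1018,1020,2850,140,3228,3230,3232,3234,3236,3238,3240,3242],[3222]),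
(0,[],[]),
(0,[],[]),
(0,[],[]),
(0,[],[]),
(0,[],[]),
(0,[],[]),
(0,[],[]),
(0,[],[]),
(0,[],[]),
(0,[],[]),
(0,[],[]),
(0,[],[]),
(0,[],[]),
(0,[],[]),
(0,[],[]),
(0,[],[]),
(0,[],[]),
(0,[],[]),
(0,[],[]),
(0,[],[]),
(0,[],[]),
(0,[],[]),
(0,[],[]),
(0,[],[]),
(0,[],[]),
(0,[],[]),
(0,[],[]),
(0,[],[]),
(0,[],[]),
(0,[],[]),
(0,[],[]),
(0,[],[]),
(0,[],[]),
(0,[],[]),
(0,[],[]),
(0,[],[]),
(0,[],[]),
(0,[],[]),
(0,[],[]),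
(0,[],[]),
(0,[],[]),
(12,[36,38,40,42,3184,3186,3246,3248,3250,3252,3254,3256,3258,3260,3262,3264,3266,3268,3270,3272,3274,3276,3278,3280,3282,3284,3286,3288,3290,3292,3294,3296,3298,3300,3302,3304,3306,3308,3310,3312,3314,3316,3318,3320,3322,3324,3326],[3222]),
(4,[2982,3175,2983,40,42,3184,3207,3205,3246],[40,42,3184]),
(1,[3330],[]),
(1,[3333,3248],[]),
(1,[3187,3334],[]),
(1,[3333,3247],[]),
(1,[3206,3338],[]),
(1,[3337],[]),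
(1,[3343,3250],[]),
(1,[3189,3344],[]),
(1,[3340],[]),
(1,[3349,3205],[]),
(1,[3349,3206],[]),
(1,[3347],[]),
(1,[3355,3252],[]),
(1,[3191,3356],[]),
(1,[3359],[]),
(1,[3361,3254],[]),
(10,[2429,3208],[3208]),
(10,[3351,3188],[3188]),
(0,[],[]),
(0,[],[]),
(0,[],[]),
(0,[],[]),
(0,[],[]),
(11,[2978,2980,2708,31,29,27,25,23,1012,1039,1037,3368,3370,3372,3374,3376],[3224]),
(0,[],[]),
(0,[],[]),
(0,[],[]),
(0,[],[]),
(0,[],[]),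
(0,[],[]),
(0,[],[]),
(0,[],[]),
(0,[],[]),
(0,[],[]),
(0,[],[]),
(0,[],[]),
(0,[],[]),
(0,[],[]),
(0,[],[]),
(0,[],[]),
(0,[],[]),
(0,[],[]),
(0,[],[]),
(0,[],[]),
(0,[],[]),
(0,[],[]),
(0,[],[]),
(0,[],[]),
(0,[],[]),
(0,[],[]),
(0,[],[]),
(0,[],[]),
(0,[],[]),
(0,[],[]),
(0,[],[]),
(0,[],[]),
(0,[],[]),
(0,[],[]),
(0,[],[]),
(0,[],[]),
(0,[],[]),
(0,[],[]),
(12,[37,2782,2770,146,148,150,152,154,1014,3380,3382,3384,3386,3388,3390,3392,3394,3396,3398,3400,3402,3404,3406,3408,3410,3412,3414,3416,3418,3420,3422,3424,3426,3428,3430,3432,3434,3436,3438,3440,3442,3444,3446,3448,3450,3452,3454],[3224]),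
(0,[],[]),
(10,[40,3164],[3458]),
(0,[],[]),
(0,[],[]),
(0,[],[]),
(0,[],[]),
(0,[],[]),
(0,[],[]),
(0,[],[]),
(0,[],[]),
(11,[39,37,2782,2766,1019,138,2851,2776,3462,3464,3466,3468,3470,3472,3474,3476],[3458]),
(0,[],[]),
(0,[],[]),
(0,[],[]),
(0,[],[]),
(0,[],[]),
(0,[],[]),
(0,[],[]),
(0,[],[]),
(0,[],[]),
(0,[],[])]
theorem ok6 : data.stepsOK st6 1500 = true := by decide +kernel
def st7 : List Step := [
(0,[],[]),
(0,[],[]),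
(0,[],[]),
(0,[],[]),
(0,[],[]),
(0,[],[]),
(0,[],[]),
(0,[],[]),
(0,[],[]),
(0,[],[]),
(0,[],[]),
(0,[],[]),
(0,[],[]),
(0,[],[]),
(0,[],[]),
(0,[],[]),
(0,[],[]),
(0,[],[]),
(0,[],[]),
(0,[],[]),
(0,[],[]),
(0,[],[]),
(0,[],[]),
(0,[],[]),
(0,[],[]),
(0,[],[]),
(0,[],[]),
(0,[],[]),
(0,[],[]),
(12,[40,42,3184,3186,3351,3352,3186,3352,3480,3482,3484,3486,3488,3490,3492,3494,3496,3498,3500,3502,3504,3506,3508,3510,3512,3514,3516,3518,3520,3522,3524,3526,3528,3530,3532,3534,3536,3538,3540,3542,3544,3546,3548,3550,3552,3554,3556],[3458]),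
(10,[3184,3480],[2964]),
(10,[156,3462],[2644]),
(12,[3266,3268,3270,3272,3274,3276,3278,3280,3282,3284,3286,3288,3290,3292,3294,3296,3298,3300,3302,3304,3306,3308,3310,3312,3314,3316,3318,3320,3322,3324,3326,3328,3227,3457,3455,3453,3451,3449,3447,3445,3443,3441,3439,3437,3435,3433,3431,3429],[]),
(10,[3267,3565,3427],[]),
(12,[3298,3300,3302,3304,3306,3308,3310,3312,3314,3316,3318,3320,3322,3324,3326,3328,3227,3457,3455,3453,3451,3449,3447,3445,3443,3441,3439,3437,3435,3433,3431,3429,3427,3425,3423,3421,3419,3417,3415,3413,3411,3409,3407,3405,3403,3401,3399,3397],[]),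
(0,[],[]),
(0,[],[]),
(0,[],[]),
(0,[],[]),
(0,[],[]),
(0,[],[]),
(0,[],[]),
(11,[3166,3169,2990,2979,37,2782,2770,146,3570,3572,3574,3576,3578,3580,3582],[3164,50]),
(0,[],[]),
(0,[],[]),
(0,[],[]),
(0,[],[]),
(0,[],[]),
(0,[],[]),
(0,[],[]),
(0,[],[]),
(0,[],[]),
(0,[],[]),
(0,[],[]),
(0,[],[]),
(0,[],[]),
(0,[],[]),
(0,[],[]),
(0,[],[]),
(0,[],[]),
(0,[],[]),
(0,[],[]),
(0,[],[]),
(0,[],[]),
(0,[],[]),
(0,[],[]),
(0,[],[]),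
(0,[],[]),
(0,[],[]),
(0,[],[]),
(0,[],[]),
(0,[],[]),
(0,[],[]),
(0,[],[]),
(0,[],[]),
(0,[],[]),
(0,[],[]),
(0,[],[]),
(0,[],[]),
(0,[],[]),
(12,[41,2982,3175,3176,3179,2988,2990,2979,3224,3379,3586,3588,3590,3592,3594,3596,3598,3600,3602,3604,3606,3608,3610,3612,3614,3616,3618,3620,3622,3624,3626,3628,3630,3632,3634,3636,3638,3640,3642,3644,3646,3648,3650,3652,3654,3656,3658],[3164]),
(0,[],[]),
(0,[],[]),
(0,[],[]),
(11,[43,41,2982,3176,3179,2988,3168,3167,3164,50,3585,3662,3664,3666],[2964,2966,2968]),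
(0,[],[]),
(0,[],[]),
(0,[],[]),
(0,[],[]),
(0,[],[]),
(0,[],[]),
(0,[],[]),
(0,[],[]),
(0,[],[]),
(0,[],[]),
(0,[],[]),
(0,[],[]),
(0,[],[]),
(0,[],[]),
(0,[],[]),
(0,[],[]),
(0,[],[]),
(0,[],[]),
(0,[],[]),
(0,[],[]),
(0,[],[]),
(0,[],[]),
(0,[],[]),
(0,[],[]),
(0,[],[]),
(0,[],[]),
(0,[],[]),
(0,[],[]),
(0,[],[]),
(0,[],[]),
(0,[],[]),
(0,[],[]),
(0,[],[]),
(0,[],[]),
(0,[],[]),
(0,[],[]),
(0,[],[]),
(12,[3184,3186,3351,3352,3185,44,3167,42,2964,2966,3670,3672,3674,3676,3678,3680,3682,3684,3686,3688,3690,3692,3694,3696,3698,3700,3702,3704,3706,3708,3710,3712,3714,3716,3718,3720,3722,3724,3726,3728,3730,3732,3734,3736,3738,3740,3742],[2964]),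
(10,[148,1592],[3570]),
(12,[3496,3498,3500,3502,3504,3506,3508,3510,3512,3514,3516,3518,3520,3522,3524,3526,3528,3530,3532,3534,3536,3538,3540,3542,3544,3546,3548,3550,3552,3554,3556,3558,3461,3661,3659,3657,3655,3653,3651,3649,3647,3645,3643,3641,3639,3637,3635,3633],[]),
(10,[3497,3749,3631],[]),
(12,[3528,3530,3532,3534,3536,3538,3540,3542,3544,3546,3548,3550,3552,3554,3556,3558,3461,3661,3659,3657,3655,3653,3651,3649,3647,3645,3643,3641,3639,3637,3635,3633,3631,3629,3627,3625,3623,3621,3619,3617,3615,3613,3611,3609,3607,3605,3603,3601],[]),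
(10,[3529,3753,3599],[]),
(0,[],[]),
(0,[],[]),
(10,[3169,3758],[3756]),
(0,[],[]),
(0,[],[]),
(0,[],[]),
(0,[],[]),
(0,[],[]),
(0,[],[]),
(0,[],[]),
(0,[],[]),
(11,[45,3184,3186,3352,3185,44,3169,2990,3762,3764,3766,3768,3770,3772,3774,3776],[3756]),
(0,[],[]),
(0,[],[]),
(0,[],[]),
(0,[],[]),
(0,[],[]),
(0,[],[]),
(0,[],[]),
(0,[],[]),
(0,[],[]),
(0,[],[]),
(0,[],[]),
(0,[],[]),
(0,[],[]),
(0,[],[]),
(0,[],[]),
(0,[],[]),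
(0,[],[]),
(0,[],[]),
(0,[],[]),
(0,[],[]),
(0,[],[]),
(0,[],[]),
(0,[],[]),
(0,[],[]),
(0,[],[]),
(0,[],[]),
(0,[],[]),
(0,[],[]),
(0,[],[]),
(0,[],[]),
(0,[],[]),
(0,[],[]),
(0,[],[]),
(0,[],[]),
(0,[],[]),
(0,[],[]),
(0,[],[]),
(0,[],[]),
(0,[],[]),
(12,[3169,2990,2980,2708,32,34,2782,2766,3780,3782,3784,3786,3788,3790,3792,3794,3796,3798,3800,3802,3804,3806,3808,3810,3812,3814,3816,3818,3820,3822,3824,3826,3828,3830,3832,3834,3836,3838,3840,3842,3844,3846,3848,3850,3852,3854,3856],[3756]),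
(0,[],[]),
(3,[3661,3860],[50,52,54]),
(0,[],[]),
(0,[],[]),
(0,[],[]),
(0,[],[]),
(0,[],[]),
(0,[],[]),
(4,[3661,3659,3864,3866,3868,3870,3872,3874],[3460,3559,3557]),
(0,[],[]),
(0,[],[]),
(0,[],[]),
(0,[],[]),
(0,[],[]),
(0,[],[]),
(0,[],[]),
(6,[3661,3659,3657,3655,3653,3878,3880,3882,3884,3886,3888,3890],[3460,3479,3477]),
(0,[],[]),
(0,[],[]),
(0,[],[]),
(0,[],[]),
(0,[],[]),
(0,[],[]),
(0,[],[]),
(0,[],[]),
(0,[],[]),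
(0,[],[]),
(0,[],[]),
(0,[],[]),
(0,[],[]),
(0,[],[]),
(0,[],[]),
(8,[50,52,3894,3896,3898,3900,3902,3904,3906,3908,3910,3912,3914,3916,3918,3920,3922],[3460,3479]),
(0,[],[]),
(0,[],[]),
(0,[],[]),
(0,[],[]),
(0,[],[]),
(0,[],[]),
(0,[],[]),
(0,[],[]),
(0,[],[]),
(0,[],[]),
(0,[],[]),
(0,[],[]),
(5,[3661,3860,3862,56,3926,3928,3930,3932,3934,3936,3938,3940,3942,3944,3946,3948],[3460,3479,3925,3923]),
(0,[],[]),
(0,[],[]),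
(0,[],[]),
(0,[],[]),
(0,[],[]),
(0,[],[]),
(0,[],[]),
(0,[],[]),
(0,[],[]),
(0,[],[]),
(0,[],[]),
(0,[],[]),
(0,[],[]),
(0,[],[]),
(7,[3661,3860,3862,56,3926,3952,3954,3956,3958,3960,3962,3964,3966,3968,3970,3972,3974,3976,3978],[3460,3479,3477,3893]),
(3,[],[3472,3474,3893,3981,3979]),
(0,[],[]),
(0,[],[]),
(10,[3585,3986],[3984]),
(0,[],[]),
(0,[],[]),
(0,[],[]),
(0,[],[]),
(4,[51,3460,3479,3477,3475,3990,3992,3994,3996],[3585,3583])]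
theorem ok7 : data.stepsOK st7 1750 = true := by decide +kernel
def st8 : List Step := [
(0,[],[]),
(0,[],[]),
(0,[],[]),
(0,[],[]),
(6,[51,3460,3559,3557,3555,3553,3551,4000,4002,4004,4006],[3585,3662,3664,3666]),
(0,[],[]),
(0,[],[]),
(0,[],[]),
(0,[],[]),
(0,[],[]),
(0,[],[]),
(0,[],[]),
(0,[],[]),
(0,[],[]),
(0,[],[]),
(0,[],[]),
(0,[],[]),
(0,[],[]),
(11,[52,3894,3896,4010,4012,4014,4016,4018,4020,4022,4024,4026,4028,4030,4032,4034],[3984]),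
(0,[],[]),
(0,[],[]),
(0,[],[]),
(0,[],[]),
(0,[],[]),
(0,[],[]),
(0,[],[]),
(0,[],[]),
(0,[],[]),
(0,[],[]),
(0,[],[]),
(8,[52,54,56,3926,3952,3954,4038,4040,4042,4044,4046,4048,4050,4052,4054,4056,4058],[3585,3662]),
(0,[],[]),
(0,[],[]),
(0,[],[]),
(0,[],[]),
(0,[],[]),
(0,[],[]),
(0,[],[]),
(0,[],[]),
(0,[],[]),
(0,[],[]),
(0,[],[]),
(0,[],[]),
(0,[],[]),
(5,[51,3661,3860,4062,4064,4066,4068,4070,4072,4074,4076,4078,4080,4082,4084,4086],[3585,3662,4061,4059]),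
(0,[],[]),
(0,[],[]),
(0,[],[]),
(0,[],[]),
(0,[],[]),
(0,[],[]),
(0,[],[]),
(0,[],[]),
(0,[],[]),
(0,[],[]),
(7,[51,3661,3860,4062,4064,4090,4092,4094,4096,4098,4100,4102,4104,4106,4108],[3585,3662,3664,3666,3668,2970,2972,2974]),
(0,[],[]),
(0,[],[]),
(0,[],[]),
(0,[],[]),
(0,[],[]),
(0,[],[]),
(0,[],[]),
(0,[],[]),
(0,[],[]),
(0,[],[]),
(0,[],[]),
(0,[],[]),
(0,[],[]),
(0,[],[]),
(0,[],[]),
(0,[],[]),
(0,[],[]),
(0,[],[]),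
(0,[],[]),
(0,[],[]),
(0,[],[]),
(0,[],[]),
(0,[],[]),
(0,[],[]),
(0,[],[]),
(0,[],[]),
(0,[],[]),
(0,[],[]),
(0,[],[]),
(0,[],[]),
(0,[],[]),
(0,[],[]),
(0,[],[]),
(0,[],[]),
(0,[],[]),
(0,[],[]),
(0,[],[]),
(0,[],[]),
(0,[],[]),
(0,[],[]),
(0,[],[]),
(0,[],[]),
(0,[],[]),
(0,[],[]),
(12,[3585,3583,3999,4112,4114,4116,4118,4120,4122,4124,4126,4128,4130,4132,4134,4136,4138,4140,4142,4144,4146,4148,4150,4152,4154,4156,4158,4160,4162,4164,4166,4168,4170,4172,4174,4176,4178,4180,4182,4184,4186,4188,4190,4192,4194,4196,4198],[3984]),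
(0,[],[]),
(0,[],[]),
(10,[3894,4204],[4202]),
(0,[],[]),
(0,[],[]),
(0,[],[]),
(0,[],[]),
(4,[53,3585,3662,3664,4208,4210,4212,4214],[3894,3896,3898]),
(0,[],[]),
(0,[],[]),
(0,[],[]),
(0,[],[]),
(0,[],[]),
(0,[],[]),
(0,[],[]),
(6,[53,3585,3583,3999,4112,4114,4116,4218,4220,4222,4224,4226,4228,4230],[3894]),
(0,[],[]),
(0,[],[]),
(0,[],[]),
(0,[],[]),
(0,[],[]),
(0,[],[]),
(0,[],[]),
(0,[],[]),
(0,[],[]),
(0,[],[]),
(11,[54,56,3926,3928,3930,3932,4234,4236,4238,4240,4242,4244,4246,4248,4250,4252],[4202]),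
(0,[],[]),
(0,[],[]),
(0,[],[]),
(0,[],[]),
(0,[],[]),
(0,[],[]),
(0,[],[]),
(0,[],[]),
(0,[],[]),
(0,[],[]),
(0,[],[]),
(8,[54,3863,4062,4064,4090,4092,4256,4258,4260,4262,4264,4266,4268,4270,4272,4274,4276],[3894,4233]),
(0,[],[]),
(0,[],[]),
(0,[],[]),
(0,[],[]),
(0,[],[]),
(0,[],[]),
(0,[],[]),
(0,[],[]),
(0,[],[]),
(0,[],[]),
(0,[],[]),
(5,[53,51,3661,3659,3657,4280,4282,4284,4286,4288,4290,4292,4294,4296,4298,4300],[3894,4233,4279,4277]),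
(0,[],[]),
(0,[],[]),
(0,[],[]),
(0,[],[]),
(0,[],[]),
(0,[],[]),
(0,[],[]),
(0,[],[]),
(0,[],[]),
(0,[],[]),
(7,[53,51,3661,3659,3657,3655,3653,3651,3649,4304,4306,4308,4310,4312,4314,4316,4318,4320,4322],[3894,4233,4231,4229]),
(0,[],[]),
(0,[],[]),
(0,[],[]),
(0,[],[]),
(0,[],[]),
(0,[],[]),
(0,[],[]),
(0,[],[]),
(0,[],[]),
(0,[],[]),
(0,[],[]),
(0,[],[]),
(0,[],[]),
(0,[],[]),
(0,[],[]),
(0,[],[]),
(0,[],[]),
(0,[],[]),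
(0,[],[]),
(0,[],[]),
(0,[],[]),
(0,[],[]),
(0,[],[]),
(0,[],[]),
(0,[],[]),
(0,[],[]),
(0,[],[]),
(0,[],[]),
(0,[],[]),
(0,[],[]),
(0,[],[]),
(0,[],[]),
(0,[],[]),
(0,[],[]),
(0,[],[]),
(0,[],[]),
(0,[],[]),
(0,[],[]),
(0,[],[]),
(0,[],[]),
(0,[],[]),
(0,[],[]),
(12,[3894,3896,3898,3900,3902,4326,4328,4330,4332,4334,4336,4338,4340,4342,4344,4346,4348,4350,4352,4354,4356,4358,4360,4362,4364,4366,4368,4370,4372,4374,4376,4378,4380,4382,4384,4386,4388,4390,4392,4394,4396,4398,4400,4402,4404,4406,4408],[4202]),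
(3,[4326,4328,4330],[3904,3906]),
(0,[],[]),
(0,[],[]),
(0,[],[]),
(0,[],[]),
(0,[],[]),
(4,[55,3894,4233,4231,4416,4418,4420,4422],[56,3926,3952]),
(0,[],[]),
(6,[55,3894,3896,3898,3900,3902,4326,4426],[56,58,60,62,64,2992,3203]),
(0,[],[]),
(0,[],[]),
(0,[],[]),
(0,[],[]),
(0,[],[]),
(0,[],[]),
(0,[],[]),
(0,[],[]),
(0,[],[]),
(0,[],[]),
(0,[],[]),
(0,[],[]),
(8,[3863,3861,3659,3657,3655,3653,3878,4434,4436,4438,4440,4442,4444,4446,4448,4450,4452],[56,58]),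
(0,[],[]),
(0,[],[]),
(0,[],[]),
(0,[],[]),
(0,[],[]),
(0,[],[]),
(0,[],[]),
(0,[],[]),
(0,[],[]),
(0,[],[]),
(0,[],[]),
(5,[55,53,51,3460,3559,4456,4458,4460,4462,4464,4466,4468,4470,4472,4474,4476],[56,58,4455,4453]),
(0,[],[]),
(0,[],[]),
(0,[],[]),
(0,[],[]),
(0,[],[]),
(0,[],[]),
(0,[],[]),
(0,[],[]),
(0,[],[]),
(0,[],[])]
theorem ok8 : data.stepsOK st8 2000 = true := by decide +kernel
def st9 : List Step := [
(0,[],[]),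
(7,[55,53,51,3460,3559,3557,3555,4480,4482,4484,4486,4488,4490,4492,4494,4496,4498,4500],[56,58,60,62,2871]),
(0,[],[]),
(0,[],[]),
(0,[],[]),
(0,[],[]),
(0,[],[]),
(3,[3926,3928,4512],[58,4455]),
(0,[],[]),
(0,[],[]),
(0,[],[]),
(0,[],[]),
(0,[],[]),
(0,[],[]),
(0,[],[]),
(6,[3926,3952,3954,4038,4504,4516,4518,4520,4522,4524,4526,4528],[57,3863,4062]),
(0,[],[]),
(0,[],[]),
(0,[],[]),
(0,[],[]),
(0,[],[]),
(0,[],[]),
(0,[],[]),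
(0,[],[]),
(0,[],[]),
(0,[],[]),
(0,[],[]),
(0,[],[]),
(0,[],[]),
(0,[],[]),
(0,[],[]),
(0,[],[]),
(0,[],[]),
(0,[],[]),
(5,[3926,3928,4512,4544,4546,4548,4550,4552,4554,4556,4558,4560,4562,4564,4566],[57,3863,3861,3659,3864]),
(0,[],[]),
(0,[],[]),
(0,[],[]),
(0,[],[]),
(0,[],[]),
(0,[],[]),
(0,[],[]),
(0,[],[]),
(0,[],[]),
(0,[],[]),
(0,[],[]),
(0,[],[]),
(0,[],[]),
(0,[],[]),
(7,[3926,3928,4512,4544,4546,4570,4572,4574,4576,4578,4580,4582,4584,4586,4588,4590,4592,4594,4596],[57,3863,4062,4531]),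
(0,[],[]),
(0,[],[]),
(0,[],[]),
(3,[4532,4534],[62,2871,4503]),
(3,[4280],[3656,3864,4569,4567]),
(3,[4064,4066],[4531,4599,4597]),
(0,[],[]),
(0,[],[]),
(10,[60,4614],[4612]),
(0,[],[]),
(0,[],[]),
(0,[],[]),
(4,[59,57,3863,4062,4064,4090,4618,4620,4622],[60,4532]),
(0,[],[]),
(0,[],[]),
(0,[],[]),
(0,[],[]),
(0,[],[]),
(0,[],[]),
(0,[],[]),
(0,[],[]),
(0,[],[]),
(0,[],[]),
(0,[],[]),
(0,[],[]),
(0,[],[]),
(11,[4455,4453,4451,4626,4628,4630,4632,4634,4636,4638,4640,4642,4644,4646,4648,4650],[4612]),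
(0,[],[]),
(0,[],[]),
(0,[],[]),
(0,[],[]),
(0,[],[]),
(0,[],[]),
(0,[],[]),
(0,[],[]),
(8,[4455,4515,4544,4546,4570,4572,4654,4656,4658,4660,4662,4664,4666,4668],[60,62,2871,588,3221]),
(0,[],[]),
(0,[],[]),
(0,[],[]),
(0,[],[]),
(0,[],[]),
(0,[],[]),
(0,[],[]),
(0,[],[]),
(0,[],[]),
(5,[59,3926,3928,3930,3932,3934,4672,4674,4676,4678,4680,4682,4684,4686,4688],[60,62,2871,588,590]),
(0,[],[]),
(0,[],[]),
(0,[],[]),
(0,[],[]),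
(0,[],[]),
(0,[],[]),
(7,[59,3926,3928,3930,3932,4234,4236,4692,4694,4696,4698,4700,4702],[60,62,64,2992,2994,2996,2998,3000,3002,3004]),
(0,[],[]),
(0,[],[]),
(0,[],[]),
(0,[],[]),
(0,[],[]),
(0,[],[]),
(0,[],[]),
(0,[],[]),
(0,[],[]),
(0,[],[]),
(0,[],[]),
(0,[],[]),
(0,[],[]),
(0,[],[]),
(0,[],[]),
(0,[],[]),
(0,[],[]),
(0,[],[]),
(0,[],[]),
(0,[],[]),
(0,[],[]),
(0,[],[]),
(0,[],[]),
(0,[],[]),
(0,[],[]),
(0,[],[]),
(0,[],[]),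
(0,[],[]),
(0,[],[]),
(0,[],[]),
(0,[],[]),
(0,[],[]),
(0,[],[]),
(0,[],[]),
(0,[],[]),
(0,[],[]),
(0,[],[]),
(0,[],[]),
(0,[],[]),
(0,[],[]),
(0,[],[]),
(0,[],[]),
(0,[],[]),
(0,[],[]),
(12,[60,4532,4625,4706,4708,4710,4712,4714,4716,4718,4720,4722,4724,4726,4728,4730,4732,4734,4736,4738,4740,4742,4744,4746,4748,4750,4752,4754,4756,4758,4760,4762,4764,4766,4768,4770,4772,4774,4776,4778,4780,4782,4784,4786,4788,4790,4792],[4612]),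
(3,[3221,3219],[590,4691,4689]),
(3,[4626],[4450,4479,4477,4475]),
(0,[],[]),
(0,[],[]),
(0,[],[]),
(0,[],[]),
(0,[],[]),
(0,[],[]),
(6,[4532,4625,4706,4708,4710,4800,4802,4804,4806,4808,4810],[61,4455,4453,4479]),
(0,[],[]),
(0,[],[]),
(0,[],[]),
(0,[],[]),
(0,[],[]),
(0,[],[]),
(0,[],[]),
(0,[],[]),
(0,[],[]),
(0,[],[]),
(0,[],[]),
(0,[],[]),
(0,[],[]),
(11,[62,64,66,4814,4816,4818,4820,4822,4824,4826,4828,4830,4832,4834,4836,4838],[4614]),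
(0,[],[]),
(0,[],[]),
(0,[],[]),
(0,[],[]),
(0,[],[]),
(0,[],[]),
(0,[],[]),
(0,[],[]),
(0,[],[]),
(0,[],[]),
(0,[],[]),
(0,[],[]),
(5,[4532,4534,4606,4501,4842,4844,4846,4848,4850,4852,4854,4856,4858,4860,4862,4864],[61,4455,4515,4544]),
(0,[],[]),
(0,[],[]),
(0,[],[]),
(0,[],[]),
(0,[],[]),
(0,[],[]),
(0,[],[]),
(0,[],[]),
(0,[],[]),
(0,[],[]),
(7,[4532,4534,4606,4501,4842,4868,4870,4872,4874,4876,4878,4880,4882,4884,4886],[61,4455,4453,4479,4477,4475,4473,4471]),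
(0,[],[]),
(0,[],[]),
(0,[],[]),
(0,[],[]),
(0,[],[]),
(0,[],[]),
(0,[],[]),
(0,[],[]),
(0,[],[]),
(0,[],[]),
(0,[],[]),
(0,[],[]),
(0,[],[]),
(0,[],[]),
(0,[],[]),
(0,[],[]),
(0,[],[]),
(0,[],[]),
(0,[],[]),
(0,[],[]),
(0,[],[]),
(0,[],[]),
(0,[],[]),
(0,[],[]),
(0,[],[]),
(0,[],[]),
(0,[],[]),
(0,[],[]),
(0,[],[]),
(0,[],[]),
(0,[],[]),
(0,[],[]),
(0,[],[]),
(0,[],[]),
(0,[],[]),
(0,[],[]),
(0,[],[]),
(0,[],[]),
(0,[],[]),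
(0,[],[]),
(12,[61,59,57,55,3894,3896,4010,4890,4892,4894,4896,4898,4900,4902,4904,4906,4908,4910,4912,4914,4916,4918,4920,4922,4924,4926,4928,4930,4932,4934,4936,4938,4940,4942,4944,4946,4948,4950,4952,4954,4956,4958,4960,4962,4964,4966,4968],[4614]),
(3,[66,4814],[2992,2994,2996]),
(3,[3896,4010,4890],[4233,4279]),
(3,[4546,4548],[4867,4865,4863]),
(12,[4764,4766,4768,4770,4772,4774,4776,4778,4780,4782,4784,4786,4788,4790,4792,4794,4617,4971,4969,4967,4965,4963,4961,4959,4957,4955,4953,4951,4949,4947,4945,4943,4941,4939,4937,4935,4933,4931,4929,4927,4925,4923,4921,4919,4917,4915,4913,4911],[]),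
(0,[],[]),
(0,[],[]),
(4,[63,61,4455,4453,4451,4449,4980,4982],[64,66,68]),
(0,[],[]),
(0,[],[]),
(0,[],[]),
(0,[],[]),
(0,[],[]),
(0,[],[]),
(0,[],[])]
theorem ok9 : data.stepsOK st9 2250 = true := by decide +kernel
def st10 : List Step := [
(0,[],[]),
(0,[],[]),
(0,[],[]),
(8,[2871,4503,4501,4842,4868,4870,4986,4988,4990,4992,4994,4996,4998,5000,5002,5004],[64,2992,2994]),
(0,[],[]),
(0,[],[]),
(0,[],[]),
(0,[],[]),
(0,[],[]),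
(0,[],[]),
(0,[],[]),
(0,[],[]),
(0,[],[]),
(0,[],[]),
(0,[],[]),
(5,[63,4532,4534,4536,4538,5008,5010,5012,5014,5016,5018,5020,5022,5024,5026,5028],[64,2992,2994,5007]),
(0,[],[]),
(0,[],[]),
(0,[],[]),
(0,[],[]),
(0,[],[]),
(0,[],[]),
(0,[],[]),
(0,[],[]),
(0,[],[]),
(0,[],[]),
(0,[],[]),
(0,[],[]),
(7,[63,4532,4534,4536,4538,4540,4542,5032,5034,5036,5038,5040,5042,5044,5046,5048,5050,5052,5054],[64,2992,3203,4429]),
(0,[],[]),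
(0,[],[]),
(0,[],[]),
(0,[],[]),
(6,[66,68,70,72,74,5058,5060,5062,5064],[65,2871,588,590,592,594]),
(0,[],[]),
(0,[],[]),
(0,[],[]),
(0,[],[]),
(0,[],[]),
(0,[],[]),
(0,[],[]),
(0,[],[]),
(0,[],[]),
(0,[],[]),
(0,[],[]),
(5,[66,4814,4972,2998,5068,5070,5072,5074,5076,5078,5080,5082,5084,5086,5088],[65,2871,4503,4501,4499]),
(0,[],[]),
(0,[],[]),
(0,[],[]),
(0,[],[]),
(0,[],[]),
(0,[],[]),
(0,[],[]),
(0,[],[]),
(0,[],[]),
(0,[],[]),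
(7,[66,4814,4972,2998,5068,5092,5094,5096,5098,5100,5102,5104,5106,5108,5110],[65,2871,588,590,4691,4689,4687,4685]),
(4,[78,2333,79,2551,597,5067,5065,5063],[2551,597,5067,5065]),
(1,[5115],[]),
(1,[5117,5063],[]),
(1,[5117,5064],[]),
(3,[],[3198,3200,4429,5057,5055]),
(3,[4498,4842,4844],[5091,5089]),
(0,[],[]),
(0,[],[]),
(10,[68,5128],[5126]),
(0,[],[]),
(0,[],[]),
(0,[],[]),
(0,[],[]),
(0,[],[]),
(0,[],[]),
(4,[4814,4816,5132,5134,5136,5138,5140,5142],[68,70,72]),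
(0,[],[]),
(0,[],[]),
(0,[],[]),
(0,[],[]),
(0,[],[]),
(0,[],[]),
(0,[],[]),
(6,[4814,4816,4818,4820,4822,5146,5148,5150,5152,5154,5156,5158],[68,4985,4983]),
(0,[],[]),
(0,[],[]),
(0,[],[]),
(0,[],[]),
(0,[],[]),
(0,[],[]),
(0,[],[]),
(0,[],[]),
(11,[67,65,63,4532,4625,4706,4708,4710,5162,5164,5166,5168,5170,5172,5174,5176],[5126]),
(0,[],[]),
(0,[],[]),
(0,[],[]),
(0,[],[]),
(0,[],[]),
(0,[],[]),
(0,[],[]),
(0,[],[]),
(0,[],[]),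
(0,[],[]),
(0,[],[]),
(0,[],[]),
(0,[],[]),
(8,[67,2992,3203,3201,5180,5182,5184,5186,5188,5190,5192,5194,5196,5198,5200,5202,5204],[68,4985]),
(0,[],[]),
(0,[],[]),
(0,[],[]),
(0,[],[]),
(0,[],[]),
(0,[],[]),
(0,[],[]),
(0,[],[]),
(0,[],[]),
(0,[],[]),
(0,[],[]),
(5,[4814,4972,2997,5007,5005,5208,5210,5212,5214,5216,5218,5220,5222,5224,5226,5228],[68,4985,5207,5205]),
(0,[],[]),
(0,[],[]),
(0,[],[]),
(0,[],[]),
(0,[],[]),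
(0,[],[]),
(0,[],[]),
(0,[],[]),
(0,[],[]),
(0,[],[]),
(0,[],[]),
(0,[],[]),
(7,[4814,4972,2997,5007,5005,5003,5001,5232,5234,5236,5238,5240,5242,5244,5246,5248,5250,5252,5254],[68,4985,4983,5161]),
(0,[],[]),
(0,[],[]),
(0,[],[]),
(0,[],[]),
(0,[],[]),
(0,[],[]),
(0,[],[]),
(0,[],[]),
(0,[],[]),
(0,[],[]),
(0,[],[]),
(0,[],[]),
(0,[],[]),
(0,[],[]),
(0,[],[]),
(0,[],[]),
(0,[],[]),
(0,[],[]),
(0,[],[]),
(0,[],[]),
(0,[],[]),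
(0,[],[]),
(0,[],[]),
(0,[],[]),
(0,[],[]),
(0,[],[]),
(0,[],[]),
(0,[],[]),
(0,[],[]),
(0,[],[]),
(0,[],[]),
(0,[],[]),
(0,[],[]),
(0,[],[]),
(0,[],[]),
(0,[],[]),
(0,[],[]),
(0,[],[]),
(0,[],[]),
(0,[],[]),
(12,[68,70,72,74,5058,5060,5120,5258,5260,5262,5264,5266,5268,5270,5272,5274,5276,5278,5280,5282,5284,5286,5288,5290,5292,5294,5296,5298,5300,5302,5304,5306,5308,5310,5312,5314,5316,5318,5320,5322,5324,5326,5328,5330,5332,5334,5336],[5126]),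
(3,[74,76,78,2455],[5145]),
(3,[],[4446,4980,5161,5257,5255]),
(3,[5208],[5004,5031,5029,5027]),
(0,[],[]),
(0,[],[]),
(3,[70,5346,5348],[4985,5207]),
(0,[],[]),
(0,[],[]),
(0,[],[]),
(0,[],[]),
(0,[],[]),
(0,[],[]),
(0,[],[]),
(0,[],[]),
(0,[],[]),
(0,[],[]),
(0,[],[]),
(11,[4985,4983,4981,4447,4445,5352,5354,5356,5358,5360,5362,5364,5366,5368,5370,5372],[5128]),
(0,[],[]),
(0,[],[]),
(0,[],[]),
(0,[],[]),
(0,[],[]),
(0,[],[]),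
(0,[],[]),
(0,[],[]),
(5,[70,5346,5348,5376,5378,5380,5382,5384,5386,5388,5390],[69,67,2992,3203,4429,5057,5055,5053,5051]),
(0,[],[]),
(0,[],[]),
(0,[],[]),
(0,[],[]),
(0,[],[]),
(0,[],[]),
(0,[],[]),
(0,[],[]),
(0,[],[]),
(0,[],[]),
(0,[],[]),
(7,[70,5346,5348,5376,5378,5394,5396,5398,5400,5402,5404,5406,5408,5410,5412,5414],[69,67,65,2871,4503,4607,4536]),
(0,[],[]),
(0,[],[]),
(0,[],[]),
(0,[],[]),
(0,[],[]),
(0,[],[]),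
(0,[],[]),
(0,[],[]),
(0,[],[]),
(0,[],[]),
(0,[],[]),
(0,[],[]),
(0,[],[]),
(0,[],[]),
(0,[],[]),
(0,[],[]),
(0,[],[]),
(0,[],[]),
(0,[],[]),
(0,[],[]),
(0,[],[]),
(0,[],[]),
(0,[],[]),
(0,[],[]),
(0,[],[]),
(0,[],[]),
(0,[],[]),
(0,[],[]),
(0,[],[]),
(0,[],[]),
(0,[],[]),
(0,[],[]),
(0,[],[]),
(0,[],[]),
(0,[],[]),
(0,[],[]),
(0,[],[]),
(0,[],[]),
(0,[],[]),
(0,[],[]),
(0,[],[])]
theorem ok10 : data.stepsOK st10 2500 = true := by decide +kernel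
def st11 : List Step := [
(12,[69,4814,4816,4818,4820,4822,5418,5420,5422,5424,5426,5428,5430,5432,5434,5436,5438,5440,5442,5444,5446,5448,5450,5452,5454,5456,5458,5460,5462,5464,5466,5468,5470,5472,5474,5476,5478,5480,5482,5484,5486,5488,5490,5492,5494,5496,5498],[5128]),
(12,[5276,5278,5280,5282,5284,5286,5288,5290,5292,5294,5296,5298,5300,5302,5304,5306,5308,5310,5312,5314,5316,5318,5320,5322,5324,5326,5328,5330,5332,5334,5336,5338,5131,5501,5499,5497,5495,5493,5491,5489,5487,5485,5483,5481,5479,5477,5475,5473],[]),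
(10,[5277,5503,5471],[]),
(12,[5308,5310,5312,5314,5316,5318,5320,5322,5324,5326,5328,5330,5332,5334,5336,5338,5131,5501,5499,5497,5495,5493,5491,5489,5487,5485,5483,5481,5479,5477,5475,5473,5471,5469,5467,5465,5463,5461,5459,5457,5455,5453,5451,5449,5447,5445,5443,5441],[]),
(10,[5309,5507,5439],[]),
(0,[],[]),
(0,[],[]),
(0,[],[]),
(0,[],[]),
(0,[],[]),
(0,[],[]),
(0,[],[]),
(0,[],[]),
(0,[],[]),
(4,[5346,5514,5516,5518,5520,5522,5524,5526],[72,74,5058]),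
(0,[],[]),
(0,[],[]),
(0,[],[]),
(0,[],[]),
(0,[],[]),
(0,[],[]),
(0,[],[]),
(0,[],[]),
(0,[],[]),
(0,[],[]),
(6,[5346,5514,5530,5532,5534,5536,5538,5540,5542,5544,5546,5548],[72,5145,5143]),
(0,[],[]),
(0,[],[]),
(0,[],[]),
(0,[],[]),
(0,[],[]),
(8,[71,4985,4983,4981,4448,4626,4628,5552,5554,5556,5558,5560],[72,5145,5341,699,697,695,693]),
(0,[],[]),
(0,[],[]),
(0,[],[]),
(0,[],[]),
(0,[],[]),
(0,[],[]),
(0,[],[]),
(0,[],[]),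
(0,[],[]),
(0,[],[]),
(0,[],[]),
(5,[5346,5348,5350,5205,5203,5564,5566,5568,5570,5572,5574,5576,5578,5580,5582,5584],[72,5145,5341,699]),
(0,[],[]),
(0,[],[]),
(0,[],[]),
(0,[],[]),
(0,[],[]),
(0,[],[]),
(0,[],[]),
(0,[],[]),
(0,[],[]),
(0,[],[]),
(0,[],[]),
(0,[],[]),
(7,[5346,5348,5350,5205,5203,5201,5199,5588,5590,5592,5594,5596,5598,5600,5602,5604,5606,5608,5610],[72,5145,5143,5551]),
(0,[],[]),
(0,[],[]),
(3,[5060,5120,5258,5614],[5529]),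
(3,[5564],[5202,5231,5229,5227]),
(0,[],[]),
(0,[],[]),
(0,[],[]),
(0,[],[]),
(0,[],[]),
(0,[],[]),
(0,[],[]),
(5,[74,76,78,2333,2455,5340,5143,5141,5622,5632,5634],[73,71,4985,4983,5161,5257,5255,5253,5251]),
(0,[],[]),
(0,[],[]),
(0,[],[]),
(0,[],[]),
(0,[],[]),
(0,[],[]),
(0,[],[]),
(0,[],[]),
(7,[74,76,78,2333,2455,699,697,5638,5640,5642,5644,5646,5648,5650,5652],[73,71,69,67,2992,2994,5007,5031]),
(0,[],[]),
(0,[],[]),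
(0,[],[]),
(3,[5638,5640],[696,5587,5585,5583]),
(1,[5662],[]),
(1,[5665,5642],[]),
(1,[5580,5666],[]),
(1,[5665,5641],[]),
(1,[5669],[]),
(1,[5673,5644],[]),
(3,[5622,5632],[5140,5551,5613,5611]),
(1,[5676],[]),
(1,[5679,5634],[]),
(1,[5608,5680],[]),
(1,[5683],[]),
(1,[5685,5636],[]),
(0,[],[]),
(0,[],[]),
(10,[5058,5690],[5688]),
(0,[],[]),
(4,[76,2551,5694],[5058,5060,5119,5061,5059,76,2551,5694]),
(0,[],[]),
(0,[],[]),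
(0,[],[]),
(0,[],[]),
(0,[],[]),
(0,[],[]),
(0,[],[]),
(6,[76,2551,597,5067,5258,5698,5700,5702,5704,5706,5708,5710],[5058,5529,5527]),
(0,[],[]),
(0,[],[]),
(0,[],[]),
(0,[],[]),
(0,[],[]),
(0,[],[]),
(0,[],[]),
(0,[],[]),
(11,[75,73,5346,5348,5376,5378,5394,5396,5714,5716,5718,5720,5722,5724,5726,5728],[5688]),
(0,[],[]),
(0,[],[]),
(0,[],[]),
(0,[],[]),
(0,[],[]),
(0,[],[]),
(0,[],[]),
(0,[],[]),
(0,[],[]),
(0,[],[]),
(0,[],[]),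
(8,[75,5145,5143,5141,5139,5732,5734,5736,5738,5740,5742,5744,5746,5748,5750,5752],[5058,5529,5619]),
(0,[],[]),
(0,[],[]),
(0,[],[]),
(0,[],[]),
(0,[],[]),
(0,[],[]),
(0,[],[]),
(0,[],[]),
(0,[],[]),
(0,[],[]),
(5,[76,78,2455,699,697,5638,5756,5758,5760,5762,5764,5766,5768,5770,5772,5774],[5058,5529,5619,5755]),
(0,[],[]),
(0,[],[]),
(0,[],[]),
(0,[],[]),
(0,[],[]),
(0,[],[]),
(0,[],[]),
(0,[],[]),
(0,[],[]),
(0,[],[]),
(7,[76,78,2455,699,697,695,693,691,689,5778,5780,5782,5784,5786,5788,5790,5792,5794,5796],[5058,5529,5527,5713]),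
(0,[],[]),
(0,[],[]),
(0,[],[]),
(0,[],[]),
(0,[],[]),
(0,[],[]),
(0,[],[]),
(0,[],[]),
(0,[],[]),
(0,[],[]),
(0,[],[]),
(0,[],[]),
(0,[],[]),
(0,[],[]),
(0,[],[]),
(0,[],[]),
(0,[],[]),
(0,[],[]),
(0,[],[]),
(0,[],[]),
(0,[],[]),
(0,[],[]),
(0,[],[]),
(0,[],[]),
(0,[],[]),
(0,[],[]),
(0,[],[]),
(0,[],[]),
(0,[],[]),
(0,[],[]),
(0,[],[]),
(0,[],[]),
(0,[],[]),
(0,[],[]),
(0,[],[]),
(0,[],[]),
(0,[],[]),
(0,[],[]),
(0,[],[]),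
(0,[],[]),
(0,[],[]),
(12,[5058,5060,5119,5120,5066,595,5800,5802,5804,5806,5808,5810,5812,5814,5816,5818,5820,5822,5824,5826,5828,5830,5832,5834,5836,5838,5840,5842,5844,5846,5848,5850,5852,5854,5856,5858,5860,5862,5864,5866,5868,5870,5872,5874,5876,5878,5880],[5688]),
(3,[5800,5802],[594,596,5694]),
(11,[3210,3212],[3209,121,119,21,9,7,95,2253,2215,2335,79,2551,5694,5697,5885,5803]),
(1,[5887],[]),
(1,[5889,5802],[]),
(1,[5889,5801],[]),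
(1,[3215,5892],[]),
(1,[5894],[]),
(1,[5897,3216],[]),
(1,[592,5898],[]),
(1,[5897,3215],[]),
(1,[5901],[]),
(1,[5905,4796],[]),
(1,[590,5906],[]),
(1,[5905,3218],[]),
(1,[4690,5910],[]),
(1,[5909],[]),
(1,[5915,4687],[]),
(1,[588,5916],[]),
(1,[5912],[]),
(1,[5921,4690],[]),
(1,[5919],[]),
(1,[5925,4685],[]),
(1,[4502,5926],[]),
(1,[5929],[]),
(1,[5931,5113],[]),
(1,[4500,5932],[]),
(1,[5931,4683],[]),
(1,[4606,5936],[]),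
(1,[5935],[]),
(1,[5941,5111],[]),
(1,[4498,5942],[]),
(1,[5939],[]),
(1,[5947,4681],[]),
(1,[4537,5948],[]),
(1,[5945],[]),
(1,[5953,5109],[]),
(1,[5090,5954],[]),
(1,[5951],[]),
(1,[5959,4679],[]),
(1,[5416,5960],[]),
(1,[5957],[]),
(1,[5965,5107],[]),
(1,[5088,5966],[]),
(1,[5962],[]),
(1,[5971,5415],[]),
(1,[5971,5416],[]),
(1,[5969],[]),
(1,[5977,5105],[]),
(1,[5086,5978],[]),
(1,[5981],[]),
(1,[5983,5103],[]),
(1,[5084,5984],[]),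
(1,[5987],[]),
(1,[5989,5101],[]),
(5,[4534,4606,4502,588,3221,5922,592,5902,5890,5884,5697,5695,597,5067,5258,5614,5618,5527,5525],[4625,4623]),
(1,[5992],[]),
(1,[5995,5523],[]),
(1,[4620,5996],[])]
theorem ok11 : data.stepsOK st11 2750 = true := by decide +kernel

end

end Step
end A2
end H77
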