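import Mathlib
import Cfsg.Agent.H77.A2.Step.Data

/-!
A derivation that closes 352 cosets of the subgroup on x and y (generated data).
-/

set_option autoImplicit false
set_option maxRecDepth 100000
set_option linter.all false
set_option Elab.async false

namespace H77
namespace A2
namespace Step

open H93.CosetI

noncomputable section

def st12 : List Step := [
(1,[5995,5524],[]),
(1,[5999],[]),
(1,[6003,5521],[]),
(3,[4538,5008],[5975,4677,4675]),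
(3,[4619,4092,4094,4096],[6004]),
(3,[4622,4706],[6000,5713,5799,5797]),
(1,[6011],[]),
(1,[6013,5795],[]),
(1,[4709,6014],[]),
(1,[6013,5796],[]),
(1,[6017],[]),
(1,[6021,5793],[]),
(8,[4623,6000,5526,5528,5059,76,2551,5694,5885],[4624,4533,62,64,66,68,70,72,5145,5341,699]),
(1,[6024],[]),
(1,[6027,5804],[]),
(1,[6027,5884],[]),
(1,[696,6030],[]),
(1,[6027,5891],[]),
(1,[5586,6034],[]),
(1,[6033],[]),
(1,[6039,5697,6038],[]),
(1,[694,6040],[]),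
(1,[6039,5695],[]),
(1,[5639,6044],[]),
(1,[6036],[]),
(1,[6049,5586],[]),
(1,[6043],[]),
(1,[6053,695],[]),
(1,[6053,5638],[]),
(1,[692,6056],[]),
(1,[6053,696],[]),
(1,[6046],[]),
(1,[6063,5756],[]),
(1,[2551,6064],[]),
(1,[6063,5671],[]),
(1,[596,6068],[]),
(1,[6058,6062],[]),
(1,[6073,5563],[]),
(1,[2551,6074],[]),
(1,[6073,691],[]),
(1,[596,6078],[]),
(1,[6073,692],[]),
(1,[6067],[]),
(1,[6085,5758],[]),
(1,[79,6086],[]),
(1,[6071],[]),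
(1,[6091,5581],[]),
(1,[5066,6092],[]),
(1,[6077],[]),
(1,[6097,5561],[]),
(1,[76,6098],[]),
(1,[6081],[]),
(1,[6103,689],[]),
(1,[594,6104],[]),
(1,[6089],[]),
(1,[6109,5760],[]),
(1,[2454,6110],[]),
(1,[6095],[]),
(1,[6115,5674],[]),
(1,[5259,6116],[]),
(1,[6115,5579],[]),
(1,[5120,6120],[]),
(1,[6101],[]),
(1,[6125,5559],[]),
(1,[74,6126],[]),
(1,[6107],[]),
(1,[6131,5778],[]),
(1,[592,6132],[]),
(1,[6131,687],[]),
(1,[6113],[]),
(1,[6139,5762],[]),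
(1,[5341,6140],[]),
(1,[6119],[]),
(1,[6145,5646],[]),
(1,[5699,6146],[]),
(1,[6123],[]),
(1,[6151,5577],[]),
(1,[5060,6152],[]),
(1,[6129],[]),
(1,[6157,5557],[]),
(1,[72,6158],[]),
(1,[6135],[]),
(1,[6163,5780],[]),
(1,[590,6164],[]),
(1,[6143],[]),
(1,[6169,5764],[]),
(1,[5142,6170],[]),
(1,[6148],[]),
(1,[6175,5699],[]),
(1,[6175,5700],[]),
(1,[5649,6178],[]),
(1,[6155],[]),
(1,[6183,5575],[]),
(1,[5058,6184],[]),
(1,[6161],[]),
(1,[6189,5555],[]),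
(1,[5347,6190],[]),
(1,[6167],[]),
(1,[6195,5782],[]),
(1,[588,6196],[]),
(1,[6173],[]),
(1,[6201,5766],[]),
(1,[5140,6202],[]),
(1,[6181],[]),
(1,[6207,5702],[]),
(1,[6187],[]),
(1,[6211,5573],[]),
(1,[74,6212],[]),
(1,[6193],[]),
(1,[6217,5553],[]),
(1,[5349,6218],[]),
(1,[6199],[]),
(1,[6223,5784],[]),
(1,[2871,6224],[]),
(1,[6205],[]),
(1,[6229,5768],[]),
(1,[5623,6230],[]),
(1,[6215],[]),
(1,[6235,5571],[]),
(1,[5144,6236],[]),
(1,[6220],[]),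
(1,[6241,5376],[]),
(1,[4628,6242],[]),
(1,[6241,5350],[]),
(1,[4631,6246],[]),
(1,[6241,5349],[]),
(1,[6227],[]),
(1,[6253,5786],[]),
(1,[62,6254],[]),
(1,[6233],[]),
(1,[6259,5770],[]),
(1,[5625,6260],[]),
(1,[6239],[]),
(1,[6265,5569],[]),
(1,[5340,6266],[]),
(1,[6245],[]),
(1,[6271,5378],[]),
(1,[4799,6272],[]),
(1,[6249],[]),
(1,[6277,5205],[]),
(1,[4633,6278],[]),
(1,[6277,5206],[]),
(1,[6257],[]),
(1,[6285,5788],[]),
(1,[4533,6286],[]),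
(1,[6263],[]),
(1,[6291,5772],[]),
(1,[5627,6292],[]),
(1,[6269],[]),
(1,[6297,5567],[]),
(1,[698,6298],[]),
(1,[6275],[]),
(1,[6303,5394],[]),
(1,[4472,6304],[]),
(1,[6303,5380],[]),
(1,[4475,6308],[]),
(1,[6281],[]),
(1,[6313,5203],[]),
(1,[4635,6314],[]),
(1,[6289],[]),
(1,[6319,5790],[]),
(1,[4624,6320],[]),
(1,[6295],[]),
(1,[6325,5774],[]),
(1,[6301],[]),
(1,[6329,5620],[]),
(1,[6060,6330],[]),
(1,[6329,5565],[]),
(1,[6050,6334],[]),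
(1,[6307],[]),
(1,[6339,5396],[]),
(1,[6311],[]),
(1,[6343,5382],[]),
(1,[6317],[]),
(1,[6347,5201],[]),
(1,[6323],[]),
(1,[6351,6023],[]),
(1,[4707,6352],[]),
(1,[6333],[]),
(1,[6357,5225],[]),
(1,[6054,6358],[]),
(1,[6347,6337],[]),
(1,[6363,6348],[]),
(1,[3212,6364],[]),
(1,[6363,4636],[]),
(1,[6363,4635],[]),
(1,[5902,6370],[]),
(1,[6355],[]),
(1,[6375,4709],[]),
(1,[6375,4710],[]),
(1,[6019,6378],[]),
(1,[6361],[]),
(1,[6383,5223],[]),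
(1,[6061,6384],[]),
(1,[6367],[]),
(1,[6389,5199],[]),
(1,[3210,6390],[]),
(1,[6373],[]),
(1,[6395,4633],[]),
(1,[592,6396],[]),
(1,[6380],[]),
(1,[6401,5798],[]),
(1,[4713,6402],[]),
(1,[6401,6019],[]),
(1,[6387],[]),
(1,[6409,5221],[]),
(1,[6050,6410],[]),
(1,[6393],[]),
(1,[6415,5197],[]),
(1,[3364,6416],[]),
(1,[6415,5588],[]),
(1,[6399],[]),
(1,[6423,6282],[]),
(1,[590,6424],[]),
(1,[6423,4631],[]),
(1,[5922,6428],[]),
(1,[6405],[]),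
(1,[6433,5711],[]),
(1,[6433,5712],[]),
(1,[4715,6436],[]),
(1,[6413],[]),
(1,[6441,5219],[]),
(1,[3212,6442],[]),
(1,[6419],[]),
(1,[6447,5195],[]),
(1,[3211,6448],[]),
(1,[6427],[]),
(1,[6453,4983],[]),
(1,[588,6454],[]),
(1,[6453,4984],[]),
(1,[3220,6458],[]),
(1,[6431],[]),
(1,[6463,4629],[]),
(1,[4670,6464],[]),
(1,[6463,6250],[]),
(1,[3221,6468],[]),
(1,[6439],[]),
(1,[6473,5526],[]),
(1,[6473,6001],[]),
(1,[6445],[]),
(1,[6479,5217],[]),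
(1,[6451],[]),
(1,[6483,5193],[]),
(1,[6481,6484],[]),
(1,[6457],[]),
(1,[6489,4981],[]),
(1,[2871,6490],[]),
(1,[6489,5161],[]),
(1,[4502,6494],[]),
(1,[6460],[])]
theorem ok12 : data.stepsOK st12 3000 = true := by decide +kernel
def st13 : List Step := [
(1,[6499,4671],[]),
(1,[68,6500],[]),
(1,[6499,5922],[]),
(1,[71,6504],[]),
(1,[6499,3220],[]),
(1,[6466],[]),
(1,[6511,4669],[]),
(1,[4799,6512],[]),
(1,[6471],[]),
(1,[6517,5514],[]),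
(1,[588,6518],[]),
(1,[6486],[]),
(1,[6523,6481],[]),
(1,[6523,5215],[]),
(1,[6493],[]),
(1,[6529,4448],[]),
(1,[65,6530],[]),
(1,[6529,4447],[]),
(1,[62,6534],[]),
(1,[6497],[]),
(1,[6539,5159],[]),
(1,[4500,6540],[]),
(1,[6511,6503],[]),
(1,[6545,4798],[]),
(1,[4815,6546],[]),
(1,[6507],[]),
(1,[6551,592],[]),
(1,[73,6552],[]),
(1,[6551,591],[]),
(1,[6515],[]),
(1,[6559,4667],[]),
(1,[4472,6560],[]),
(1,[6521],[]),
(1,[6565,5530],[]),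
(1,[2871,6566],[]),
(1,[6565,5516],[]),
(1,[4502,6570],[]),
(1,[6533],[]),
(1,[6575,4450],[]),
(1,[2993,6576],[]),
(1,[6537],[]),
(1,[6581,4445],[]),
(1,[60,6582],[]),
(1,[6581,5342],[]),
(1,[4533,6586],[]),
(1,[6543],[]),
(1,[6591,5157],[]),
(1,[4498,6592],[]),
(1,[6548],[]),
(1,[6597,4816],[]),
(1,[4472,6598],[]),
(1,[6597,4972],[]),
(1,[4475,6602],[]),
(1,[6597,4815],[]),
(1,[6555],[]),
(1,[6609,6136],[]),
(1,[5513,6610],[]),
(1,[6609,5902],[]),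
(1,[75,6614],[]),
(1,[6609,594],[]),
(1,[5144,6618],[]),
(1,[6563],[]),
(1,[6623,4665],[]),
(1,[4470,6624],[]),
(1,[6569],[]),
(1,[6629,5532],[]),
(1,[65,6630],[]),
(1,[6573],[]),
(1,[6635,5518],[]),
(1,[4500,6636],[]),
(1,[6579],[]),
(1,[6641,4452],[]),
(1,[3202,6642],[]),
(1,[6641,4479],[]),
(1,[2995,6646],[]),
(1,[6585],[]),
(1,[6651,5352],[]),
(1,[58,6652],[]),
(1,[6651,4443],[]),
(1,[4454,6656],[]),
(1,[6589],[]),
(1,[6661,5253],[]),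
(1,[4624,6662],[]),
(1,[6595],[]),
(1,[6667,5155],[]),
(1,[4496,6668],[]),
(1,[6601],[]),
(1,[6673,4818],[]),
(1,[6341,6674],[]),
(1,[6673,5132],[]),
(1,[4470,6678],[]),
(1,[6604],[]),
(1,[6683,6344],[]),
(1,[2999,6684],[]),
(1,[6683,4475],[]),
(1,[6612],[]),
(1,[6691,5513],[]),
(1,[6617],[]),
(1,[6695,3213],[]),
(1,[5059,6696],[]),
(1,[6695,6368],[]),
(1,[5689,6700],[]),
(1,[6695,6050],[]),
(1,[77,6704],[]),
(1,[6620],[]),
(1,[6709,5143],[]),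
(1,[5066,6710],[]),
(1,[6709,5144],[]),
(1,[6627],[]),
(1,[6717,4663],[]),
(1,[4468,6718],[]),
(1,[6633],[]),
(1,[6723,5534],[]),
(1,[67,6724],[]),
(1,[6639],[]),
(1,[6729,6005],[]),
(1,[4843,6730],[]),
(1,[6729,6009],[]),
(1,[4498,6734],[]),
(1,[6645],[]),
(1,[6739,4454],[]),
(1,[3200,6740],[]),
(1,[6739,4515],[]),
(1,[4428,6744],[]),
(1,[6649],[]),
(1,[6749,4813],[]),
(1,[5006,6750],[]),
(1,[6655],[]),
(1,[6755,5354],[]),
(1,[56,6756],[]),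
(1,[6659,6738],[]),
(1,[6761,4441],[]),
(1,[4428,6762],[]),
(1,[6665],[]),
(1,[6767,5251],[]),
(1,[4622,6768],[]),
(1,[6671],[]),
(1,[6773,5153],[]),
(1,[4494,6774],[]),
(1,[6676],[]),
(1,[6779,5714],[]),
(1,[6779,5398],[]),
(1,[6779,6341],[]),
(1,[6681],[]),
(1,[6787,5134],[]),
(1,[4888,6788],[]),
(1,[6687],[]),
(1,[6793,5384],[]),
(1,[5069,6794],[]),
(1,[6698],[]),
(1,[6799,5059],[]),
(1,[6799,5690],[]),
(1,[6799,5060],[]),
(1,[3210,6804],[]),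
(1,[6799,5529],[]),
(1,[6524,6808],[]),
(1,[6702],[]),
(1,[6813,5693],[]),
(1,[6813,5689],[]),
(1,[6813,5883],[]),
(1,[6813,5731],[]),
(1,[4639,6820],[]),
(1,[6707],[]),
(1,[6825,6028],[]),
(1,[6825,6061],[]),
(1,[79,6828],[]),
(1,[6713],[]),
(1,[6833,5141],[]),
(1,[5259,6834],[]),
(1,[6721],[]),
(1,[6839,4661],[]),
(1,[4466,6840],[]),
(1,[6727],[]),
(1,[6845,5656],[]),
(1,[6606,6846],[]),
(1,[6732],[]),
(1,[6851,4844],[]),
(1,[4618,6852],[]),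
(1,[6851,4843],[]),
(1,[6736],[]),
(1,[6859,4497],[]),
(1,[4099,6860],[]),
(1,[6859,4498],[]),
(1,[6742],[]),
(1,[6867,3199],[]),
(1,[58,6868],[]),
(1,[6867,3200],[]),
(1,[6747],[]),
(1,[6875,4544],[]),
(1,[4426,6876],[]),
(1,[6875,4513],[]),
(1,[5056,6880],[]),
(1,[6752],[]),
(1,[6885,5006],[]),
(1,[6885,5005],[]),
(1,[6885,5031],[]),
(1,[4810,6890],[]),
(1,[6759],[]),
(1,[6895,5356],[]),
(1,[54,6896],[]),
(1,[6765],[]),
(1,[6901,4439],[]),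
(1,[4426,6902],[]),
(1,[6771],[]),
(1,[6907,5249],[]),
(1,[4620,6908],[]),
(1,[6907,5687],[]),
(1,[6476,6912],[]),
(1,[6777],[]),
(1,[6917,5151],[]),
(1,[6791],[]),
(1,[6921,5136],[]),
(1,[6797],[]),
(1,[6925,5386],[]),
(1,[5071,6926],[]),
(1,[6807],[]),
(1,[6931,5120],[]),
(1,[6421,6932],[]),
(1,[6811],[]),
(1,[6937,6475],[]),
(1,[5190,6938],[]),
(1,[6937,5619],[]),
(1,[6527,6942],[]),
(1,[6823],[]),
(1,[6947,5729],[]),
(1,[4641,6948],[]),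
(1,[6831],[]),
(1,[6953,6083],[]),
(1,[6836],[]),
(1,[6957,6177],[]),
(1,[5138,6958],[]),
(1,[6957,5260],[]),
(1,[6957,5614],[]),
(1,[5623,6964],[]),
(1,[6957,5259],[]),
(1,[6843],[]),
(1,[6971,4659],[]),
(1,[6849],[]),
(1,[6975,5658],[]),
(1,[6688,6976],[]),
(1,[6855],[]),
(1,[6981,4846],[]),
(1,[4090,6982],[]),
(1,[6981,5124],[]),
(1,[4093,6986],[]),
(1,[6863],[]),
(1,[6991,4495],[]),
(1,[6871],[]),
(1,[6995,3197],[]),
(1,[56,6996],[])]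
theorem ok13 : data.stepsOK st13 3250 = true := by decide +kernel
def st14 : List Step := [
(1,[6995,5122],[]),
(1,[3927,7000],[]),
(1,[6879],[]),
(1,[7005,4546],[]),
(1,[4329,7006],[]),
(1,[6882],[]),
(1,[7011,5056],[]),
(1,[6893],[]),
(1,[7015,5655],[]),
(1,[4808,7016],[]),
(1,[7015,5029],[]),
(1,[6899],[]),
(1,[7023,5358],[]),
(1,[4203,7024],[]),
(1,[6905],[]),
(1,[7029,4437],[]),
(1,[4329,7030],[]),
(1,[6911],[]),
(1,[7035,5247],[]),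
(1,[6857,7036],[]),
(1,[6915],[]),
(1,[7041,5608],[]),
(1,[7041,5607],[]),
(1,[4714,7044],[]),
(1,[6929],[]),
(1,[7049,5388],[]),
(1,[6934],[]),
(1,[7053,5590],[]),
(1,[6968,7054],[]),
(1,[7053,6421],[]),
(1,[6940],[]),
(1,[7061,5190],[]),
(1,[7043,7062],[]),
(1,[6945],[]),
(1,[7067,5755],[]),
(1,[7067,5616],[]),
(1,[6951],[]),
(1,[7073,5727],[]),
(1,[6961],[]),
(1,[7077,5648],[]),
(1,[5733,7078],[]),
(1,[6966,7066],[]),
(1,[7083,5624],[]),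
(1,[7069,7084],[]),
(1,[7083,5623],[]),
(1,[5212,7088],[]),
(1,[6979],[]),
(1,[7093,5660],[]),
(1,[6985],[]),
(1,[7097,4848],[]),
(1,[4067,7098],[]),
(1,[6989],[]),
(1,[7103,5087],[]),
(1,[4257,7104],[]),
(1,[6999],[]),
(1,[7109,3195],[]),
(1,[54,7110],[]),
(1,[7003],[]),
(1,[7115,5053],[]),
(1,[3953,7116],[]),
(1,[7009],[]),
(1,[7121,4570],[]),
(1,[7121,4548],[]),
(1,[4331,7124],[]),
(1,[7019],[]),
(1,[7129,5653],[]),
(1,[4806,7130],[]),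
(1,[7027],[]),
(1,[7135,5360],[]),
(1,[4254,7136],[]),
(1,[7033],[]),
(1,[7141,4435],[]),
(1,[4331,7142],[]),
(1,[7039],[]),
(1,[7147,5245],[]),
(1,[6864,7148],[]),
(1,[7047],[]),
(1,[7153,5605],[]),
(1,[6435,7154],[]),
(1,[7057],[]),
(1,[7159,5592],[]),
(1,[5138,7160],[]),
(1,[7064],[]),
(1,[7165,7043],[]),
(1,[7080],[]),
(1,[7169,5734],[]),
(1,[6209,7170],[]),
(1,[7169,5733],[]),
(1,[7086],[]),
(1,[7177,7069],[]),
(1,[7177,5753],[]),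
(1,[5627,7180],[]),
(1,[7177,5777],[]),
(1,[7090],[]),
(1,[7187,5211],[]),
(1,[5138,7188],[]),
(1,[7187,5212],[]),
(1,[7101],[]),
(1,[7195,4850],[]),
(1,[4611,7196],[]),
(1,[7107],[]),
(1,[7201,5085],[]),
(1,[4259,7202],[]),
(1,[7113],[]),
(1,[7207,3193],[]),
(1,[3895,7208],[]),
(1,[7119],[]),
(1,[7213,5051],[]),
(1,[4424,7214],[]),
(1,[7127],[]),
(1,[7219,4550],[]),
(1,[7219,4976],[]),
(1,[4413,7222],[]),
(1,[7133],[]),
(1,[7227,5651],[]),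
(1,[7139],[]),
(1,[7231,5362],[]),
(1,[4252,7232],[]),
(1,[7144],[]),
(1,[7237,7220],[]),
(1,[3878,7238],[]),
(1,[7237,4332],[]),
(1,[7237,4412],[]),
(1,[3881,7244],[]),
(1,[7151],[]),
(1,[7249,5243],[]),
(1,[4096,7250],[]),
(1,[7156],[]),
(1,[7255,6435],[]),
(1,[7255,5709],[]),
(1,[5602,7258],[]),
(1,[7163],[]),
(1,[7263,5594],[]),
(1,[7174,7264],[]),
(1,[7173],[]),
(1,[7269,5736],[]),
(1,[7183],[]),
(1,[7273,5751],[]),
(1,[5629,7274],[]),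
(1,[7191],[]),
(1,[7279,5344],[]),
(1,[7174,7280],[]),
(1,[7279,5209],[]),
(1,[6922,7284],[]),
(1,[7199],[]),
(1,[7289,4852],[]),
(1,[4597,7290],[]),
(1,[7205],[]),
(1,[7295,5990],[]),
(1,[7295,5083],[]),
(1,[4261,7298],[]),
(1,[7210],[]),
(1,[7303,3895],[]),
(1,[7303,4204],[]),
(1,[7303,3896],[]),
(1,[3190,7308],[]),
(1,[7303,4233],[]),
(1,[3363,7312],[]),
(1,[7217],[]),
(1,[7317,5049],[]),
(1,[4422,7318],[]),
(1,[7317,5393],[]),
(1,[7225],[]),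
(1,[7325,4861],[]),
(1,[3909,7326],[]),
(1,[7235],[]),
(1,[7331,5364],[]),
(1,[7241],[]),
(1,[7335,4552],[]),
(1,[3650,7336],[]),
(1,[7247],[]),
(1,[7341,3908],[]),
(1,[3883,7342],[]),
(1,[7341,3907],[]),
(1,[7253],[]),
(1,[7349,5241],[]),
(1,[7261],[]),
(1,[7353,5707],[]),
(1,[7266],[]),
(1,[7357,6208],[]),
(1,[5597,7358],[]),
(1,[7357,7229],[]),
(1,[7357,7174],[]),
(1,[7277],[]),
(1,[7367,5749],[]),
(1,[5631,7368],[]),
(1,[7357,7282],[]),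
(1,[7373,5596],[]),
(1,[5024,7374],[]),
(1,[7373,7362],[]),
(1,[5027,7378],[]),
(1,[7373,7364],[]),
(1,[7287],[]),
(1,[7385,5003],[]),
(1,[4889,7386],[]),
(1,[7385,6889],[]),
(1,[4886,7390],[]),
(1,[7293],[]),
(1,[7395,4854],[]),
(1,[7301],[]),
(1,[7399,5081],[]),
(1,[4263,7400],[]),
(1,[7311],[]),
(1,[7405,3898],[]),
(1,[3366,7406],[]),
(1,[7405,4010],[]),
(1,[7315],[]),
(1,[7413,4231],[]),
(1,[7413,4279],[]),
(1,[3257,7416],[]),
(1,[7321],[]),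
(1,[7421,5047],[]),
(1,[7329],[]),
(1,[7425,4859],[]),
(1,[7339],[]),
(1,[7429,4554],[]),
(1,[3648,7430],[]),
(1,[7345],[]),
(1,[7435,3910],[]),
(1,[3885,7436],[]),
(1,[7435,7426],[]),
(1,[7361],[]),
(1,[7443,5704],[]),
(1,[5599,7444],[]),
(1,[7443,7270],[]),
(1,[7371],[]),
(1,[7451,5747],[]),
(1,[7377],[]),
(1,[7455,5598],[]),
(1,[7455,7448],[]),
(1,[5022,7458],[]),
(1,[7380],[]),
(1,[7463,7021],[]),
(1,[4807,7464],[]),
(1,[7463,5027],[]),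
(1,[7389],[]),
(1,[7471,5001],[]),
(1,[4471,7472],[]),
(1,[7392],[]),
(1,[7477,4886],[]),
(1,[7403],[]),
(1,[7481,5079],[]),
(1,[7409],[]),
(1,[7485,3900],[]),
(1,[7411,7486],[]),
(1,[7485,4217],[]),
(1,[3191,7490],[]),
(1,[7419],[]),
(1,[7495,4277],[]),
(1,[3259,7496],[])]
theorem ok14 : data.stepsOK st14 3500 = true := by decide +kernel
def st15 : List Step := [
(1,[7495,4975],[]),
(1,[7433],[]),
(1,[7503,4556],[]),
(1,[7439],[]),
(1,[7507,3912],[]),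
(1,[7447],[]),
(1,[7511,7355],[]),
(1,[7461],[]),
(1,[7515,5738],[]),
(1,[5020,7516],[]),
(1,[7467],[]),
(1,[7521,4809],[]),
(1,[7521,4810],[]),
(1,[7475],[]),
(1,[7527,5232],[]),
(1,[6784,7528],[]),
(1,[7488],[]),
(1,[7533,4012],[]),
(1,[3903,7534],[]),
(1,[7533,4890],[]),
(1,[4601,7538],[]),
(1,[7533,7411],[]),
(1,[7493],[]),
(1,[7545,4215],[]),
(1,[7305,7546],[]),
(1,[7499],[]),
(1,[7551,4275],[]),
(1,[7551,4303],[]),
(1,[3261,7554],[]),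
(1,[7519],[]),
(1,[7559,5740],[]),
(1,[5018,7560],[]),
(1,[7531],[]),
(1,[7565,5234],[]),
(1,[6783,7566],[]),
(1,[7537],[]),
(1,[7571,4014],[]),
(1,[4327,7572],[]),
(1,[7541],[]),
(1,[7577,4892],[]),
(1,[7577,7501],[]),
(1,[4603,7580],[]),
(1,[7549],[]),
(1,[7585,4213],[]),
(1,[52,7586],[]),
(1,[7557],[]),
(1,[7591,4301],[]),
(1,[7563],[]),
(1,[7595,5742],[]),
(1,[7568],[]),
(1,[7599,5400],[]),
(1,[7599,6783],[]),
(1,[7574],[]),
(1,[7605,4426],[]),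
(1,[4017,7606],[]),
(1,[7605,4328],[]),
(1,[7605,4327],[]),
(1,[7582],[]),
(1,[7615,4604],[]),
(1,[7615,4603],[]),
(1,[7589],[]),
(1,[7621,4211],[]),
(1,[3584,7622],[]),
(1,[7609],[]),
(1,[7627,4428],[]),
(1,[4019,7628],[]),
(1,[7627,7013],[]),
(1,[7625],[]),
(1,[7635,4209],[]),
(1,[3663,7636],[]),
(1,[7630],[]),
(1,[7641,4020],[]),
(1,[7641,4019],[]),
(1,[7639],[]),
(1,[7647,3665],[]),
(1,[7647,3666],[]),
(1,[4060,7650],[]),
(1,[7652],[]),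
(1,[7655,4059],[]),
(1,[4008,7656],[]),
(1,[7655,4060],[]),
(1,[7659],[]),
(1,[7663,4057],[]),
(1,[7663,4089],[]),
(1,[4006,7666],[]),
(1,[7669],[]),
(1,[7671,4087],[]),
(3,[],[4656,6973,4465,4463,4461]),
(8,[4656,6973,4466,4468,4889,6922,5138,6968,7058,3365,7059,6969,5139,6923,4888,4469,4467,6972,4657,4655],[]),
(1,[7677],[]),
(1,[7679,4655],[]),
(1,[7679,7674],[]),
(1,[4575,7682],[]),
(1,[7679,4656],[]),
(1,[4572,7686],[]),
(1,[7684],[]),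
(1,[7691,4576],[]),
(1,[4461,7692],[]),
(1,[7691,4575],[]),
(1,[7689],[]),
(1,[7699,6973],[]),
(1,[7695],[]),
(1,[7703,4578],[]),
(4,[5974,4537,4535,4625,4706,6377,4707,4624,4534,4536,5975,5972],[]),
(1,[7706],[]),
(1,[7709,5973],[]),
(1,[7709,5413],[]),
(1,[4676,7712],[]),
(1,[7715],[]),
(1,[7717,5411],[]),
(1,[4674,7718],[]),
(1,[7721],[]),
(1,[7723,5409],[]),
(1,[6006,7724],[]),
(1,[7727],[]),
(1,[7729,5407],[]),
(1,[5011,7730],[]),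
(1,[7733],[]),
(1,[7735,5405],[]),
(6,[5974,4537,4606,4501,6857,4620,4622,4624,4534,4536,4538,4540,4542],[7711,4677]),
(5,[6407,4712,4714,7167,6524,3211,3365,7059,6969,7192,7179,5626,6326],[6377,4707,4623,4621,6856,6865,4097,7350]),
(1,[7740],[]),
(1,[7743,7185],[]),
(1,[7743,6327],[]),
(1,[5238,7746],[]),
(1,[7749],[]),
(1,[7751,5628],[]),
(1,[5236,7752],[]),
(1,[7751,5627],[]),
(1,[7755],[]),
(1,[7759,5630],[]),
(1,[7601,7760],[]),
(1,[7763],[]),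
(1,[7765,7452],[]),
(1,[5403,7766],[]),
(1,[7769],[]),
(1,[7771,5745],[]),
(4,[4714,7167,6526,7179,7757,5237,7602,4820,4822,5146],[7257]),
(6,[6476,4621,4619,4091,4066,4068,4070,4430,4432],[7167,6526,7179,7745,7351,4095,4256]),
(1,[7776],[]),
(1,[7779,4433],[]),
(1,[4259,7780],[]),
(1,[7783],[]),
(1,[7785,4431],[]),
(1,[7297,7786],[]),
(1,[7788],[]),
(1,[7791,7297],[]),
(1,[7791,5099],[]),
(1,[4070,7794],[]),
(1,[7797],[]),
(1,[7799,5097],[]),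
(5,[6476,4622,4706,6377,6407,4712,7257,7775,5148],[7167,6526,7193,5139,6923,7479,7525,7523,4807,7468,5025,5023]),
(1,[7802],[]),
(1,[7805,6919],[]),
(1,[7805,5149],[]),
(1,[5020,7808],[]),
(1,[7811],[]),
(1,[7813,5147],[]),
(1,[5018,7814],[]),
(1,[7813,7774],[]),
(1,[7816],[]),
(1,[7821,5018],[]),
(1,[7821,7596],[]),
(1,[5419,7824],[]),
(1,[7821,5017],[]),
(1,[4822,7828],[]),
(1,[7827],[]),
(1,[7833,7773],[]),
(1,[5421,7834],[]),
(1,[7831],[]),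
(1,[7839,5015],[]),
(1,[7836],[]),
(1,[7843,5422],[]),
(1,[7843,5421],[]),
(7,[6476,4622,4706,6377,6407,4800,4802],[7167,6526,7179,7745,5239,7756,7178,7193,5139,6923,7479,7525,7523,4807,4805,4803]),
(5,[4806,7524,7478,4888,4470,6785,4820,4822,5418,7847,5403],[4805,4803,7849,4804,7468,7382,6923,4888,4469]),
(4,[7524,6886,2996,2998,5068,5092],[7523,7524,6886,2996,2998,5068]),
(1,[7852],[]),
(1,[7855,5093],[]),
(1,[7855,5094],[]),
(1,[5071,7858],[]),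
(1,[7861],[]),
(1,[7863,7801],[]),
(1,[7051,7864],[]),
(1,[7866],[]),
(1,[7869,5390],[]),
(1,[4068,7870],[]),
(1,[7869,7051],[]),
(1,[7873],[]),
(1,[7877,7323],[]),
(1,[4611,7878],[]),
(1,[7880],[]),
(1,[7883,4595],[]),
(1,[4422,7884],[]),
(1,[7883,4596],[]),
(1,[4425,7888],[]),
(1,[7883,4611],[]),
(1,[7887],[]),
(1,[7895,4593],[]),
(1,[7423,7896],[]),
(1,[7891],[]),
(1,[7901,7396],[]),
(1,[3952,7902],[]),
(1,[7901,4598],[]),
(1,[3955,7906],[]),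
(1,[7898],[]),
(1,[7911,7423],[]),
(1,[7911,5045],[]),
(1,[7905],[]),
(1,[7917,4856],[]),
(1,[3929,7918],[]),
(1,[7909],[]),
(1,[7923,4530],[]),
(1,[3957,7924],[]),
(1,[7921],[]),
(1,[7929,7441],[]),
(1,[7632,7930],[]),
(1,[7927],[]),
(1,[7935,4063],[]),
(1,[7935,4064],[]),
(1,[3959,7938],[]),
(1,[7932],[]),
(1,[7943,4017],[]),
(1,[3882,7944],[]),
(1,[7943,7645],[]),
(1,[3885,7948],[]),
(1,[7943,7632],[]),
(1,[7941],[]),
(1,[7955,4090],[]),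
(1,[3961,7956],[]),
(1,[7955,4066],[]),
(1,[7947],[]),
(1,[7963,7610],[]),
(1,[7347,7964],[]),
(1,[7963,7612],[]),
(1,[3880,7968],[]),
(1,[7950],[]),
(1,[7973,3886],[]),
(1,[3203,7974],[]),
(1,[7973,7508],[]),
(1,[6872,7978],[]),
(1,[7973,3885],[]),
(1,[7959],[]),
(1,[7985,4092],[]),
(1,[3963,7986],[]),
(1,[7985,4618],[]),
(1,[7967],[]),
(1,[7993,7122],[]),
(1,[7971],[]),
(1,[7997,3903],[])]
theorem ok15 : data.stepsOK st15 3750 = true := by decide +kernel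
def st16 : List Step := [
(1,[3878,7998],[]),
(1,[7997,3904],[]),
(1,[7977],[]),
(1,[8005,3888],[]),
(1,[2992,8006],[]),
(1,[7981],[]),
(1,[8011,3914],[]),
(1,[61,8012],[]),
(1,[7989],[]),
(1,[8017,4256],[]),
(1,[3965,8018],[]),
(1,[8017,4094],[]),
(1,[8001],[]),
(1,[8025,4600],[]),
(1,[3650,8026],[]),
(1,[8025,7542],[]),
(1,[3653,8030],[]),
(1,[8009],[]),
(1,[8035,3890],[]),
(1,[64,8036],[]),
(1,[8015],[]),
(1,[8041,3916],[]),
(1,[63,8042],[]),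
(1,[8021],[]),
(1,[8047,4258],[]),
(1,[8029],[]),
(1,[8051,7578],[]),
(1,[8051,7619],[]),
(1,[3648,8054],[]),
(1,[8032],[]),
(1,[8059,3654],[]),
(1,[3366,8060],[]),
(1,[8059,3653],[]),
(1,[8039],[]),
(1,[8067,3892],[]),
(1,[62,8068],[]),
(1,[8067,3981],[]),
(1,[2870,8072],[]),
(1,[8045],[]),
(1,[8077,3918],[]),
(1,[65,8078],[]),
(1,[8056],[]),
(1,[8083,4304],[]),
(1,[3259,8084],[]),
(1,[8083,3647],[]),
(1,[7617,8088],[]),
(1,[8083,7504],[]),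
(1,[3256,8092],[]),
(1,[8083,3648],[]),
(1,[8063],[]),
(1,[8099,4280],[]),
(1,[8065,8100],[]),
(1,[8099,3656],[]),
(1,[3191,8104],[]),
(1,[8071],[]),
(1,[8109,3476],[]),
(1,[60,8110],[]),
(1,[8109,3475],[]),
(1,[4533,8114],[]),
(1,[8075],[]),
(1,[8119,3979],[]),
(1,[4502,8120],[]),
(1,[8081],[]),
(1,[8125,3920],[]),
(1,[2993,8126],[]),
(1,[8087],[]),
(1,[8131,4306],[]),
(1,[7553,8132],[]),
(1,[8090],[]),
(1,[8137,7617],[]),
(1,[8095],[]),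
(1,[8141,4558],[]),
(1,[7415,8142],[]),
(1,[8103],[]),
(1,[8147,4282],[]),
(1,[3879,8148],[]),
(1,[8147,4608],[]),
(1,[3650,8152],[]),
(1,[8107],[]),
(1,[8157,3658],[]),
(1,[7305,8158],[]),
(1,[8157,3864],[]),
(1,[3363,8162],[]),
(1,[8113],[]),
(1,[8167,3478],[]),
(1,[58,8168],[]),
(1,[8116],[]),
(1,[8173,4625],[]),
(1,[3991,8174],[]),
(1,[8173,4534],[]),
(1,[3472,8178],[]),
(1,[8173,4533],[]),
(1,[8122],[]),
(1,[8185,4501],[]),
(1,[3976,8186],[]),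
(1,[8185,4502],[]),
(1,[8129],[]),
(1,[8193,3951],[]),
(1,[2995,8194],[]),
(1,[8135],[]),
(1,[8199,4308],[]),
(1,[4272,8200],[]),
(1,[8145],[]),
(1,[8205,4560],[]),
(1,[4417,8206],[]),
(1,[8151],[]),
(1,[8211,4284],[]),
(1,[3881,8212],[]),
(1,[8155],[]),
(1,[8217,4565],[]),
(1,[8161],[]),
(1,[8221,3860],[]),
(1,[52,8222],[]),
(1,[8221,3660],[]),
(1,[55,8226],[]),
(1,[8165],[]),
(1,[8231,3866],[]),
(1,[7415,8232],[]),
(1,[8171],[]),
(1,[8237,3459],[]),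
(1,[4415,8238],[]),
(1,[8237,3559],[]),
(1,[3927,8242],[]),
(1,[8177],[]),
(1,[8247,4706],[]),
(1,[8247,4623],[]),
(1,[3993,8250],[]),
(1,[8181],[]),
(1,[8255,4536],[]),
(1,[3470,8256],[]),
(1,[8189],[]),
(1,[8261,6857],[]),
(1,[8261,6865],[]),
(1,[3974,8264],[]),
(1,[8197],[]),
(1,[8269,3949],[]),
(1,[2997,8270],[]),
(1,[8203],[]),
(1,[8275,4310],[]),
(1,[4270,8276],[]),
(1,[8209],[]),
(1,[8281,4562],[]),
(1,[8215],[]),
(1,[8285,4286],[]),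
(1,[7347,8286],[]),
(1,[8225],[]),
(1,[8291,7937],[]),
(1,[3584,8292],[]),
(1,[8228],[]),
(1,[8297,56],[]),
(1,[8297,55],[]),
(1,[8234],[]),
(1,[8303,7415],[]),
(1,[8303,4416],[]),
(1,[3869,8306],[]),
(1,[8303,4229],[]),
(1,[8240],[]),
(1,[8313,4415],[]),
(1,[8244],[]),
(1,[8317,3952],[]),
(1,[3556,8318],[]),
(1,[8317,3928],[]),
(1,[4457,8322],[]),
(1,[8317,3927],[]),
(1,[8253],[]),
(1,[8329,4621],[]),
(1,[3995,8330],[]),
(1,[8329,6477],[]),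
(1,[8259],[]),
(1,[8337,4538],[]),
(1,[3468,8338],[]),
(1,[8337,5975],[]),
(1,[8267],[]),
(1,[8345,4098],[]),
(1,[3972,8346],[]),
(1,[8345,4097],[]),
(1,[8273],[]),
(1,[8353,3947],[]),
(1,[6689,8354],[]),
(1,[8279],[]),
(1,[8359,4312],[]),
(1,[8289],[]),
(1,[8363,4288],[]),
(1,[8002,8364],[]),
(1,[8295],[]),
(1,[8369,3958],[]),
(1,[3582,8370],[]),
(1,[8369,3957],[]),
(1,[3663,8374],[]),
(1,[8309],[]),
(1,[8379,4418],[]),
(1,[3871,8380],[]),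
(1,[8379,8282],[]),
(1,[8321],[]),
(1,[8387,3954],[]),
(1,[3554,8388],[]),
(1,[8387,4425],[]),
(1,[3876,8392],[]),
(1,[8324],[]),
(1,[8397,4458],[]),
(1,[3931,8398],[]),
(1,[8397,4457],[]),
(1,[8333],[]),
(1,[8405,7991],[]),
(1,[3997,8406],[]),
(1,[8405,8263],[]),
(1,[8341],[]),
(1,[8413,4540],[]),
(1,[3466,8414],[]),
(1,[8413,5008],[]),
(1,[8349],[]),
(1,[8421,4100],[]),
(1,[8421,6992],[]),
(1,[3970,8424],[]),
(1,[8356],[]),
(1,[8429,4473],[]),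
(1,[3944,8430],[]),
(1,[8429,6689],[]),
(1,[8429,6606],[]),
(1,[8367],[]),
(1,[8439,4290],[]),
(1,[3878,8440],[]),
(1,[8373],[]),
(1,[8445,7960],[]),
(1,[3580,8446],[]),
(1,[8377],[]),
(1,[8451,4038],[]),
(1,[7648,8452],[]),
(1,[8383],[]),
(1,[8457,4420],[]),
(1,[3873,8458],[]),
(1,[8451,8391],[]),
(1,[8463,7649,8462],[]),
(1,[3552,8464],[]),
(1,[8463,3663],[]),
(1,[4481,8468],[]),
(1,[8463,7661],[]),
(1,[3555,8472],[]),
(1,[8395],[]),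
(1,[8477,7892],[]),
(1,[8401],[]),
(1,[8481,4460],[]),
(1,[3933,8482],[]),
(1,[8481,7696],[]),
(1,[8408],[]),
(1,[8489,3998],[]),
(1,[8489,4112],[]),
(1,[3963,8492],[]),
(1,[8489,3997],[]),
(1,[8417],[])]
theorem ok16 : data.stepsOK st16 4000 = true := by decide +kernel
def st17 : List Step := [
(1,[8499,4542],[]),
(1,[3464,8500],[]),
(1,[8427],[]),
(1,[8505,7807],[]),
(1,[8433],[]),
(1,[8509,6785],[]),
(1,[8509,4471],[]),
(1,[3942,8512],[]),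
(1,[8443],[]),
(1,[8517,4292],[]),
(1,[3650,8518],[]),
(1,[8449],[]),
(1,[8523,4068],[]),
(1,[3578,8524],[]),
(1,[8523,8479],[]),
(1,[8455,8462],[]),
(1,[8531,4504],[]),
(1,[4481,8532],[]),
(1,[8531,4040],[]),
(1,[3555,8536],[]),
(1,[8461],[]),
(1,[8541,7913],[]),
(1,[8467],[]),
(1,[8545,3553],[]),
(1,[8545,4480],[]),
(1,[3550,8548],[]),
(1,[8545,3554],[]),
(1,[8470],[]),
(1,[8475],[]),
(1,[8557,4009],[]),
(1,[3557,8558],[]),
(1,[8557,3668],[]),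
(1,[3876,8562],[]),
(1,[8485],[]),
(1,[8567,7704],[]),
(1,[4235,8568],[]),
(1,[8567,4462],[]),
(1,[3935,8572],[]),
(1,[8495],[]),
(1,[8577,4114],[]),
(1,[3965,8578],[]),
(1,[8503],[]),
(1,[8583,7738],[]),
(1,[3563,8584],[]),
(1,[8583,5032],[]),
(1,[8515],[]),
(1,[8591,4889],[]),
(1,[8591,4469],[]),
(1,[3940,8594],[]),
(1,[8521],[]),
(1,[8599,4294],[]),
(1,[8096,8600],[]),
(1,[8527],[]),
(1,[8605,4070],[]),
(1,[3576,8606],[]),
(1,[8605,7874],[]),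
(1,[8535,8554],[]),
(1,[8613,4506],[]),
(1,[3582,8614],[]),
(1,[8539],[]),
(1,[8619,4042],[]),
(1,[3876,8620],[]),
(1,[8555,8551],[]),
(1,[8625,3584],[]),
(1,[4001,8626],[]),
(1,[8625,3986],[]),
(1,[8625,3583],[]),
(1,[3548,8632],[]),
(1,[8561],[]),
(1,[8637,7664],[]),
(1,[8402,8638],[]),
(1,[8637,4007],[]),
(1,[8327,8642],[]),
(1,[8564],[]),
(1,[8647,3875],[]),
(1,[2968,8648],[]),
(1,[8647,3876],[]),
(1,[8647,8529],[]),
(1,[2971,8654],[]),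
(1,[8571],[]),
(1,[8659,4580],[]),
(1,[4237,8660],[]),
(1,[8575],[]),
(1,[8665,4464],[]),
(1,[3937,8666],[]),
(1,[8581],[]),
(1,[8671,4116],[]),
(1,[3967,8672],[]),
(1,[8587],[]),
(1,[8677,4676],[]),
(1,[8677,4675],[]),
(1,[223,8680],[]),
(1,[8597],[]),
(1,[8685,7851],[]),
(1,[8603],[]),
(1,[8689,4296],[]),
(1,[3259,8690],[]),
(1,[8609],[]),
(1,[8695,7792],[]),
(1,[3574,8696],[]),
(1,[8695,4072],[]),
(1,[8617],[]),
(1,[8703,4508],[]),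
(1,[3580,8704],[]),
(1,[8623,8646],[]),
(1,[8709,4044],[]),
(1,[2968,8710],[]),
(1,[8628],[]),
(1,[8715,4001],[]),
(1,[8635],[]),
(1,[8719,8491],[]),
(1,[8719,3581],[]),
(1,[3546,8722],[]),
(1,[8641],[]),
(1,[8727,4055],[]),
(1,[3931,8728],[]),
(1,[8645],[]),
(1,[8733,7672],[]),
(1,[59,8734],[]),
(1,[8651],[]),
(1,[8739,3873],[]),
(1,[2966,8740],[]),
(1,[8739,8542],[]),
(1,[3671,8744],[]),
(1,[8657],[]),
(1,[8749,3579],[]),
(1,[2973,8750],[]),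
(1,[8663],[]),
(1,[8755,4582],[]),
(1,[8669],[]),
(1,[8759,7701],[]),
(1,[8675],[]),
(1,[8763,4218],[]),
(1,[8763,4118],[]),
(1,[3969,8766],[]),
(1,[8683],[]),
(1,[8771,4673],[]),
(1,[225,8772],[]),
(1,[8771,6007],[]),
(1,[8693],[]),
(1,[8779,4298],[]),
(1,[7553,8780],[]),
(1,[8699],[]),
(1,[8785,8049],[]),
(1,[3572,8786],[]),
(1,[8785,4260],[]),
(1,[8707,8748],[]),
(1,[8793,4510],[]),
(1,[8713],[]),
(1,[8797,4046],[]),
(1,[2966,8798],[]),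
(1,[8724,8748],[]),
(1,[8803,3545],[]),
(1,[8795,8804],[]),
(1,[8803,3546],[]),
(1,[8731],[]),
(1,[8811,4053],[]),
(1,[3933,8812],[]),
(1,[8737],[]),
(1,[8817,4085],[]),
(1,[6873,8818],[]),
(1,[8743],[]),
(1,[8823,3871],[]),
(1,[3560,8824],[]),
(1,[8747],[]),
(1,[8829,4591],[]),
(1,[8829,7914],[]),
(1,[3673,8832],[]),
(1,[8753],[]),
(1,[8837,3577],[]),
(1,[8837,8610],[]),
(1,[2975,8840],[]),
(1,[8769],[]),
(1,[8845,4120],[]),
(1,[3971,8846],[]),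
(1,[8775],[]),
(1,[8851,3936],[]),
(1,[8851,3935],[]),
(1,[227,8854],[]),
(1,[8783],[]),
(1,[8859,7593],[]),
(1,[8789],[]),
(1,[8863,3965],[]),
(1,[3746,8864],[]),
(1,[8863,3966],[]),
(1,[8801],[]),
(1,[8871,4048],[]),
(1,[3744,8872],[]),
(1,[8806],[]),
(1,[8877,8795],[]),
(1,[8815],[]),
(1,[8881,4051],[]),
(1,[4235,8882],[]),
(1,[8821],[]),
(1,[8887,4083],[]),
(1,[3203,8888],[]),
(1,[8827],[]),
(1,[8893,8384],[]),
(1,[8893,3869],[]),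
(1,[3483,8896],[]),
(1,[8835],[]),
(1,[8901,5043],[]),
(1,[8843],[]),
(1,[8905,5072],[]),
(1,[4110,8906],[]),
(1,[8905,5071],[]),
(1,[2977,8910],[]),
(1,[8849],[]),
(1,[8915,4122],[]),
(1,[8857],[]),
(1,[8919,4234],[]),
(1,[229,8920],[]),
(1,[8919,3933],[]),
(1,[8867],[]),
(1,[8927,8022],[]),
(1,[8927,3963],[]),
(1,[413,8930],[]),
(1,[8875],[]),
(1,[8884,8934],[]),
(1,[8937,4236],[]),
(1,[8891],[]),
(1,[8941,4081],[]),
(1,[2995,8942],[]),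
(1,[8899],[]),
(1,[8947,8304],[]),
(1,[8947,8310],[]),
(1,[3485,8950],[]),
(1,[8909],[]),
(1,[8955,5074],[]),
(1,[8913],[]),
(1,[8959,7857,8958],[]),
(1,[1374,8960],[]),
(1,[8959,5069],[]),
(1,[1377,8964],[]),
(1,[8937,8923],[]),
(1,[8969,3743],[]),
(1,[228,8970],[]),
(1,[8969,8938],[]),
(1,[8969,3744],[]),
(1,[231,8976],[]),
(1,[8933],[]),
(1,[8981,8721],[]),
(1,[415,8982],[]),
(1,[8981,8496],[]),
(1,[3085,8986],[]),
(1,[8945],[]),
(1,[8991,4079],[]),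
(1,[2997,8992],[]),
(1,[8953],[]),
(1,[8997,4227],[])]
theorem ok17 : data.stepsOK st17 4250 = true := by decide +kernel
def st18 : List Step := [
(1,[8997,4325],[]),
(1,[3487,9000],[]),
(1,[8963],[]),
(1,[9005,1375],[]),
(1,[9005,2977],[]),
(1,[1372,9008],[]),
(1,[9005,1376],[]),
(1,[8967],[]),
(1,[9015,2999],[]),
(1,[1379,9016],[]),
(1,[9015,3000],[]),
(1,[8973],[]),
(1,[9023,3741],[]),
(1,[226,9024],[]),
(1,[8979],[]),
(1,[9029,3561],[]),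
(1,[9029,2965],[]),
(1,[9029,2966],[]),
(1,[233,9034],[]),
(1,[8985],[]),
(1,[9039,8809],[]),
(1,[9039,3548],[]),
(1,[417,9042],[]),
(1,[8989],[]),
(1,[9047,3995],[]),
(1,[9047,8410],[]),
(1,[3087,9050],[]),
(1,[8995],[]),
(1,[9055,4077],[]),
(1,[9003],[]),
(1,[9059,4323],[]),
(1,[9011],[]),
(1,[9063,4111],[]),
(1,[2962,9064],[]),
(1,[9063,2975],[]),
(1,[3068,9068],[]),
(1,[9019],[]),
(1,[9073,9056],[]),
(1,[1378,9074],[]),
(1,[9073,7094],[]),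
(1,[9073,2997],[]),
(1,[9073,8435],[]),
(1,[1381,9082],[]),
(1,[9027],[]),
(1,[9087,3739],[]),
(1,[224,9088],[]),
(1,[9037],[]),
(1,[9093,2968],[]),
(1,[235,9094],[]),
(1,[9093,3670],[]),
(1,[9045],[]),
(1,[9101,8717],[]),
(1,[419,9102],[]),
(1,[9101,8630],[]),
(1,[9101,3550],[]),
(1,[9053],[]),
(1,[9111,3976],[]),
(1,[3089,9112],[]),
(1,[9111,3975],[]),
(1,[9067],[]),
(1,[9119,8956],[]),
(1,[3158,9120],[]),
(1,[9119,4109],[]),
(1,[3082,9124],[]),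
(1,[9070],[]),
(1,[9129,3067],[]),
(1,[2972,9130],[]),
(1,[9129,3068],[]),
(1,[9077],[]),
(1,[9137,4075],[]),
(1,[9021,9138],[]),
(1,[9085],[]),
(1,[9143,3945],[]),
(1,[9143,8436],[]),
(1,[1383,9146],[]),
(1,[9091],[]),
(1,[9151,3737],[]),
(1,[222,9152],[]),
(1,[9097],[]),
(1,[9157,8652],[]),
(1,[237,9158],[]),
(1,[9157,2970],[]),
(1,[2419,9162],[]),
(1,[9104],[]),
(1,[9167,419],[]),
(1,[9167,420],[]),
(1,[53,9170],[]),
(1,[9115],[]),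
(1,[9175,8190],[]),
(1,[9175,3983],[]),
(1,[3091,9178],[]),
(1,[9123],[]),
(1,[9183,5076],[]),
(1,[9127],[]),
(1,[9187,4107],[]),
(1,[9133],[]),
(1,[9191,3065],[]),
(1,[9141],[]),
(1,[9195,8701],[]),
(1,[9148],[]),
(1,[9199,1384],[]),
(1,[69,9200],[]),
(1,[9199,1383],[]),
(1,[9155],[]),
(1,[9207,3735],[]),
(1,[8679,9208],[]),
(1,[9161],[]),
(1,[9213,3556],[]),
(1,[208,9214],[]),
(1,[9213,8553],[]),
(1,[392,9218],[]),
(1,[9165],[]),
(1,[9223,2972],[]),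
(1,[9223,8879],[]),
(1,[9223,9192],[]),
(1,[2418,9228],[]),
(1,[9223,9041],[]),
(1,[1089,9232],[]),
(1,[9173],[]),
(1,[9237,422],[]),
(1,[8300,9238],[]),
(1,[9181],[]),
(1,[9243,3471],[]),
(1,[3093,9244],[]),
(1,[9243,3472],[]),
(1,[9203],[]),
(1,[9251,1386],[]),
(1,[71,9252],[]),
(1,[9210],[]),
(1,[9257,7711,9256],[]),
(1,[9257,8343],[]),
(1,[3732,9260],[]),
(1,[9257,8679],[]),
(1,[9217],[]),
(1,[9267,8403],[]),
(1,[556,9268],[]),
(1,[9267,8326],[]),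
(1,[426,9272],[]),
(1,[9221],[]),
(1,[9277,8547,9276],[]),
(1,[390,9278],[]),
(1,[9277,9109],[]),
(1,[9231],[]),
(1,[9285,3063],[]),
(1,[234,9286],[]),
(1,[9234],[]),
(1,[9291,1090],[]),
(1,[414,9292],[]),
(1,[9291,1089],[]),
(1,[9241],[]),
(1,[9299,2628],[]),
(1,[51,9300],[]),
(1,[9247],[]),
(1,[9305,3469],[]),
(1,[9255],[]),
(1,[9309,2277],[]),
(1,[73,9310],[]),
(1,[9309,1163],[]),
(1,[5511,9314],[]),
(1,[9309,1493],[]),
(1,[6557,9318],[]),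
(1,[9262,9304],[]),
(1,[9323,3731],[]),
(1,[9323,3732],[]),
(1,[3095,9326],[]),
(1,[9271],[]),
(1,[9331,3930],[]),
(1,[554,9332],[]),
(1,[9331,7953],[]),
(1,[9274],[]),
(1,[9339,426],[]),
(1,[9281],[]),
(1,[9343,391],[]),
(1,[9343,9282],[]),
(1,[388,9346],[]),
(1,[9343,392],[]),
(1,[9289],[]),
(1,[9353,3061],[]),
(1,[232,9354],[]),
(1,[9295],[]),
(1,[9359,1092],[]),
(1,[3085,9360],[]),
(1,[9303],[]),
(1,[9365,890],[]),
(1,[9169,9366],[]),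
(1,[9313],[]),
(1,[9371,2278],[]),
(1,[6692,9372],[]),
(1,[9371,2280],[]),
(1,[75,9376],[]),
(1,[9371,624],[]),
(1,[6714,9380],[]),
(1,[9316],[]),
(1,[9385,5511],[]),
(1,[9321],[]),
(1,[9389,1491],[]),
(1,[588,9390],[]),
(1,[9329],[]),
(1,[9395,9259,9394],[]),
(1,[3097,9396],[]),
(1,[9395,9264],[]),
(1,[9335],[]),
(1,[9403,8925],[]),
(1,[552,9404],[]),
(1,[9403,8486],[]),
(1,[9349],[]),
(1,[9411,9169],[]),
(1,[386,9412],[]),
(1,[9411,9106],[]),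
(1,[9411,417],[]),
(1,[9357],[]),
(1,[9421,3059],[]),
(1,[230,9422],[]),
(1,[9362],[]),
(1,[9427,9048],[]),
(1,[1095,9428],[]),
(1,[9427,3085],[]),
(1,[9427,3086],[]),
(1,[9369,9410],[]),
(1,[9437,892],[]),
(1,[389,9438],[]),
(1,[9374],[]),
(1,[9443,6692],[]),
(1,[9379],[]),
(1,[9447,1333],[]),
(1,[6800,9448],[]),
(1,[9383],[]),
(1,[9453,2402],[]),
(1,[5066,9454],[]),
(1,[9393],[]),
(1,[9459,1489],[]),
(1,[2871,9460],[]),
(1,[9398],[]),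
(1,[9465,3097],[]),
(1,[9465,3180],[]),
(1,[3183,9468],[]),
(1,[9406],[]),
(1,[9473,551],[]),
(1,[229,9474],[]),
(1,[9473,552],[]),
(1,[9414],[]),
(1,[9481,386],[]),
(1,[9481,385],[]),
(1,[50,9484],[]),
(1,[9425],[]),
(1,[9489,3057],[]),
(1,[8975,9490],[]),
(1,[9431],[]),
(1,[9495,3993],[]),
(1,[9495,8334],[])]
theorem ok18 : data.stepsOK st18 4500 = true := by decide +kernel
def st19 : List Step := [
(1,[1097,9498],[]),
(1,[9441],[]),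
(1,[9503,894],[]),
(1,[9351,9504],[]),
(1,[9450],[]),
(1,[9509,6800],[]),
(1,[9509,6802],[]),
(1,[9509,3211],[]),
(1,[1330,9514],[]),
(1,[9509,6525],[]),
(1,[9456],[]),
(1,[9521,5066],[]),
(1,[9521,6969],[]),
(1,[1200,9524],[]),
(1,[9521,7058],[]),
(1,[9463],[]),
(1,[9531,1487],[]),
(1,[65,9532],[]),
(1,[9470],[]),
(1,[9537,3039],[]),
(1,[9537,3183],[]),
(1,[9537,3040],[]),
(1,[3036,9542],[]),
(1,[9477],[]),
(1,[9547,549],[]),
(1,[8975,9548],[]),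
(1,[9487],[]),
(1,[9553,383],[]),
(1,[8301,9554],[]),
(1,[9492],[]),
(1,[9559,8756],[]),
(1,[9559,4238],[]),
(1,[3054,9562],[]),
(1,[9559,4692],[]),
(1,[9559,8975],[]),
(1,[9501],[]),
(1,[9571,7167],[]),
(1,[1099,9572],[]),
(1,[9571,4716],[]),
(1,[9571,4715],[]),
(1,[9507],[]),
(1,[9581,2477],[]),
(1,[208,9582],[]),
(1,[9517],[]),
(1,[9587,3365,9586],[]),
(1,[1328,9588],[]),
(1,[9587,3209],[]),
(1,[9587,9529],[]),
(1,[9527],[]),
(1,[9597,5139],[]),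
(1,[9597,6962],[]),
(1,[9597,7192],[]),
(1,[1198,9602],[]),
(1,[9535],[]),
(1,[9607,1485],[]),
(1,[67,9608],[]),
(1,[9545],[]),
(1,[9613,3042],[]),
(1,[3034,9614],[]),
(1,[9559,9550],[]),
(1,[9619,9560],[]),
(1,[9619,3055],[]),
(1,[9619,9566],[]),
(1,[546,9624],[]),
(1,[9619,9568],[]),
(1,[9557],[]),
(1,[9631,381],[]),
(1,[52,9632],[]),
(1,[9565],[]),
(1,[9637,4240],[]),
(1,[3052,9638],[]),
(1,[9575],[]),
(1,[9643,9519],[]),
(1,[1101,9644],[]),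
(1,[9643,6526],[]),
(1,[9585],[]),
(1,[9651,481],[]),
(1,[556,9652],[]),
(1,[9651,482],[]),
(1,[9340,9656],[]),
(1,[9591],[]),
(1,[9661,1329],[]),
(1,[9661,9592],[]),
(1,[9661,9594],[]),
(1,[1326,9666],[]),
(1,[9661,1330],[]),
(1,[9605],[]),
(1,[9673,7179],[]),
(1,[1196,9674],[]),
(1,[9673,7070],[]),
(1,[9673,9649],[]),
(1,[9611],[]),
(1,[9683,1483],[]),
(1,[9205,9684],[]),
(1,[9617],[]),
(1,[9689,3044],[]),
(1,[3032,9690],[]),
(1,[9627],[]),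
(1,[9695,4694],[]),
(1,[544,9696],[]),
(1,[9635],[]),
(1,[9701,379],[]),
(1,[3985,9702],[]),
(1,[9641],[]),
(1,[9707,4242],[]),
(1,[9647],[]),
(1,[9711,9510],[]),
(1,[1103,9712],[]),
(1,[9711,9512],[]),
(1,[9711,9671],[]),
(1,[9654],[]),
(1,[9721,555],[]),
(1,[2367,9722],[]),
(1,[9721,9336],[]),
(1,[2371,9726],[]),
(1,[9721,556],[]),
(1,[9659],[]),
(1,[9733,484],[]),
(1,[59,9734],[]),
(1,[9668],[]),
(1,[9739,1325],[]),
(1,[1200,9740],[]),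
(1,[9739,1326],[]),
(1,[9677],[]),
(1,[9747,7757],[]),
(1,[1194,9748],[]),
(1,[9747,7745],[]),
(1,[9687],[]),
(1,[9755,1481],[]),
(1,[1380,9756],[]),
(1,[9693],[]),
(1,[9761,3046],[]),
(1,[3030,9762],[]),
(1,[9699],[]),
(1,[9767,4696],[]),
(1,[9704],[]),
(1,[9771,3989],[]),
(1,[9771,3985],[]),
(1,[9771,4201],[]),
(1,[9771,4037],[]),
(1,[376,9778],[]),
(1,[9714],[]),
(1,[9783,1103],[]),
(1,[9783,1104],[]),
(1,[77,9786],[]),
(1,[9724],[]),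
(1,[9791,2367],[]),
(1,[9791,2233],[]),
(1,[9729],[]),
(1,[9797,3883],[]),
(1,[1006,9798],[]),
(1,[9797,7983],[]),
(1,[9737],[]),
(1,[9805,486],[]),
(1,[61,9806],[]),
(1,[9743],[]),
(1,[9811,1323],[]),
(1,[1198,9812],[]),
(1,[9751],[]),
(1,[9817,5237],[]),
(1,[2936,9818],[]),
(1,[9817,5238],[]),
(1,[9759],[]),
(1,[9825,1479],[]),
(1,[9079,9826],[]),
(1,[9765],[]),
(1,[9831,3048],[]),
(1,[3028,9832],[]),
(1,[9781],[]),
(1,[9837,4035],[]),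
(1,[9789],[]),
(1,[9841,1106],[]),
(1,[2550,9842],[]),
(1,[9801],[]),
(1,[9847,7346],[]),
(1,[1004,9848],[]),
(1,[9847,3881],[]),
(1,[9809],[]),
(1,[9855,488],[]),
(1,[63,9856],[]),
(1,[9815],[]),
(1,[9861,1321],[]),
(1,[9679,9862],[]),
(1,[9821],[]),
(1,[9867,7600],[]),
(1,[316,9868],[]),
(1,[9867,7602],[]),
(1,[319,9872],[]),
(1,[9828],[]),
(1,[9877,9079],[]),
(1,[9835],[]),
(1,[9881,3050],[]),
(1,[3026,9882],[]),
(1,[9845],[]),
(1,[9887,1108],[]),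
(1,[596,9888],[]),
(1,[9851],[]),
(1,[9893,7994],[]),
(1,[1002,9894],[]),
(1,[9893,8003],[]),
(1,[9859],[]),
(1,[9901,490],[]),
(1,[65,9902],[]),
(1,[9864],[]),
(1,[9907,9679],[]),
(1,[9871],[]),
(1,[9911,5402],[]),
(1,[2950,9912],[]),
(1,[9911,8687],[]),
(1,[9875],[]),
(1,[9919,4820],[]),
(1,[9919,6780],[]),
(1,[9919,8511],[]),
(1,[321,9924],[]),
(1,[9885],[]),
(1,[9929,9708],[]),
(1,[9929,3052],[]),
(1,[3024,9932],[]),
(1,[9891],[]),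
(1,[9937,1110],[]),
(1,[6715,9938],[]),
(1,[9897],[]),
(1,[9943,4572],[]),
(1,[1000,9944],[]),
(1,[9943,8761],[]),
(1,[9905],[]),
(1,[9951,492],[]),
(1,[2993,9952],[]),
(1,[9915],[]),
(1,[9957,7844],[]),
(1,[2820,9958],[]),
(1,[9957,7737],[]),
(1,[9957,7846],[]),
(1,[933,9964],[]),
(1,[9927],[]),
(1,[9969,9145],[]),
(1,[323,9970],[]),
(1,[9969,3943],[]),
(1,[9935],[]),
(1,[9977,9623],[]),
(1,[3022,9978],[]),
(1,[9941],[]),
(1,[9983,1112],[]),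
(1,[75,9984],[]),
(1,[9947],[]),
(1,[9989,7681,9988],[]),
(1,[9989,9409],[]),
(1,[998,9992],[]),
(1,[9954],[]),
(1,[9997,3203],[])]
theorem ok19 : data.stepsOK st19 4750 = true := by decide +kernel
def st20 : List Step := [
(1,[495,9998],[]),
(1,[9997,2993],[]),
(1,[9997,2994],[]),
(1,[9961],[]),
(1,[10007,5424],[]),
(1,[294,10008],[]),
(1,[9967],[]),
(1,[10013,5419],[]),
(1,[935,10014],[]),
(1,[9973],[]),
(1,[10019,1381],[]),
(1,[10019,9205],[]),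
(1,[325,10022],[]),
(1,[9980],[]),
(1,[10027,3022],[]),
(1,[10027,3021],[]),
(1,[9629,10030],[]),
(1,[9987],[]),
(1,[10035,1114],[]),
(1,[6816,10036],[]),
(1,[9994],[]),
(1,[10041,997],[]),
(1,[9478,10042],[]),
(1,[10041,998],[]),
(1,[10001],[]),
(1,[10049,7642],[]),
(1,[565,10050],[]),
(1,[10049,6873],[]),
(1,[497,10054],[]),
(1,[10049,9803],[]),
(1,[10011],[]),
(1,[10061,5426],[]),
(1,[292,10062],[]),
(1,[10017],[]),
(1,[10067,7822],[]),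
(1,[10067,4824],[]),
(1,[10067,4823],[]),
(1,[937,10072],[]),
(1,[10024],[]),
(1,[10077,326],[]),
(1,[69,10078],[]),
(1,[10077,325],[]),
(1,[10033],[]),
(1,[10085,3019],[]),
(1,[231,10086],[]),
(1,[10038],[]),
(1,[10091,6814],[]),
(1,[10091,6816],[]),
(1,[10091,6818],[]),
(1,[10091,4638],[]),
(1,[1117,10098],[]),
(1,[10045],[]),
(1,[10103,995],[]),
(1,[10053],[]),
(1,[10107,4022],[]),
(1,[10056],[]),
(1,[10111,498],[]),
(1,[61,10112],[]),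
(1,[10111,497],[]),
(1,[10065],[]),
(1,[10119,5428],[]),
(1,[2663,10120],[]),
(1,[10075],[]),
(1,[10125,9921],[]),
(1,[939,10126],[]),
(1,[10125,7840],[]),
(1,[10081],[]),
(1,[10133,328],[]),
(1,[6509,10134],[]),
(1,[10089],[]),
(1,[10139,3017],[]),
(1,[233,10140],[]),
(1,[10101],[]),
(1,[10145,4640],[]),
(1,[10115],[]),
(1,[10149,500],[]),
(1,[8182,10150],[]),
(1,[10123],[]),
(1,[10155,5430],[]),
(1,[149,10156],[]),
(1,[10128],[]),
(1,[10161,939],[]),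
(1,[10161,940],[]),
(1,[321,10164],[]),
(1,[10136],[]),
(1,[10169,589],[]),
(1,[331,10170],[]),
(1,[10169,6509],[]),
(1,[10169,6557],[]),
(1,[10143],[]),
(1,[10179,3015],[]),
(1,[235,10180],[]),
(1,[10152],[]),
(1,[10185,3990],[]),
(1,[503,10186],[]),
(1,[10185,9249],[]),
(1,[10185,8182],[]),
(1,[10159],[]),
(1,[10195,5432],[]),
(1,[2541,10196],[]),
(1,[10167],[]),
(1,[10201,942],[]),
(1,[323,10202],[]),
(1,[10173],[]),
(1,[10207,2870],[]),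
(1,[333,10208],[]),
(1,[10207,9177],[]),
(1,[10183],[]),
(1,[10215,3013],[]),
(1,[2419,10216],[]),
(1,[10189],[]),
(1,[10221,8248],[]),
(1,[505,10222],[]),
(1,[10221,9497],[]),
(1,[10199],[]),
(1,[10229,5434],[]),
(1,[2355,10230],[]),
(1,[10205],[]),
(1,[10235,944],[]),
(1,[10082,10236],[]),
(1,[10210],[]),
(1,[10241,334],[]),
(1,[65,10242],[]),
(1,[10241,333],[]),
(1,[10219],[]),
(1,[10249,3011],[]),
(1,[9225,10250],[]),
(1,[10225],[]),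
(1,[10255,6377,10254],[]),
(1,[10255,6407],[]),
(1,[507,10258],[]),
(1,[10233],[]),
(1,[10263,5436],[]),
(1,[96,10264],[]),
(1,[10239],[]),
(1,[10269,946],[]),
(1,[69,10270],[]),
(1,[10245],[]),
(1,[10275,336],[]),
(1,[67,10276],[]),
(1,[10253],[]),
(1,[10281,3009],[]),
(1,[9135,10282],[]),
(1,[10261],[]),
(1,[10287,4800],[]),
(1,[10287,5162],[]),
(1,[10287,4712],[]),
(1,[509,10292],[]),
(1,[10267],[]),
(1,[10297,5438],[]),
(1,[2252,10298],[]),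
(1,[10297,5508],[]),
(1,[9794,10302],[]),
(1,[10273],[]),
(1,[10307,948],[]),
(1,[71,10308],[]),
(1,[10279],[]),
(1,[10313,338],[]),
(1,[69,10314],[]),
(1,[10285],[]),
(1,[10319,3007],[]),
(1,[2962,10320],[]),
(1,[10295],[]),
(1,[10325,7257],[]),
(1,[10325,9579],[]),
(1,[10301],[]),
(1,[10331,5440],[]),
(1,[2214,10332],[]),
(1,[10305],[]),
(1,[10337,5310],[]),
(1,[9478,10338],[]),
(1,[10311],[]),
(1,[10343,950],[]),
(1,[73,10344],[]),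
(1,[10317],[]),
(1,[10349,340],[]),
(1,[71,10350],[]),
(1,[10323],[]),
(1,[10355,3005],[]),
(1,[3158,10356],[]),
(1,[10355,4705],[]),
(1,[3082,10360],[]),
(1,[10335],[]),
(1,[10365,5442],[]),
(1,[2208,10366],[]),
(1,[10341],[]),
(1,[10371,5312],[]),
(1,[229,10372],[]),
(1,[10347],[]),
(1,[10377,952],[]),
(1,[75,10378],[]),
(1,[10353],[]),
(1,[10383,342],[]),
(1,[10176,10384],[]),
(1,[10358],[]),
(1,[10389,9184],[]),
(1,[10389,3158],[]),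
(1,[10363],[]),
(1,[10395,4703],[]),
(1,[9189,10396],[]),
(1,[10369],[]),
(1,[10401,5444],[]),
(1,[12,10402],[]),
(1,[10375],[]),
(1,[10407,5314],[]),
(1,[9628,10408],[]),
(1,[10381],[]),
(1,[10413,954],[]),
(1,[9785,10414],[]),
(1,[10387],[]),
(1,[10419,344],[]),
(1,[10175,10420],[]),
(1,[10399],[]),
(1,[10425,4701],[]),
(1,[10405],[]),
(1,[10429,5446],[]),
(1,[10,10430],[]),
(1,[10411],[]),
(1,[10435,5316],[]),
(1,[9621,10436],[]),
(1,[10416],[]),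
(1,[10441,9785],[]),
(1,[10441,9716],[]),
(1,[10441,9718],[]),
(1,[957,10446],[]),
(1,[10441,1101],[]),
(1,[10423],[]),
(1,[10453,346],[]),
(1,[5129,10454],[]),
(1,[10433],[]),
(1,[10459,5448],[]),
(1,[8,10460],[]),
(1,[10439],[]),
(1,[10465,5318],[]),
(1,[4585,10466],[]),
(1,[10449],[]),
(1,[10471,9663,10470],[]),
(1,[10471,9664],[]),
(1,[10471,9745],[]),
(1,[959,10476],[]),
(1,[10456],[]),
(1,[10481,5130],[]),
(1,[10481,5129],[]),
(1,[10481,5375],[]),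
(1,[349,10486],[]),
(1,[10463],[]),
(1,[10491,5450],[]),
(1,[94,10492],[]),
(1,[10469],[]),
(1,[10497,5320],[])]
theorem ok20 : data.stepsOK st20 5000 = true := by decide +kernel
def st21 : List Step := [
(1,[4587,10498],[]),
(1,[10479],[]),
(1,[10503,9522],[]),
(1,[10503,1201],[]),
(1,[961,10506],[]),
(1,[10489],[]),
(1,[10511,5373],[]),
(1,[10495],[]),
(1,[10515,5452],[]),
(1,[97,10516],[]),
(1,[10501],[]),
(1,[10521,5322],[]),
(1,[4589,10522],[]),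
(1,[10509],[]),
(1,[10527,9598],[]),
(1,[10527,9600],[]),
(1,[963,10530],[]),
(1,[10527,1199],[]),
(1,[10519],[]),
(1,[10537,5454],[]),
(1,[10525],[]),
(1,[10541,5324],[]),
(1,[10533],[]),
(1,[10545,5262],[]),
(1,[965,10546],[]),
(1,[10549],[]),
(1,[10551,5264],[]),
(1,[967,10552],[]),
(1,[10555],[]),
(1,[10557,5266],[]),
(1,[969,10558],[]),
(1,[10561],[]),
(1,[10563,5268],[]),
(1,[971,10564],[]),
(1,[10567],[]),
(1,[10569,5270],[]),
(1,[973,10570],[]),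
(1,[10573],[]),
(1,[10575,5272],[]),
(1,[975,10576],[]),
(1,[10579],[]),
(1,[10581,5274],[]),
(1,[977,10582],[]),
(1,[10585],[]),
(1,[10587,5276],[]),
(1,[979,10588],[]),
(1,[10587,5503],[]),
(1,[10591],[]),
(1,[10595,5505],[]),
(11,[7479,6886,10005,10002,65,63,61,59,8315,39,37,35,33,2709,1571,142,144],[]),
(11,[4894],[8053,3650,3878,9853,1005,1003,1001,9991,10047,9794,94,7,8,10,12,2214,2252]),
(1,[10600],[]),
(1,[10603,4895],[]),
(1,[97,10604],[]),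
(1,[10603,4896],[]),
(1,[95,10608],[]),
(1,[10607],[]),
(1,[10613,8053],[]),
(1,[10539,10614],[]),
(1,[10611],[]),
(1,[10619,4898],[]),
(1,[9,10620],[]),
(1,[10616],[]),
(1,[10625,10539],[]),
(1,[10625,5456],[]),
(1,[3651,10628],[]),
(1,[10623],[]),
(1,[10633,4900],[]),
(1,[11,10634],[]),
(1,[10631],[]),
(1,[10639,5458],[]),
(1,[8064,10640],[]),
(1,[10637],[]),
(1,[10645,4902],[]),
(1,[13,10646],[]),
(1,[10643],[]),
(1,[10651,5460],[]),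
(1,[3191,10652],[]),
(1,[10649],[]),
(1,[10657,4904],[]),
(1,[2208,10658],[]),
(1,[10655],[]),
(1,[10663,5462],[]),
(1,[7305,10664],[]),
(1,[10661],[]),
(1,[10669,4906],[]),
(1,[2215,10670],[]),
(1,[10667],[]),
(1,[10675,5464],[]),
(1,[8300,10676],[]),
(1,[10673],[]),
(1,[10681,4908],[]),
(1,[2253,10682],[]),
(1,[10679],[]),
(1,[10687,5466],[]),
(1,[8299,10688],[]),
(1,[10685],[]),
(1,[10693,4978],[]),
(1,[9794,10694],[]),
(1,[10691],[]),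
(1,[10699,5468],[]),
(1,[59,10700],[]),
(1,[10697],[]),
(1,[10705,4763],[]),
(1,[9478,10706],[]),
(1,[10703],[]),
(1,[10711,5470],[]),
(1,[61,10712],[]),
(1,[10711,10597],[]),
(1,[4613,10716],[]),
(1,[10709],[]),
(1,[10721,4761],[]),
(1,[229,10722],[]),
(1,[10715],[]),
(1,[10727,10593],[]),
(1,[4615,10728],[]),
(1,[10718],[]),
(1,[10733,4613],[]),
(1,[10733,4653],[]),
(1,[10725],[]),
(1,[10739,4759],[]),
(1,[9628,10740],[]),
(1,[10730],[]),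
(1,[10745,4615],[]),
(1,[10745,4841],[]),
(1,[10743],[]),
(1,[10751,4757],[]),
(1,[9621,10752],[]),
(1,[10755],[]),
(1,[10757,4755],[]),
(1,[4585,10758],[]),
(1,[10761],[]),
(1,[10763,4753],[]),
(1,[4587,10764],[]),
(1,[10767],[]),
(1,[10769,4751],[]),
(1,[4589,10770],[]),
(1,[10773],[]),
(1,[10775,4749],[]),
(1,[10543,10776],[]),
(1,[10778],[]),
(1,[10781,10543],[]),
(1,[10781,5326],[]),
(1,[4746,10784],[]),
(1,[10787],[]),
(1,[10789,5328],[]),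
(1,[4744,10790],[]),
(1,[10793],[]),
(1,[10795,5330],[]),
(1,[4742,10796],[]),
(1,[10799],[]),
(1,[10801,5332],[]),
(1,[4740,10802],[]),
(1,[10805],[]),
(1,[10807,5334],[]),
(1,[4738,10808],[]),
(1,[10811],[]),
(1,[10813,5336],[]),
(1,[4736,10814],[]),
(1,[10817],[]),
(1,[10819,5338],[]),
(1,[4734,10820],[]),
(1,[10823],[]),
(1,[10825,10483],[]),
(1,[4732,10826],[]),
(1,[10825,5127],[]),
(1,[10825,5179],[]),
(1,[10828],[]),
(1,[10835,4732],[]),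
(1,[10835,4731],[]),
(3,[8903,3673,9099,233,231,9629],[]),
(1,[10841],[]),
(1,[10843,5041],[]),
(1,[9621,10844],[]),
(1,[10843,8903],[]),
(1,[546,10848],[]),
(1,[10847],[]),
(1,[10853,5039],[]),
(1,[10851],[]),
(1,[10857,3674],[]),
(1,[10857,3673],[]),
(1,[544,10860],[]),
(1,[10863],[]),
(1,[10865,8830],[]),
(1,[9769,10866],[]),
(1,[10865,9099],[]),
(1,[10868],[]),
(1,[10873,9769],[]),
(1,[10873,4698],[]),
(3,[7483,4264,4266],[10391,10392,3083]),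
(1,[10878],[]),
(1,[10881,4268],[]),
(1,[3080,10882],[]),
(1,[10881,4267],[]),
(1,[9189,10886],[]),
(1,[10885],[]),
(1,[10891,8360],[]),
(1,[3078,10892],[]),
(1,[10891,4270],[]),
(1,[10889],[]),
(1,[10899,4265],[]),
(1,[4104,10900],[]),
(1,[10895],[]),
(1,[10905,4314],[]),
(1,[3076,10906],[]),
(1,[10903],[]),
(1,[10911,4263],[]),
(1,[4102,10912],[]),
(1,[10911,7482],[]),
(1,[10909],[]),
(1,[10919,4316],[]),
(1,[3074,10920],[]),
(1,[10915],[]),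
(1,[10925,8791],[]),
(1,[10923],[]),
(1,[10929,4318],[]),
(1,[3072,10930],[]),
(1,[10933],[]),
(1,[10935,4320],[]),
(1,[3070,10936],[]),
(1,[10939],[]),
(1,[10941,9061],[]),
(1,[1416,10942],[]),
(1,[10945],[]),
(1,[10947,3488],[]),
(1,[10947,3487],[]),
(0,[],[]),
(10,[2551,10952],[6826]),
(0,[],[]),
(0,[],[]),
(0,[],[]),
(0,[],[]),
(0,[],[]),
(0,[],[]),
(11,[77,10443,956,958,10504,6714,73,10177,561,10956,10958,10960,10962,10964,10966],[6826,5806]),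
(0,[],[]),
(0,[],[]),
(0,[],[]),
(0,[],[]),
(0,[],[]),
(0,[],[]),
(0,[],[]),
(0,[],[]),
(0,[],[]),
(0,[],[]),
(0,[],[]),
(0,[],[]),
(0,[],[]),
(0,[],[]),
(0,[],[])]
theorem ok21 : data.stepsOK st21 5250 = true := by decide +kernel
def st22 : List Step := [
(0,[],[]),
(0,[],[]),
(0,[],[]),
(0,[],[]),
(0,[],[]),
(0,[],[]),
(0,[],[]),
(0,[],[]),
(0,[],[]),
(0,[],[]),
(0,[],[]),
(0,[],[]),
(0,[],[]),
(0,[],[]),
(0,[],[]),
(0,[],[]),
(0,[],[]),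
(0,[],[]),
(0,[],[]),
(0,[],[]),
(0,[],[]),
(0,[],[]),
(0,[],[]),
(0,[],[]),
(12,[2551,597,10505,960,10528,7383,7469,4806,10970,10972,10974,10976,10978,10980,10982,10984,10986,10988,10990,10992,10994,10996,10998,11000,11002,11004,11006,11008,11010,11012,11014,11016,11018,11020,11022,11024,11026,11028,11030,11032,11034,11036,11038,11040,11042,11044,11046],[6826]),
(11,[94,7,95,96,2355,2541,149,2663],[9795,10046,9991,10047,9479,228,9629,9620,4584]),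
(10,[2355],[10627,8218]),
(0,[],[]),
(0,[],[]),
(0,[],[]),
(0,[],[]),
(0,[],[]),
(0,[],[]),
(0,[],[]),
(0,[],[]),
(0,[],[]),
(0,[],[]),
(0,[],[]),
(0,[],[]),
(0,[],[]),
(0,[],[]),
(0,[],[]),
(0,[],[]),
(0,[],[]),
(0,[],[]),
(0,[],[]),
(0,[],[]),
(0,[],[]),
(0,[],[]),
(0,[],[]),
(0,[],[]),
(0,[],[]),
(0,[],[]),
(0,[],[]),
(0,[],[]),
(0,[],[]),
(0,[],[]),
(0,[],[]),
(0,[],[]),
(12,[2355,2541,149,2663,2755,402,2858,402,11054,11056,11058,11060,11062,11064,11066,11068,11070,11072,11074,11076,11078,11080,11082,11084,11086,11088,11090,11092,11094,11096,11098,11100,11102,11104,11106,11108,11110,11112,11114,11116],[10627,8097,3258,7552,4273,10897,3079,3077]),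
(11,[2444,2429,2445,2541,149,2663,2755,402,11054,11056],[11052,8895,9031,231,9629,9620,4584]),
(7,[8097,3257,3363,7304,53,9482,9418,9296,2419,235,233,9030,8894],[8218,8895,9031,232,10871,544,10858,3676,3678,3680]),
(11,[141,2851,2776,2705,33,31,29,27,9386,71,69,67,65,10246,10212,3089,9435],[3228]),
(1,[11125],[]),
(1,[11127,3229],[]),
(1,[11127,3230],[]),
(1,[9435,11130],[]),
(1,[11133],[]),
(1,[11135,3232],[]),
(1,[3089,11136],[]),
(1,[11139],[]),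
(1,[11141,3234],[]),
(1,[3091,11142],[]),
(1,[11145],[]),
(1,[11147,3236],[]),
(1,[3093,11148],[]),
(1,[11151],[]),
(1,[11153,3238],[]),
(1,[3095,11154],[]),
(1,[11157],[]),
(1,[11159,3240],[]),
(1,[9401,11160],[]),
(1,[11163],[]),
(1,[11165,3242],[]),
(1,[3562,11166],[]),
(1,[11168],[]),
(1,[11171,3562],[]),
(1,[11171,3463],[]),
(1,[11171,8588],[]),
(1,[3245,11176],[]),
(1,[11171,3464],[]),
(1,[11179],[]),
(1,[11183,5034],[]),
(1,[3328,11184],[]),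
(1,[11187],[]),
(1,[11189,5036],[]),
(1,[3326,11190],[]),
(1,[11193],[]),
(1,[11195,10855],[]),
(1,[3324,11196],[]),
(1,[11199],[]),
(1,[11201,9621],[]),
(1,[3322,11202],[]),
(1,[11201,4584],[]),
(1,[11204],[]),
(1,[11209,3322],[]),
(1,[11209,3321],[]),
(1,[546,11212],[]),
(1,[11215],[]),
(1,[11217,3319],[]),
(1,[544,11218],[]),
(1,[11221],[]),
(1,[11223,3317],[]),
(1,[10871,11224],[]),
(1,[11227],[]),
(1,[11229,3315],[]),
(10,[143,11129,1094],[]),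
(10,[2771],[10598,8593]),
(10,[2729],[2624,10948]),
(11,[2783,36,38,2982,3175,3176,3179,2988,3758],[11234,3941,3939,9949,1001,9991,10047,9792,2370]),
(1,[11238],[]),
(1,[11241,3760],[]),
(1,[1006,11242],[]),
(1,[11241,3759],[]),
(1,[11245],[]),
(1,[11249,3757],[]),
(1,[11249,3859],[]),
(1,[1004,11252],[]),
(1,[11249,3779],[]),
(1,[9853,11256],[]),
(1,[11255],[]),
(1,[11261,3857],[]),
(1,[1002,11262],[]),
(1,[11258],[]),
(1,[11267,3879],[]),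
(1,[3776,11268],[]),
(1,[11267,7242],[]),
(1,[11267,9853],[]),
(1,[11267,9899],[]),
(1,[11265],[]),
(1,[11279,3855],[]),
(1,[1000,11280],[]),
(1,[11270],[]),
(1,[11285,3776],[]),
(1,[11285,3775],[]),
(1,[3650,11288],[]),
(1,[11283],[]),
(1,[11293,3853],[]),
(1,[9990,11294],[]),
(1,[11291],[]),
(1,[11299,3773],[]),
(1,[8096,11300],[]),
(1,[11297],[]),
(1,[11305,3851],[]),
(1,[10046,11306],[]),
(1,[11303],[]),
(1,[11311,3771],[]),
(1,[3259,11312],[]),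
(1,[11309],[]),
(1,[11317,3849],[]),
(1,[9478,11318],[]),
(1,[11315],[]),
(1,[11323,3769],[]),
(1,[7553,11324],[]),
(1,[11321],[]),
(1,[11329,3847],[]),
(1,[226,11330],[]),
(1,[11326],[]),
(1,[11335,4273],[]),
(1,[3766,11336],[]),
(1,[11335,8860],[]),
(1,[11335,7553],[]),
(1,[11333],[]),
(1,[11345,3845],[]),
(1,[11339],[]),
(1,[11349,10897],[]),
(1,[3764,11350],[]),
(1,[11352],[]),
(1,[11355,3763],[]),
(1,[11355,3764],[]),
(6,[9731,9793,9479,228,9629,11210,11206,11121,11057],[208,237,235,10871,10875,4589]),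
(4,[9401,9467,9400,11173,3244,3227,3379,3377,3375],[11173,3244,3227]),
(1,[11362],[]),
(1,[11365,3373],[]),
(1,[3456,11366],[]),
(1,[11365,3374],[]),
(1,[3378,11370],[]),
(1,[11368],[]),
(1,[11375,3455],[]),
(1,[3370,11376],[]),
(1,[11375,3456],[]),
(1,[11372],[]),
(1,[11383,3377],[]),
(1,[11383,3378],[]),
(1,[11383,3586],[]),
(1,[11379],[]),
(1,[11391,3453],[]),
(1,[3368,11392],[]),
(1,[11395],[]),
(1,[11397,3451],[]),
(1,[1037,11398],[]),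
(1,[11401],[]),
(1,[11403,3449],[]),
(1,[1039,11404],[]),
(1,[11407],[]),
(1,[11409,3447],[]),
(1,[1160,11410],[]),
(1,[11413],[]),
(1,[11415,3445],[]),
(6,[223,11173,3244,3227,11381,3371,3369,1036,1038,1017],[224,226,228,230,9030,3482]),
(1,[11419],[]),
(1,[11421,8948],[]),
(1,[1017,11422],[]),
(1,[11421,3483],[]),
(1,[11421,3484],[]),
(1,[3381,11428],[]),
(1,[11425],[]),
(1,[11433,3363],[]),
(1,[1160,11434],[]),
(1,[11433,3256],[]),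
(1,[1038,11438],[]),
(1,[11431],[]),
(1,[11443,8998],[]),
(1,[11443,10951],[]),
(1,[3383,11446],[]),
(1,[11437],[]),
(1,[11451,7304],[]),
(1,[1158,11452],[]),
(1,[11451,7306],[]),
(1,[11451,3191],[]),
(1,[11417,11458],[]),
(1,[11441],[]),
(1,[11463,3258],[]),
(1,[1036,11464],[]),
(1,[11463,8139],[]),
(1,[11463,8096],[]),
(1,[11448],[]),
(1,[11473,3383],[]),
(1,[11473,3384],[]),
(1,[1417,11476],[]),
(1,[11454],[]),
(1,[11481,1158],[]),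
(1,[11481,1157],[]),
(1,[52,11484],[]),
(1,[11460],[]),
(1,[11489,11417],[]),
(1,[11467],[]),
(1,[11493,11343],[]),
(1,[1034,11494],[]),
(1,[11493,3260],[])]
theorem ok22 : data.stepsOK st22 5500 = true := by decide +kernel
def st23 : List Step := [
(1,[3369,11498],[]),
(1,[11479],[]),
(1,[11503,3386],[]),
(1,[3071,11504],[]),
(1,[11487],[]),
(1,[11509,1155],[]),
(1,[9483,11510],[]),
(1,[11497],[]),
(1,[11515,3767],[]),
(1,[11515,11340],[]),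
(1,[1032,11518],[]),
(1,[11500],[]),
(1,[11523,3370],[]),
(1,[3263,11524],[]),
(1,[11523,3369],[]),
(1,[11507],[]),
(1,[11531,3388],[]),
(1,[3073,11532],[]),
(1,[11513],[]),
(1,[11537,1153],[]),
(1,[9419,11538],[]),
(1,[11521],[]),
(1,[11543,3262],[]),
(1,[1030,11544],[]),
(1,[11543,11528],[]),
(1,[11527],[]),
(1,[11551,11380],[]),
(1,[3265,11552],[]),
(1,[11535],[]),
(1,[11557,3390],[]),
(1,[3075,11558],[]),
(1,[11541],[]),
(1,[11563,1151],[]),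
(1,[9297,11564],[]),
(1,[11547],[]),
(1,[11569,3264],[]),
(1,[11554],[]),
(1,[11573,3266],[]),
(1,[3227,11574],[]),
(1,[11573,11571],[]),
(1,[11561],[]),
(1,[11581,3392],[]),
(1,[3077,11582],[]),
(1,[11567],[]),
(1,[11587,1149],[]),
(1,[2418,11588],[]),
(1,[11577],[]),
(1,[11593,3567],[]),
(1,[3222,11594],[]),
(1,[11593,3268],[]),
(1,[3328,11598],[]),
(1,[11585],[]),
(1,[11603,3394],[]),
(1,[11591],[]),
(1,[11607,1147],[]),
(1,[11597],[]),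
(1,[11611,3425],[]),
(1,[2783,11612],[]),
(1,[11600],[]),
(1,[11617,3327],[]),
(1,[3271,11618],[]),
(1,[11617,3328],[]),
(1,[11615],[]),
(1,[11625,3423],[]),
(1,[2771,11626],[]),
(1,[11621],[]),
(1,[11631,3325],[]),
(1,[3273,11632],[]),
(1,[11629],[]),
(1,[11637,3421],[]),
(1,[147,11638],[]),
(1,[11635],[]),
(1,[11643,11211],[]),
(1,[3275,11644],[]),
(1,[11643,11206],[]),
(1,[11641],[]),
(1,[11651,3419],[]),
(1,[149,11652],[]),
(1,[11646],[]),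
(1,[11657,3275],[]),
(1,[11657,3276],[]),
(1,[546,11660],[]),
(1,[11655],[]),
(1,[11665,3417],[]),
(1,[151,11666],[]),
(1,[11663],[]),
(1,[11671,3278],[]),
(1,[544,11672],[]),
(1,[11669],[]),
(1,[11677,3415],[]),
(1,[153,11678],[]),
(1,[11675],[]),
(1,[11683,3280],[]),
(1,[10871,11684],[]),
(1,[11681],[]),
(1,[11689,3413],[]),
(1,[155,11690],[]),
(1,[11687],[]),
(1,[11695,3282],[]),
(1,[11231,11696],[]),
(1,[11693],[]),
(1,[11701,3411],[]),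
(1,[1015,11702],[]),
(1,[11698],[]),
(1,[11707,11231],[]),
(1,[11705],[]),
(1,[11711,3409],[]),
(1,[3381,11712],[]),
(1,[11715],[]),
(1,[11717,3407],[]),
(1,[11474,11718],[]),
(1,[11721],[]),
(1,[11723,3405],[]),
(1,[1417,11724],[]),
(1,[11727],[]),
(1,[11729,3403],[]),
(1,[3071,11730],[]),
(1,[11733],[]),
(1,[11735,3401],[]),
(1,[3073,11736],[]),
(1,[11739],[]),
(1,[11741,3399],[]),
(1,[3075,11742],[]),
(1,[11745],[]),
(1,[11747,3397],[]),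
(1,[3077,11748],[]),
(1,[11751],[]),
(1,[11753,11605],[]),
(1,[11753,3568],[]),
(7,[223,9401,3095,3093,3091,3089,9435,9432,413,3746,8868,8764,4220],[224,226,228,230,232,10871,10875,4589,11361,11056,11058]),
(1,[11759],[]),
(1,[11761,11059],[]),
(1,[11761,11060],[]),
(1,[4220,11764],[]),
(1,[11767],[]),
(1,[11769,11062],[]),
(1,[8764,11770],[]),
(1,[11773],[]),
(1,[11775,11064],[]),
(1,[8868,11776],[]),
(1,[11779],[]),
(1,[11781,11066],[]),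
(1,[3746,11782],[]),
(1,[11785],[]),
(1,[11787,11068],[]),
(1,[413,11788],[]),
(1,[11791],[]),
(1,[11793,11070],[]),
(1,[415,11794],[]),
(1,[11797],[]),
(1,[11799,11072],[]),
(1,[9297,11800],[]),
(1,[11803],[]),
(1,[11805,11074],[]),
(1,[9225,11806],[]),
(1,[11809],[]),
(1,[11811,11076],[]),
(1,[8839,11812],[]),
(1,[11815],[]),
(1,[11817,11078],[]),
(1,[3574,11818],[]),
(1,[11821],[]),
(1,[11823,11080],[]),
(1,[3572,11824],[]),
(1,[11827],[]),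
(1,[11829,11082],[]),
(1,[8869,11830],[]),
(1,[11833],[]),
(1,[11835,11084],[]),
(1,[3969,11836],[]),
(1,[11839],[]),
(1,[11841,11086],[]),
(7,[227,8852,9949,1002,11277,11287,3651,11471,1038,1017,11426,9031,231,9629,547,10858],[228,230,9030,11427,3380,11475,10948,3490]),
(1,[11844],[]),
(1,[11847,10859],[]),
(1,[3493,11848],[]),
(1,[11847,3676],[]),
(1,[11850],[]),
(1,[11855,3493],[]),
(1,[11855,3494],[]),
(1,[547,11858],[]),
(1,[11861],[]),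
(1,[11863,3496],[]),
(1,[11659,11864],[]),
(1,[11863,3749],[]),
(1,[10029,11868],[]),
(1,[11867],[]),
(1,[11873,3751],[]),
(1,[11873,3498],[]),
(1,[11649,11876],[]),
(1,[11871],[]),
(1,[11881,3631],[]),
(1,[11881,3632],[]),
(1,[11878],[]),
(1,[11887,11121],[]),
(1,[3501,11888],[]),
(1,[11887,11051],[]),
(1,[11887,4586],[]),
(1,[11887,11649],[]),
(1,[11891],[]),
(1,[11899,11057],[]),
(1,[3503,11900],[]),
(1,[11899,11763],[]),
(1,[11903],[]),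
(1,[11907,11360],[]),
(1,[3505,11908],[]),
(1,[11907,11055],[]),
(1,[11911],[]),
(1,[11915,4588],[]),
(1,[3507,11916],[]),
(1,[11915,11895],[]),
(1,[11919],[]),
(1,[11923,10874],[]),
(1,[11923,10783],[]),
(1,[11923,10876],[]),
(1,[3509,11928],[]),
(1,[11931],[]),
(1,[11933,10427],[]),
(10,[234,11608],[11709]),
(5,[236,9351,389,9483,51,8300,11482,11491,8064,3651,8218,11122,3681,3679,11853,3491],[235,10871,544,11856,11852]),
(1,[11939],[]),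
(1,[11941,3678],[]),
(1,[10948,11942],[]),
(1,[11941,11853],[]),
(1,[11945],[]),
(1,[11949,3680],[]),
(1,[1417,11950],[]),
(1,[11953],[]),
(1,[11955,3682],[]),
(1,[3071,11956],[]),
(1,[11955,11123],[]),
(1,[1419,11960],[]),
(1,[11959],[]),
(1,[11965,3684],[]),
(1,[11963],[]),
(1,[11969,8219],[]),
(1,[11969,11053],[]),
(1,[11969,8895],[]),
(1,[1421,11974],[]),
(1,[11977],[]),
(1,[11979,9031],[]),
(1,[1423,11980],[]),
(1,[11979,3481],[]),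
(1,[11979,11427],[]),
(1,[11982],[]),
(1,[11989,1423],[]),
(1,[11989,1424],[]),
(1,[233,11992],[]),
(1,[11995],[]),
(1,[11997,1426],[])]
theorem ok23 : data.stepsOK st23 5750 = true := by decide +kernel

end

end Step
end A2
end H77
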