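import Mathlib
import Cfsg.Agent.H77.A2.Step.Data

/-!
A derivation that closes 352 cosets of the subgroup on x and y (generated data).
-/

set_option autoImplicit false
set_option maxRecDepth 100000
set_option linter.all false
set_option Elab.async false

namespace H77
namespace A2
namespace Step

open H93.CosetI

noncomputable section

def st36 : List Step := [
(1,[17995,14266],[]),
(1,[11885,18000],[]),
(1,[17955],[]),
(1,[18005,14286],[]),
(1,[18005,14285],[]),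
(1,[3029,18008],[]),
(1,[17961],[]),
(1,[18013,16983],[]),
(1,[17967],[]),
(1,[18017,13237],[]),
(1,[18017,13798],[]),
(1,[4743,18020],[]),
(1,[18017,13238],[]),
(1,[17259,18024],[]),
(1,[17973],[]),
(1,[18029,13728],[]),
(1,[13196,18030],[]),
(1,[18029,17284],[]),
(1,[17280,18034],[]),
(1,[17983],[]),
(1,[18039,13732],[]),
(1,[12757,18040],[]),
(1,[17991],[]),
(1,[18045,15706],[]),
(1,[18045,16654],[]),
(1,[17999],[]),
(1,[18051,17814],[]),
(1,[3628,18052],[]),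
(1,[18051,14263],[]),
(1,[13674,18056],[]),
(1,[18003],[]),
(1,[18061,14276],[]),
(1,[3635,18062],[]),
(1,[18061,14268],[]),
(1,[18011],[]),
(1,[18069,14156],[]),
(1,[3031,18070],[]),
(1,[18069,14155],[]),
(1,[18023],[]),
(1,[18077,13721],[]),
(1,[14145,18078],[]),
(1,[18027],[]),
(1,[18083,13318],[]),
(1,[18083,13240],[]),
(1,[13205,18086],[]),
(1,[18033],[]),
(1,[18091,17280],[]),
(1,[12811,18092],[]),
(1,[18037,18090],[]),
(1,[18097,14504],[]),
(1,[13197,18098],[]),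
(1,[18097,17290],[]),
(1,[12808,18102],[]),
(1,[18043],[]),
(1,[18107,13734],[]),
(1,[18107,16430],[]),
(1,[12759,18110],[]),
(1,[18055],[]),
(1,[18115,16721],[]),
(1,[3626,18116],[]),
(1,[18115,15998],[]),
(1,[18059],[]),
(1,[18123,17876],[]),
(1,[13672,18124],[]),
(1,[18065],[]),
(1,[18129,12836],[]),
(1,[3637,18130],[]),
(1,[18129,12835],[]),
(1,[18073],[]),
(1,[18137,14158],[]),
(1,[18137,14211],[]),
(1,[3033,18140],[]),
(1,[18080],[]),
(1,[18145,14145],[]),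
(1,[18145,14146],[]),
(1,[13718,18148],[]),
(1,[18089],[]),
(1,[18153,13242],[]),
(1,[17069,18154],[]),
(1,[18095],[]),
(1,[18159,13197],[]),
(1,[18159,17270],[]),
(1,[12813,18162],[]),
(1,[18101,18158],[]),
(1,[18167,14506],[]),
(1,[12810,18168],[]),
(1,[18104],[]),
(1,[18173,13190],[]),
(1,[12757,18174],[]),
(1,[18173,12919],[]),
(1,[18173,13192],[]),
(1,[12754,18180],[]),
(1,[18173,12808],[]),
(1,[18113],[]),
(1,[18187,16402],[]),
(1,[12761,18188],[]),
(1,[18187,17917],[]),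
(1,[18119],[]),
(1,[18195,12594],[]),
(1,[3624,18196],[]),
(1,[18195,12593],[]),
(1,[18127],[]),
(1,[18203,16723],[]),
(1,[13670,18204],[]),
(1,[18133],[]),
(1,[18209,13029],[]),
(1,[3639,18210],[]),
(1,[18209,12838],[]),
(1,[18143],[]),
(1,[18217,14209],[]),
(1,[3035,18218],[]),
(1,[18217,17570],[]),
(1,[18151],[]),
(1,[18225,14148],[]),
(1,[13716,18226],[]),
(1,[18157],[]),
(1,[18231,13244],[]),
(1,[12144,18232],[]),
(1,[18164],[]),
(1,[18237,12814],[]),
(1,[4741,18238],[]),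
(1,[18237,12813],[]),
(1,[18171],[]),
(1,[18245,14508],[]),
(1,[18184,18246],[]),
(1,[18177],[]),
(1,[18251,13194],[]),
(1,[18251,13092],[]),
(1,[18109,18254],[]),
(1,[18183],[]),
(1,[18259,13087],[]),
(1,[17977,18260],[]),
(1,[18191],[]),
(1,[18265,15496],[]),
(1,[18199],[]),
(1,[18269,16712],[]),
(1,[3622,18270],[]),
(1,[18269,12596],[]),
(1,[18207],[]),
(1,[18277,16002],[]),
(1,[18277,16001],[]),
(1,[18212],[]),
(1,[18283,3639],[]),
(1,[18283,3640],[]),
(1,[18221],[]),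
(1,[18289,14207],[]),
(1,[18289,14239],[]),
(1,[3037,18292],[]),
(1,[18229],[]),
(1,[18297,14150],[]),
(1,[13714,18298],[]),
(1,[18235],[]),
(1,[18303,13246],[]),
(1,[540,18304],[]),
(1,[18241],[]),
(1,[18309,12816],[]),
(1,[17259,18310],[]),
(1,[18249],[]),
(1,[18315,14510],[]),
(1,[12754,18316],[]),
(1,[18256],[]),
(1,[18321,17183],[]),
(1,[13095,18322],[]),
(1,[18321,13736],[]),
(1,[18321,18109],[]),
(1,[18262],[]),
(1,[18331,17977],[]),
(1,[18331,14027],[]),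
(1,[13084,18334],[]),
(1,[18273],[]),
(1,[18339,16825],[]),
(1,[18339,15756],[]),
(1,[3620,18342],[]),
(1,[18295],[]),
(1,[18347,14237],[]),
(1,[13077,18348],[]),
(1,[18301],[]),
(1,[18353,14152],[]),
(1,[18353,17688],[]),
(1,[13712,18356],[]),
(1,[18307],[]),
(1,[18361,13248],[]),
(1,[18312],[]),
(1,[18365,18084],[]),
(1,[12819,18366],[]),
(1,[18365,17259],[]),
(1,[18365,13204],[]),
(1,[18319],[]),
(1,[18375,14512],[]),
(1,[18332,18376],[]),
(1,[18324],[]),
(1,[18381,13096],[]),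
(1,[4334,18382],[]),
(1,[18337],[]),
(1,[18387,14025],[]),
(1,[13082,18388],[]),
(1,[18345],[]),
(1,[18393,15758],[]),
(1,[18351],[]),
(1,[18397,14235],[]),
(1,[13079,18398],[]),
(1,[18359],[]),
(1,[18403,15518],[]),
(1,[18369],[]),
(1,[18407,13320],[]),
(1,[12821,18408],[]),
(1,[18379],[]),
(1,[18413,14514],[]),
(1,[13084,18414],[]),
(1,[18413,15115],[]),
(1,[18385],[]),
(1,[18421,13098],[]),
(1,[17174,18422],[]),
(1,[18391],[]),
(1,[18427,14023],[]),
(1,[18401],[]),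
(1,[18431,14233],[]),
(1,[18411],[]),
(1,[18435,13322],[]),
(1,[13042,18436],[]),
(1,[18435,16108],[]),
(1,[16827,18440],[]),
(1,[18417],[]),
(1,[18445,14516],[]),
(1,[13082,18446],[]),
(1,[18445,14960],[]),
(1,[18424],[]),
(1,[18453,17174],[]),
(1,[18453,17176],[]),
(1,[18453,15949],[]),
(1,[13101,18458],[]),
(1,[18439],[]),
(1,[18463,16104],[]),
(1,[13045,18464],[]),
(1,[18463,13324],[]),
(1,[3515,18468],[]),
(1,[18442],[]),
(1,[18473,16827],[]),
(1,[18473,16828],[]),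
(1,[18448],[]),
(1,[18479,13082],[]),
(1,[18479,13081],[]),
(1,[3816,18482],[]),
(1,[18479,18428],[]),
(1,[3819,18486],[]),
(1,[18461],[]),
(1,[18491,16079],[]),
(1,[18467],[]),
(1,[18495,15830],[]),
(1,[18471],[])]
theorem ok36 : data.stepsOK st36 9000 = true := by decide +kernel
def st37 : List Step := [
(1,[18499,18493],[]),
(1,[18499,13326],[]),
(1,[3517,18502],[]),
(1,[18485],[]),
(1,[18507,18432],[]),
(1,[12265,18508],[]),
(1,[18507,13079],[]),
(1,[12267,18512],[]),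
(1,[18489],[]),
(1,[18517,14021],[]),
(1,[3821,18518],[]),
(1,[18505],[]),
(1,[18523,16090],[]),
(1,[3519,18524],[]),
(1,[18511],[]),
(1,[18529,14231],[]),
(1,[4027,18530],[]),
(1,[18515],[]),
(1,[18535,13077],[]),
(1,[360,18536],[]),
(1,[18521],[]),
(1,[18541,14019],[]),
(1,[14811,18542],[]),
(1,[18541,17529],[]),
(1,[3823,18546],[]),
(1,[18527],[]),
(1,[18551,15625],[]),
(1,[3521,18552],[]),
(1,[18551,15761],[]),
(1,[18533],[]),
(1,[18559,14229],[]),
(1,[16260,18560],[]),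
(1,[18539],[]),
(1,[18565,9539,18564],[]),
(1,[358,18566],[]),
(1,[18565,9540],[]),
(1,[14825,18570],[]),
(1,[18565,3037],[]),
(1,[14629,18574],[]),
(1,[18544],[]),
(1,[18579,14636],[]),
(1,[4729,18580],[]),
(1,[18579,15030],[]),
(1,[4726,18584],[]),
(1,[18579,14811],[]),
(1,[18549],[]),
(1,[18591,14455],[]),
(1,[3825,18592],[]),
(1,[18591,17530],[]),
(1,[16311,18596],[]),
(1,[18555],[]),
(1,[18601,15623],[]),
(1,[18601,15733],[]),
(1,[3523,18604],[]),
(1,[18562],[]),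
(1,[18609,16260],[]),
(1,[18609,14880],[]),
(1,[18569],[]),
(1,[18615,359],[]),
(1,[18615,14824],[]),
(1,[14823,18618],[]),
(1,[18615,14628],[]),
(1,[356,18622],[]),
(1,[18615,360],[]),
(1,[17459,18626],[]),
(1,[18572],[]),
(1,[18576],[]),
(1,[18633,14833],[]),
(1,[3034,18634],[]),
(1,[18633,14807],[]),
(1,[18291,18638],[]),
(1,[18583],[]),
(1,[18643,14638],[]),
(1,[14015,18644],[]),
(1,[18587],[]),
(1,[18649,15032],[]),
(1,[4724,18650],[]),
(1,[18649,16366],[]),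
(1,[14357,18654],[]),
(1,[18595],[]),
(1,[18659,14453],[]),
(1,[18598],[]),
(1,[18663,16311],[]),
(1,[18607],[]),
(1,[18667,15805],[]),
(1,[3525,18668],[]),
(1,[18667,15728],[]),
(1,[18667,16229],[]),
(1,[18620,18630],[]),
(1,[18677,14823],[]),
(1,[18677,14861],[]),
(1,[9401,18680],[]),
(1,[18633,18625],[]),
(1,[18685,3035],[]),
(1,[354,18686],[]),
(1,[18685,18290],[]),
(1,[14075,18690],[]),
(1,[18628],[]),
(1,[18695,5176],[]),
(1,[363,18696],[]),
(1,[18695,17459],[]),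
(1,[18695,13892],[]),
(1,[12266,18702],[]),
(1,[18637],[]),
(1,[18707,14928],[]),
(1,[3032,18708],[]),
(1,[18707,14831],[]),
(1,[18223,18712],[]),
(1,[18640],[]),
(1,[18717,14205],[]),
(1,[3821,18718],[]),
(1,[18717,17702],[]),
(1,[3818,18722],[]),
(1,[18647],[]),
(1,[18727,14640],[]),
(1,[18727,15054],[]),
(1,[14017,18730],[]),
(1,[18653],[]),
(1,[18735,15034],[]),
(1,[4722,18736],[]),
(1,[18657],[]),
(1,[18741,14883],[]),
(1,[14359,18742],[]),
(1,[18671],[]),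
(1,[18747,15803],[]),
(1,[18683],[]),
(1,[18751,14859],[]),
(1,[12427,18752],[]),
(1,[18689],[]),
(1,[18757,3033],[]),
(1,[352,18758],[]),
(1,[18757,18222],[]),
(1,[14016,18762],[]),
(1,[18692,18716],[]),
(1,[18767,14100],[]),
(1,[3821,18768],[]),
(1,[18767,14076],[]),
(1,[3818,18772],[]),
(1,[18767,14075],[]),
(1,[18699],[]),
(1,[18779,10833],[]),
(1,[365,18780],[]),
(1,[18779,14073],[]),
(1,[14426,18784],[]),
(1,[18705],[]),
(1,[18789,13894],[]),
(1,[12265,18790],[]),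
(1,[18711],[]),
(1,[18795,14930],[]),
(1,[3030,18796],[]),
(1,[18714],[]),
(1,[18801,16757],[]),
(1,[14828,18802],[]),
(1,[18801,15263],[]),
(1,[18721],[]),
(1,[18809,14203],[]),
(1,[18588,18810],[]),
(1,[18725],[]),
(1,[18815,15274],[]),
(1,[18481,18816],[]),
(1,[18815,15956],[]),
(1,[3816,18820],[]),
(1,[18733],[]),
(1,[18825,15056],[]),
(1,[352,18826],[]),
(1,[18739],[]),
(1,[18831,15036],[]),
(1,[4720,18832],[]),
(1,[18744],[]),
(1,[18837,14359],[]),
(1,[18837,14360],[]),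
(1,[14085,18840],[]),
(1,[18755],[]),
(1,[18845,14857],[]),
(1,[1266,18846],[]),
(1,[18761],[]),
(1,[18851,3031],[]),
(1,[17706,18852],[]),
(1,[18851,18138],[]),
(1,[350,18856],[]),
(1,[18801,18765],[]),
(1,[18861,14829],[]),
(1,[14213,18862],[]),
(1,[18861,18806],[]),
(1,[14014,18866],[]),
(1,[18771],[]),
(1,[18871,14102],[]),
(1,[18588,18872],[]),
(1,[18871,17729],[]),
(1,[3823,18876],[]),
(1,[18775],[]),
(1,[18881,14078],[]),
(1,[18481,18882],[]),
(1,[18783],[]),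
(1,[18887,10837],[]),
(1,[367,18888],[]),
(1,[18887,10830],[]),
(1,[15143,18892],[]),
(1,[18887,4734],[]),
(1,[17608,18896],[]),
(1,[18786],[]),
(1,[18901,14425],[]),
(1,[14070,18902],[]),
(1,[18901,14426],[]),
(1,[18901,14927],[]),
(1,[17429,18908],[]),
(1,[18793],[]),
(1,[18913,17516],[]),
(1,[18612,18914],[]),
(1,[18913,13896],[]),
(1,[4027,18918],[]),
(1,[18799],[]),
(1,[18923,14932],[]),
(1,[3028,18924],[]),
(1,[18804],[]),
(1,[18929,14827],[]),
(1,[13646,18930],[]),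
(1,[18813],[]),
(1,[18935,14201],[]),
(1,[4729,18936],[]),
(1,[18935,17822],[]),
(1,[4726,18940],[]),
(1,[18819],[]),
(1,[18945,15276],[]),
(1,[18451,18946],[]),
(1,[18823],[]),
(1,[18951,15958],[]),
(1,[12265,18952],[]),
(1,[18829],[]),
(1,[18957,15058],[]),
(1,[17706,18958],[]),
(1,[18835],[]),
(1,[18963,15038],[]),
(1,[4718,18964],[]),
(1,[18843],[]),
(1,[18969,14362],[]),
(1,[18849],[]),
(1,[18973,14855],[]),
(1,[12405,18974],[]),
(1,[18854],[]),
(1,[18979,17706],[]),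
(1,[18979,17708],[]),
(1,[18979,5165],[]),
(1,[3028,18984],[]),
(1,[18979,17714],[]),
(1,[18075,18988],[]),
(1,[18859],[]),
(1,[18993,10513],[]),
(1,[18864,18928],[]),
(1,[18997,14213],[])]
theorem ok37 : data.stepsOK st37 9250 = true := by decide +kernel
def st38 : List Step := [
(1,[18997,14214],[]),
(1,[13646,19000],[]),
(1,[18997,14627],[]),
(1,[13649,19004],[]),
(1,[18868],[]),
(1,[19009,4729],[]),
(1,[371,19010],[]),
(1,[19009,14014],[]),
(1,[18875],[]),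
(1,[19017,14188],[]),
(1,[19017,14104],[]),
(1,[4726,19020],[]),
(1,[18879],[]),
(1,[19025,14121],[]),
(1,[3825,19026],[]),
(1,[18885],[]),
(1,[19031,14080],[]),
(1,[18451,19032],[]),
(1,[18890],[]),
(1,[19037,367],[]),
(1,[19037,368],[]),
(1,[18894],[]),
(1,[19043,15143],[]),
(1,[18898],[]),
(1,[19047,14272],[]),
(1,[4737,19048],[]),
(1,[19047,17606],[]),
(1,[14473,19052],[]),
(1,[19047,17608],[]),
(1,[18905],[]),
(1,[19059,14423],[]),
(1,[14098,19060],[]),
(1,[18911],[]),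
(1,[19065,15029],[]),
(1,[18917],[]),
(1,[19069,14662],[]),
(1,[18611,19070],[]),
(1,[18921],[]),
(1,[19075,14041],[]),
(1,[4029,19076],[]),
(1,[19075,13898],[]),
(1,[18610,19080],[]),
(1,[18927],[]),
(1,[19085,14936],[]),
(1,[18007,19086],[]),
(1,[19085,15174],[]),
(1,[18933],[]),
(1,[19093,14242],[]),
(1,[13072,19094],[]),
(1,[18939,19008],[]),
(1,[19099,14199],[]),
(1,[19040,19100],[]),
(1,[18943],[]),
(1,[19105,15292],[]),
(1,[14357,19106],[]),
(1,[18949],[]),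
(1,[19111,15278],[]),
(1,[14963,19112],[]),
(1,[18955],[]),
(1,[19117,15960],[]),
(1,[18612,19118],[]),
(1,[18961,18978],[]),
(1,[19123,15060],[]),
(1,[3028,19124],[]),
(1,[18967],[]),
(1,[19129,15040],[]),
(1,[12669,19130],[]),
(1,[18977],[]),
(1,[19135,14853],[]),
(1,[3271,19136],[]),
(1,[18987],[]),
(1,[19141,17827],[]),
(1,[18007,19142],[]),
(1,[19141,10291],[]),
(1,[19091,19146],[]),
(1,[19141,17837],[]),
(1,[3026,19150],[]),
(1,[18991],[]),
(1,[19155,14307],[]),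
(1,[18354,19156],[]),
(1,[19155,14355],[]),
(1,[18066,19160],[]),
(1,[19003],[]),
(1,[19165,14216],[]),
(1,[13072,19166],[]),
(1,[19007],[]),
(1,[19171,14625],[]),
(1,[16781,19172],[]),
(1,[19171,14713],[]),
(1,[13651,19176],[]),
(1,[19013],[]),
(1,[19181,19018],[]),
(1,[370,19182],[]),
(1,[19181,4727],[]),
(1,[373,19186],[]),
(1,[19181,18588],[]),
(1,[15156,19190],[]),
(1,[19023],[]),
(1,[19195,14106],[]),
(1,[14357,19196],[]),
(1,[19029],[]),
(1,[19201,17786],[]),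
(1,[18661,19202],[]),
(1,[19034],[]),
(1,[19207,14962],[]),
(1,[14083,19208],[]),
(1,[19207,18451],[]),
(1,[19051],[]),
(1,[19215,17666],[]),
(1,[17978,19216],[]),
(1,[19055],[]),
(1,[19221,14923],[]),
(1,[14475,19222],[]),
(1,[19063],[]),
(1,[19227,14421],[]),
(1,[17525,19228],[]),
(1,[19073],[]),
(1,[19233,14664],[]),
(1,[4029,19234],[]),
(1,[19233,14992],[]),
(1,[4026,19238],[]),
(1,[19079],[]),
(1,[19243,14039],[]),
(1,[4031,19244],[]),
(1,[19082],[]),
(1,[19249,14227],[]),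
(1,[13901,19250],[]),
(1,[19249,18610],[]),
(1,[19089],[]),
(1,[19257,14938],[]),
(1,[17681,19258],[]),
(1,[19097],[]),
(1,[19263,14332],[]),
(1,[13070,19264],[]),
(1,[19263,14244],[]),
(1,[16792,19268],[]),
(1,[19103],[]),
(1,[19273,14197],[]),
(1,[349,19274],[]),
(1,[19109],[]),
(1,[19279,15294],[]),
(1,[18838,19280],[]),
(1,[19115],[]),
(1,[19285,15280],[]),
(1,[15141,19286],[]),
(1,[19121,19248],[]),
(1,[19291,15962],[]),
(1,[19255,19292],[]),
(1,[19127],[]),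
(1,[19297,15062],[]),
(1,[18007,19298],[]),
(1,[19133],[]),
(1,[19303,15042],[]),
(1,[12544,19304],[]),
(1,[19139],[]),
(1,[19309,14851],[]),
(1,[3273,19310],[]),
(1,[19144],[]),
(1,[19315,18007],[]),
(1,[19315,17680],[]),
(1,[14049,19318],[]),
(1,[19315,14288],[]),
(1,[14292,19322],[]),
(1,[19148],[]),
(1,[19327,19091],[]),
(1,[19153],[]),
(1,[19331,14162],[]),
(1,[9931,19332],[]),
(1,[19159],[]),
(1,[19337,14410],[]),
(1,[13712,19338],[]),
(1,[19337,14305],[]),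
(1,[13715,19342],[]),
(1,[19163],[]),
(1,[19347,14353],[]),
(1,[3635,19348],[]),
(1,[19169],[]),
(1,[19353,14218],[]),
(1,[13070,19354],[]),
(1,[19353,14814],[]),
(1,[16792,19358],[]),
(1,[19174],[]),
(1,[19363,15312],[]),
(1,[19179],[]),
(1,[19367,17598],[]),
(1,[13653,19368],[]),
(1,[19185],[]),
(1,[19373,14518],[]),
(1,[19015,19374],[]),
(1,[19189],[]),
(1,[19379,4725],[]),
(1,[17732,19380],[]),
(1,[19379,14356],[]),
(1,[375,19384],[]),
(1,[19192],[]),
(1,[19389,15155],[]),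
(1,[3820,19390],[]),
(1,[19389,15156],[]),
(1,[19389,15259],[]),
(1,[3823,19396],[]),
(1,[19198],[]),
(1,[19401,18839],[]),
(1,[14109,19402],[]),
(1,[19401,14812],[]),
(1,[19204],[]),
(1,[19409,14451],[]),
(1,[19409,18661],[]),
(1,[19211],[]),
(1,[19415,15140],[]),
(1,[14085,19416],[]),
(1,[19219],[]),
(1,[19421,15146],[]),
(1,[18332,19422],[]),
(1,[19225],[]),
(1,[19427,15092],[]),
(1,[14477,19428],[]),
(1,[19230],[]),
(1,[19433,17525],[]),
(1,[19433,14943],[]),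
(1,[14394,19436],[]),
(1,[19237],[]),
(1,[19441,14666],[]),
(1,[16241,19442],[]),
(1,[19241],[]),
(1,[19447,17659],[]),
(1,[19247],[]),
(1,[19451,14037],[]),
(1,[15088,19452],[]),
(1,[19253],[]),
(1,[19457,14225],[]),
(1,[19260],[]),
(1,[19461,15193],[]),
(1,[14941,19462],[]),
(1,[19461,16590],[]),
(1,[19461,15398],[]),
(1,[19267],[]),
(1,[19471,14334],[]),
(1,[19270],[]),
(1,[19475,16790],[]),
(1,[19475,16811],[]),
(1,[14247,19478],[]),
(1,[19475,16792],[]),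
(1,[19277],[]),
(1,[19485,14195],[]),
(1,[18994,19486],[]),
(1,[19283],[]),
(1,[19491,15296],[]),
(1,[14085,19492],[]),
(1,[19289],[]),
(1,[19497,15282],[])]
theorem ok38 : data.stepsOK st38 9500 = true := by decide +kernel
def st39 : List Step := [
(1,[15110,19498],[]),
(1,[19295],[]),
(1,[19503,15964],[]),
(1,[4029,19504],[]),
(1,[19301,19314],[]),
(1,[19509,15064],[]),
(1,[14049,19510],[]),
(1,[19307],[]),
(1,[19515,15044],[]),
(1,[19313],[]),
(1,[19519,14849],[]),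
(1,[11658,19520],[]),
(1,[19461,19321],[]),
(1,[19525,19466],[]),
(1,[19525,19468],[]),
(1,[14715,19528],[]),
(1,[19324],[]),
(1,[19533,14291],[]),
(1,[19533,14292],[]),
(1,[19335],[]),
(1,[19539,14164],[]),
(1,[18192,19540],[]),
(1,[19341],[]),
(1,[19545,14412],[]),
(1,[18405,19546],[]),
(1,[19345],[]),
(1,[19551,14393],[]),
(1,[19351],[]),
(1,[19555,14379],[]),
(1,[18135,19556],[]),
(1,[19357],[]),
(1,[19561,14220],[]),
(1,[13068,19562],[]),
(1,[19361,19474],[]),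
(1,[19567,14709],[]),
(1,[19477,19568],[]),
(1,[19371],[]),
(1,[19573,15501],[]),
(1,[13655,19574],[]),
(1,[19377],[]),
(1,[19579,14612],[]),
(1,[18998,19580],[]),
(1,[19383],[]),
(1,[19585,4723],[]),
(1,[4255,19586],[]),
(1,[19401,19387],[]),
(1,[19591,14108],[]),
(1,[9839,19592],[]),
(1,[19591,19406],[]),
(1,[377,19596],[]),
(1,[19393],[]),
(1,[19601,15343],[]),
(1,[18777,19602],[]),
(1,[19399],[]),
(1,[19607,4199],[]),
(1,[3825,19608],[]),
(1,[19404],[]),
(1,[19419],[]),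
(1,[19615,15111],[]),
(1,[14087,19616],[]),
(1,[19615,15112],[]),
(1,[18971,19620],[]),
(1,[19425],[]),
(1,[19625,15148],[]),
(1,[13084,19626],[]),
(1,[19431],[]),
(1,[19631,15116],[]),
(1,[19439],[]),
(1,[19444],[]),
(1,[19637,15006],[]),
(1,[19637,18675],[]),
(1,[14669,19640],[]),
(1,[19637,16241],[]),
(1,[19454],[]),
(1,[19647,15088],[]),
(1,[19647,15404],[]),
(1,[19647,17847],[]),
(1,[14034,19652],[]),
(1,[19465,19634],[]),
(1,[19657,16572],[]),
(1,[19657,15191],[]),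
(1,[14053,19660],[]),
(1,[19480],[]),
(1,[19665,14247],[]),
(1,[19489],[]),
(1,[19669,14607],[]),
(1,[351,19670],[]),
(1,[19495],[]),
(1,[19675,15298],[]),
(1,[14087,19676],[]),
(1,[19501],[]),
(1,[19681,15284],[]),
(1,[19507],[]),
(1,[19685,17197],[]),
(1,[19644,19686],[]),
(1,[19685,16823],[]),
(1,[4031,19690],[]),
(1,[19513],[]),
(1,[19695,15066],[]),
(1,[14715,19696],[]),
(1,[19523],[]),
(1,[19701,14847],[]),
(1,[546,19702],[]),
(1,[19531],[]),
(1,[19707,16901],[]),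
(1,[19707,15400],[]),
(1,[14717,19710],[]),
(1,[19543],[]),
(1,[19715,14166],[]),
(1,[12761,19716],[]),
(1,[19548],[]),
(1,[19721,18405],[]),
(1,[19721,15520],[]),
(1,[19411,19724],[]),
(1,[19559],[]),
(1,[19729,14377],[]),
(1,[12832,19730],[]),
(1,[19565],[]),
(1,[19735,14428],[]),
(1,[13066,19736],[]),
(1,[19735,14222],[]),
(1,[19570],[]),
(1,[19743,19477],[]),
(1,[19743,15978],[]),
(1,[19577],[]),
(1,[19749,15499],[]),
(1,[19583],[]),
(1,[19753,14614],[]),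
(1,[13646,19754],[]),
(1,[19589],[]),
(1,[19759,4721],[]),
(1,[4410,19760],[]),
(1,[19613,19595],[]),
(1,[19765,14084],[]),
(1,[4032,19766],[]),
(1,[19765,14083],[]),
(1,[18602,19770],[]),
(1,[19599],[]),
(1,[19775,14679],[]),
(1,[9773,19776],[]),
(1,[19775,18664],[]),
(1,[19605],[]),
(1,[19783,15341],[]),
(1,[354,19784],[]),
(1,[19611],[]),
(1,[19789,4197],[]),
(1,[19412,19790],[]),
(1,[19789,17111],[]),
(1,[3827,19794],[]),
(1,[19619],[]),
(1,[19799,19682],[]),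
(1,[14089,19800],[]),
(1,[19799,15109],[]),
(1,[19623],[]),
(1,[19807,18419],[]),
(1,[14365,19808],[]),
(1,[19629],[]),
(1,[19813,15652],[]),
(1,[19212,19814],[]),
(1,[19642],[]),
(1,[19819,14670],[]),
(1,[3522,19820],[]),
(1,[19819,14669],[]),
(1,[19654],[]),
(1,[19827,14034],[]),
(1,[19827,19411],[]),
(1,[13565,19830],[]),
(1,[19663],[]),
(1,[19835,17109],[]),
(1,[14605,19836],[]),
(1,[19673],[]),
(1,[19841,14524],[]),
(1,[14279,19842],[]),
(1,[19678],[]),
(1,[19847,14087],[]),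
(1,[19847,14088],[]),
(1,[12657,19850],[]),
(1,[19847,19804],[]),
(1,[12654,19854],[]),
(1,[19688],[]),
(1,[19859,19638],[]),
(1,[4341,19860],[]),
(1,[19859,19825],[]),
(1,[4338,19864],[]),
(1,[19859,19644],[]),
(1,[19693],[]),
(1,[19871,16499],[]),
(1,[19648,19872],[]),
(1,[19871,17167],[]),
(1,[4033,19876],[]),
(1,[19699],[]),
(1,[19881,15068],[]),
(1,[14717,19882],[]),
(1,[19705],[]),
(1,[19887,17339],[]),
(1,[19713],[]),
(1,[19891,15402],[]),
(1,[19891,16706],[]),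
(1,[19719],[]),
(1,[19897,14168],[]),
(1,[18267,19898],[]),
(1,[19727,19826],[]),
(1,[19903,15522],[]),
(1,[19829,19904],[]),
(1,[19733],[]),
(1,[19909,14375],[]),
(1,[19739],[]),
(1,[19913,14430],[]),
(1,[13064,19914],[]),
(1,[19757],[]),
(1,[19919,14616],[]),
(1,[13074,19920],[]),
(1,[19763],[]),
(1,[19925,17249],[]),
(1,[17896,19926],[]),
(1,[19925,4719],[]),
(1,[17859,19930],[]),
(1,[19769],[]),
(1,[19935,19849],[]),
(1,[19648,19936],[]),
(1,[19935,18970],[]),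
(1,[4030,19940],[]),
(1,[19773],[]),
(1,[19945,14310],[]),
(1,[3520,19946],[]),
(1,[19945,19212],[]),
(1,[3523,19950],[]),
(1,[19779],[]),
(1,[19955,14677],[]),
(1,[13738,19956],[]),
(1,[19787],[]),
(1,[19961,15339],[]),
(1,[14016,19962],[]),
(1,[19792],[]),
(1,[19967,19722],[]),
(1,[4194,19968],[]),
(1,[19967,19412],[]),
(1,[19797],[]),
(1,[19975,13108],[]),
(1,[12658,19976],[]),
(1,[19803],[]),
(1,[19981,15071],[]),
(1,[19810],[]),
(1,[19985,14366],[]),
(1,[18333,19986],[]),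
(1,[19985,14365],[]),
(1,[19817,19944],[]),
(1,[19993,15654],[]),
(1,[3520,19994],[]),
(1,[19823],[])]
theorem ok39 : data.stepsOK st39 9750 = true := by decide +kernel
def st40 : List Step := [
(1,[19999,14672],[]),
(1,[3520,20000],[]),
(1,[19832,19966],[]),
(1,[20005,17892],[]),
(1,[4194,20006],[]),
(1,[20005,13565],[]),
(1,[16545,20010],[]),
(1,[20005,13566],[]),
(1,[19973,20014],[]),
(1,[19838,19974],[]),
(1,[20019,14605],[]),
(1,[3829,20020],[]),
(1,[20019,13907],[]),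
(1,[3826,20024],[]),
(1,[20019,13908],[]),
(1,[12658,20028],[]),
(1,[19845],[]),
(1,[20033,14526],[]),
(1,[14330,20034],[]),
(1,[19853],[]),
(1,[20039,19982],[]),
(1,[20039,14090],[]),
(1,[12659,20042],[]),
(1,[19857],[]),
(1,[20047,16326],[]),
(1,[12652,20048],[]),
(1,[19862],[]),
(1,[20053,4341],[]),
(1,[20053,4342],[]),
(1,[3619,20056],[]),
(1,[19866],[]),
(1,[20061,4338],[]),
(1,[19874],[]),
(1,[20065,19648],[]),
(1,[20065,19650],[]),
(1,[17130,20068],[]),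
(1,[19879],[]),
(1,[20073,18455],[]),
(1,[9838,20074],[]),
(1,[20073,11273],[]),
(1,[15739,20078],[]),
(1,[19885],[]),
(1,[20083,20041],[]),
(1,[19893,20084],[]),
(1,[19900],[]),
(1,[20089,19751],[]),
(1,[18015,20090],[]),
(1,[20089,18267],[]),
(1,[19907,20064],[]),
(1,[20097,15524],[]),
(1,[17130,20098],[]),
(1,[19917],[]),
(1,[20103,14432],[]),
(1,[19923],[]),
(1,[20107,14618],[]),
(1,[13072,20108],[]),
(1,[19929],[]),
(1,[20113,11091],[]),
(1,[4188,20114],[]),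
(1,[20113,11092],[]),
(1,[4191,20118],[]),
(1,[19932],[]),
(1,[20123,17867],[]),
(1,[12671,20124],[]),
(1,[20123,17859],[]),
(1,[20065,19938],[]),
(1,[20131,20066],[]),
(1,[20131,13232],[]),
(1,[12654,20134],[]),
(1,[19943],[]),
(1,[20139,19991],[]),
(1,[19868,20140],[]),
(1,[19949],[]),
(1,[20145,14312],[]),
(1,[3518,20146],[]),
(1,[19953],[]),
(1,[20151,18481],[]),
(1,[3525,20152],[]),
(1,[19959],[]),
(1,[20157,14675],[]),
(1,[18326,20158],[]),
(1,[19965],[]),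
(1,[20163,16821],[]),
(1,[18998,20164],[]),
(1,[19971],[]),
(1,[20169,13711],[]),
(1,[4192,20170],[]),
(1,[20169,13712],[]),
(1,[17100,20174],[]),
(1,[19979],[]),
(1,[20179,13110],[]),
(1,[19989],[]),
(1,[20183,14368],[]),
(1,[17979,20184],[]),
(1,[19997],[]),
(1,[20189,15656],[]),
(1,[18557,20190],[]),
(1,[20003],[]),
(1,[20009],[]),
(1,[20197,16095],[]),
(1,[4192,20198],[]),
(1,[20197,16147],[]),
(1,[17100,20202],[]),
(1,[20012],[]),
(1,[20207,13234],[]),
(1,[4207,20208],[]),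
(1,[20207,16545],[]),
(1,[20017],[]),
(1,[20215,13568],[]),
(1,[3827,20216],[]),
(1,[20023],[]),
(1,[20221,14053],[]),
(1,[3831,20222],[]),
(1,[20221,14054],[]),
(1,[12626,20226],[]),
(1,[20027],[]),
(1,[20231,16491],[]),
(1,[3824,20232],[]),
(1,[20231,13905],[]),
(1,[20031],[]),
(1,[20239,13910],[]),
(1,[12656,20240],[]),
(1,[20037],[]),
(1,[20245,14528],[]),
(1,[20045],[]),
(1,[20249,14092],[]),
(1,[3829,20250],[]),
(1,[20051],[]),
(1,[20255,15123],[]),
(1,[12650,20256],[]),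
(1,[20059],[]),
(1,[20261,4344],[]),
(1,[18395,20262],[]),
(1,[20071,20178],[]),
(1,[20267,15636],[]),
(1,[20181,20268],[]),
(1,[20077],[]),
(1,[20273,18456],[]),
(1,[15737,20274],[]),
(1,[20273,13100],[]),
(1,[377,20278],[]),
(1,[20080],[]),
(1,[20283,15739],[]),
(1,[20086],[]),
(1,[20287,19893],[]),
(1,[20181,20288],[]),
(1,[20092],[]),
(1,[20293,18015],[]),
(1,[20101,20178],[]),
(1,[20297,15526],[]),
(1,[20181,20298],[]),
(1,[20111],[]),
(1,[20303,14620],[]),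
(1,[13070,20304],[]),
(1,[20117],[]),
(1,[20309,13744],[]),
(1,[17986,20310],[]),
(1,[20309,11089],[]),
(1,[17139,20314],[]),
(1,[20121],[]),
(1,[20319,11094],[]),
(1,[16598,20320],[]),
(1,[20127],[]),
(1,[20325,13437],[]),
(1,[12551,20326],[]),
(1,[20136,20206],[]),
(1,[20331,12653],[]),
(1,[4207,20332],[]),
(1,[20143],[]),
(1,[20337,18332],[]),
(1,[20054,20338],[]),
(1,[20149],[]),
(1,[20343,14314],[]),
(1,[20155],[]),
(1,[20347,3817],[]),
(1,[18749,20348],[]),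
(1,[20347,3818],[]),
(1,[3527,20352],[]),
(1,[20160,20194],[]),
(1,[20357,18326],[]),
(1,[3518,20358],[]),
(1,[20357,18328],[]),
(1,[18557,20362],[]),
(1,[20166],[]),
(1,[20367,18998],[]),
(1,[20367,13647],[]),
(1,[13062,20370],[]),
(1,[20367,13648],[]),
(1,[13065,20374],[]),
(1,[20173],[]),
(1,[20379,10954],[]),
(1,[16598,20380],[]),
(1,[20379,10953],[]),
(1,[20177],[]),
(1,[20387,18354],[]),
(1,[20387,13714],[]),
(1,[12558,20390],[]),
(1,[20187],[]),
(1,[20395,14370],[]),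
(1,[4739,20396],[]),
(1,[20192],[]),
(1,[20401,18395],[]),
(1,[20401,18557],[]),
(1,[20401,18497],[]),
(1,[15659,20406],[]),
(1,[20201],[]),
(1,[20411,13330],[]),
(1,[4190,20412],[]),
(1,[20205],[]),
(1,[20417,16145],[]),
(1,[20389,20418],[]),
(1,[20210],[]),
(1,[20423,4207],[]),
(1,[20423,4203],[]),
(1,[20423,4411],[]),
(1,[993,20428],[]),
(1,[20423,4255],[]),
(1,[990,20432],[]),
(1,[20219],[]),
(1,[20437,13570],[]),
(1,[3829,20438],[]),
(1,[20225],[]),
(1,[20443,14051],[]),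
(1,[3833,20444],[]),
(1,[20443,19658],[]),
(1,[20443,14394],[]),
(1,[20229],[]),
(1,[20453,14056],[]),
(1,[20453,14403],[]),
(1,[12624,20456],[]),
(1,[20235],[]),
(1,[20461,16149],[]),
(1,[20461,16150],[]),
(1,[19780,20464],[]),
(1,[20243],[]),
(1,[20469,13912],[]),
(1,[20133,20470],[]),
(1,[20253],[]),
(1,[20475,14094],[]),
(1,[3831,20476],[]),
(1,[20259],[]),
(1,[20481,15121],[]),
(1,[20401,20264],[]),
(1,[20485,20402],[]),
(1,[20485,20404],[]),
(1,[20485,15658],[]),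
(1,[4347,20490],[]),
(1,[20271],[]),
(1,[20495,15638],[]),
(1,[17143,20496],[])]
theorem ok40 : data.stepsOK st40 10000 = true := by decide +kernel
def st41 : List Step := [
(1,[20276],[]),
(1,[20501,15737],[]),
(1,[20501,15915],[]),
(1,[3650,20504],[]),
(1,[20501,15785],[]),
(1,[8064,20508],[]),
(1,[20281],[]),
(1,[20513,18501],[]),
(1,[9773,20514],[]),
(1,[20291],[]),
(1,[20519,14718],[]),
(1,[20519,19894],[]),
(1,[17143,20522],[]),
(1,[20519,14717],[]),
(1,[13113,20526],[]),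
(1,[20301],[]),
(1,[20531,15052],[]),
(1,[17143,20532],[]),
(1,[20531,15051],[]),
(1,[13113,20536],[]),
(1,[20307],[]),
(1,[20541,14622],[]),
(1,[13068,20542],[]),
(1,[20541,17662],[]),
(1,[19473,20546],[]),
(1,[20313],[]),
(1,[20551,13746],[]),
(1,[17993,20552],[]),
(1,[20316],[]),
(1,[20557,17118],[]),
(1,[12678,20558],[]),
(1,[20557,12558],[]),
(1,[20557,17139],[]),
(1,[20322],[]),
(1,[20567,16598],[]),
(1,[20329],[]),
(1,[20571,17904],[]),
(1,[17992,20572],[]),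
(1,[20571,13435],[]),
(1,[17157,20576],[]),
(1,[20335,20422],[]),
(1,[20581,12651],[]),
(1,[990,20582],[]),
(1,[20341],[]),
(1,[20587,17978],[]),
(1,[3616,20588],[]),
(1,[20587,12754],[]),
(1,[3619,20592],[]),
(1,[20350],[]),
(1,[20597,18749],[]),
(1,[20355],[]),
(1,[20601,3820],[]),
(1,[3529,20602],[]),
(1,[20601,18776],[]),
(1,[13119,20606],[]),
(1,[20567,20361],[]),
(1,[20611,20568],[]),
(1,[20611,11096],[]),
(1,[3519,20614],[]),
(1,[20400,20484],[]),
(1,[20365,20618],[]),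
(1,[20621,18252],[]),
(1,[20621,12758],[]),
(1,[4347,20624],[]),
(1,[20373],[]),
(1,[20629,13075,20628],[]),
(1,[20629,13162],[]),
(1,[20629,13073],[]),
(1,[13060,20634],[]),
(1,[20377],[]),
(1,[20639,13650],[]),
(1,[20566,20610],[]),
(1,[20383,20642],[]),
(1,[20645,6827],[]),
(1,[20345,20646],[]),
(1,[20645,11049],[]),
(1,[3516,20650],[]),
(1,[20645,5806],[]),
(1,[3519,20654],[]),
(1,[20393,20556],[]),
(1,[20659,13716],[]),
(1,[12678,20660],[]),
(1,[20659,19552],[]),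
(1,[20565,20664],[]),
(1,[20399],[]),
(1,[20669,14372],[]),
(1,[4741,20670],[]),
(1,[20408],[]),
(1,[20675,15660],[]),
(1,[12827,20676],[]),
(1,[20415],[]),
(1,[20681,13223],[]),
(1,[20681,13411],[]),
(1,[4188,20684],[]),
(1,[20421],[]),
(1,[20689,16143],[]),
(1,[18066,20690],[]),
(1,[20431],[]),
(1,[20695,17897],[]),
(1,[20695,20129],[]),
(1,[13314,20698],[]),
(1,[20435],[]),
(1,[20703,17732],[]),
(1,[20703,17734],[]),
(1,[20703,13441],[]),
(1,[988,20708],[]),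
(1,[20441],[]),
(1,[20713,13572],[]),
(1,[12626,20714],[]),
(1,[20447],[]),
(1,[20719,19526],[]),
(1,[20719,14714],[]),
(1,[3835,20722],[]),
(1,[20719,14049],[]),
(1,[20459],[]),
(1,[20729,14400],[]),
(1,[20729,14399],[]),
(1,[12622,20732],[]),
(1,[20467],[]),
(1,[20737,16152],[]),
(1,[376,20738],[]),
(1,[20473],[]),
(1,[20743,13914],[]),
(1,[4033,20744],[]),
(1,[20479],[]),
(1,[20749,14096],[]),
(1,[20451,20750],[]),
(1,[20675,20493],[]),
(1,[20755,12826],[]),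
(1,[4349,20756],[]),
(1,[20755,13045],[]),
(1,[20499],[]),
(1,[20763,15832],[]),
(1,[16688,20764],[]),
(1,[20507],[]),
(1,[20769,15913],[]),
(1,[11970,20770],[]),
(1,[20511],[]),
(1,[20775,15783],[]),
(1,[3366,20776],[]),
(1,[20516],[]),
(1,[20781,9773],[]),
(1,[20781,9417],[]),
(1,[20781,17919],[]),
(1,[3514,20786],[]),
(1,[20525],[]),
(1,[20791,16128],[]),
(1,[4839,20792],[]),
(1,[20791,17753],[]),
(1,[16688,20796],[]),
(1,[20529],[]),
(1,[20801,19708],[]),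
(1,[13115,20802],[]),
(1,[20535],[]),
(1,[20807,19067],[]),
(1,[4839,20808],[]),
(1,[20807,15027],[]),
(1,[16688,20812],[]),
(1,[20539],[]),
(1,[20817,15049],[]),
(1,[20545],[]),
(1,[20821,19364],[]),
(1,[19741,20822],[]),
(1,[20549],[]),
(1,[20827,15239],[]),
(1,[14337,20828],[]),
(1,[20555],[]),
(1,[20833,13748],[]),
(1,[12550,20834],[]),
(1,[20561],[]),
(1,[20839,13815],[]),
(1,[20839,13816],[]),
(1,[12567,20842],[]),
(1,[20575],[]),
(1,[20847,15671],[]),
(1,[17987,20848],[]),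
(1,[20578],[]),
(1,[20853,14010],[]),
(1,[13432,20854],[]),
(1,[20853,17157],[]),
(1,[20585],[]),
(1,[20861,12649],[]),
(1,[20705,20862],[]),
(1,[20861,20482],[]),
(1,[988,20866],[]),
(1,[20591],[]),
(1,[20871,4737],[]),
(1,[13449,20872],[]),
(1,[20871,4738],[]),
(1,[13451,20876],[]),
(1,[20595],[]),
(1,[20881,18178],[]),
(1,[20881,18184],[]),
(1,[3621,20884],[]),
(1,[20605],[]),
(1,[20889,19394],[]),
(1,[3531,20890],[]),
(1,[20889,3822],[]),
(1,[20608],[]),
(1,[20897,13119],[]),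
(1,[20897,13120],[]),
(1,[357,20900],[]),
(1,[20617],[]),
(1,[20905,11098],[]),
(1,[3521,20906],[]),
(1,[20627],[]),
(1,[20911,12760],[]),
(1,[4349,20912],[]),
(1,[20637],[]),
(1,[20917,13071],[]),
(1,[13178,20918],[]),
(1,[20917,19483],[]),
(1,[20648],[]),
(1,[20925,20345],[]),
(1,[20925,14316],[]),
(1,[76,20928],[]),
(1,[20653],[]),
(1,[20933,11047],[]),
(1,[20783,20934],[]),
(1,[20657],[]),
(1,[20939,10969],[]),
(1,[3521,20940],[]),
(1,[20939,5808],[]),
(1,[20488,20944],[]),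
(1,[20663],[]),
(1,[20949,13718],[]),
(1,[12567,20950],[]),
(1,[20667],[]),
(1,[20955,14391],[]),
(1,[4189,20956],[]),
(1,[20673],[]),
(1,[20961,19911],[]),
(1,[4743,20962],[]),
(1,[20679],[]),
(1,[20967,15662],[]),
(1,[12829,20968],[]),
(1,[20687],[]),
(1,[20973,13409],[]),
(1,[17986,20974],[]),
(1,[20693],[]),
(1,[20979,16141],[]),
(1,[3635,20980],[]),
(1,[20700],[]),
(1,[20985,13313],[]),
(1,[12669,20986],[]),
(1,[20985,16576],[]),
(1,[12671,20990],[]),
(1,[20985,13314],[]),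
(1,[20711],[]),
(1,[20997,17800],[])]
theorem ok41 : data.stepsOK st41 10250 = true := by decide +kernel
def st42 : List Step := [
(1,[986,20998],[]),
(1,[20717],[]),
(1,[21003,13574],[]),
(1,[20455,21004],[]),
(1,[20801,20725],[]),
(1,[21009,13114],[]),
(1,[3837,21010],[]),
(1,[21009,13113],[]),
(1,[21009,20818],[]),
(1,[3834,21016],[]),
(1,[20735],[]),
(1,[21021,14397],[]),
(1,[20741],[]),
(1,[21025,16154],[]),
(1,[374,21026],[]),
(1,[20747],[]),
(1,[21031,13916],[]),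
(1,[9838,21032],[]),
(1,[20752],[]),
(1,[21037,19434],[]),
(1,[21037,21023],[]),
(1,[14099,21040],[]),
(1,[21037,20451],[]),
(1,[20759],[]),
(1,[21047,12828],[]),
(1,[4351,21048],[]),
(1,[20767],[]),
(1,[21053,15834],[]),
(1,[533,21054],[]),
(1,[20773],[]),
(1,[21059,15911],[]),
(1,[1418,21060],[]),
(1,[20779],[]),
(1,[21065,15781],[]),
(1,[8065,21066],[]),
(1,[20789],[]),
(1,[21071,9931],[]),
(1,[13043,21072],[]),
(1,[20795],[]),
(1,[21077,16130],[]),
(1,[20799],[]),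
(1,[21081,19535,21080],[]),
(1,[530,21082],[]),
(1,[21081,19536],[]),
(1,[533,21086],[]),
(1,[20805],[]),
(1,[21091,16899],[]),
(1,[20811],[]),
(1,[21095,17429],[]),
(1,[10748,21096],[]),
(1,[21095,17361],[]),
(1,[21079,21100],[]),
(1,[20815],[]),
(1,[21105,15025],[]),
(1,[530,21106],[]),
(1,[20825],[]),
(1,[21111,15314],[]),
(1,[20831],[]),
(1,[21115,15237],[]),
(1,[14339,21116],[]),
(1,[20837],[]),
(1,[21121,13750],[]),
(1,[12670,21122],[]),
(1,[20845],[]),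
(1,[21127,16350],[]),
(1,[20851],[]),
(1,[21131,15669],[]),
(1,[20564,21132],[]),
(1,[20857],[]),
(1,[21137,14012],[]),
(1,[20865],[]),
(1,[21141,12647],[]),
(1,[372,21142],[]),
(1,[20869],[]),
(1,[21147,15344],[]),
(1,[21147,15119],[]),
(1,[16678,21150],[]),
(1,[20874],[]),
(1,[21155,13449],[]),
(1,[21155,13452],[]),
(1,[21155,13430],[]),
(1,[14473,21160],[]),
(1,[20878],[]),
(1,[21165,13425],[]),
(1,[4741,21166],[]),
(1,[21165,13451],[]),
(1,[20887],[]),
(1,[21173,18161],[]),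
(1,[3623,21174],[]),
(1,[21173,12810],[]),
(1,[20892],[]),
(1,[21181,3532],[]),
(1,[370,21182],[]),
(1,[21181,3531],[]),
(1,[20903],[]),
(1,[21189,13122],[]),
(1,[18700,21190],[]),
(1,[20909],[]),
(1,[21195,11100],[]),
(1,[3523,21196],[]),
(1,[20915],[]),
(1,[21201,20095],[]),
(1,[4351,21202],[]),
(1,[21201,12762],[]),
(1,[20921],[]),
(1,[21209,13069],[]),
(1,[21209,19472],[]),
(1,[11116,21212],[]),
(1,[20931],[]),
(1,[21217,14318],[]),
(1,[10442,21218],[]),
(1,[20937],[]),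
(1,[21223,11045],[]),
(1,[19781,21224],[]),
(1,[20943],[]),
(1,[21229,10967],[]),
(1,[18603,21230],[]),
(1,[20947],[]),
(1,[21235,5810],[]),
(1,[4347,21236],[]),
(1,[20953],[]),
(1,[21241,18146],[]),
(1,[21129,21242],[]),
(1,[20959],[]),
(1,[21247,14389],[]),
(1,[20696,21248],[]),
(1,[20965],[]),
(1,[21253,12831],[]),
(1,[21253,12832],[]),
(1,[4745,21256],[]),
(1,[20971],[]),
(1,[21261,15664],[]),
(1,[20977],[]),
(1,[21265,13407],[]),
(1,[4402,21266],[]),
(1,[20983],[]),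
(1,[21271,16139],[]),
(1,[18135,21272],[]),
(1,[20989],[]),
(1,[21277,13311],[]),
(1,[12544,21278],[]),
(1,[20993],[]),
(1,[21283,16678],[]),
(1,[21001],[]),
(1,[21287,15317],[]),
(1,[21287,15651],[]),
(1,[984,21290],[]),
(1,[21006],[]),
(1,[21295,20455],[]),
(1,[21013],[]),
(1,[21299,21092],[]),
(1,[3839,21300],[]),
(1,[21299,13185],[]),
(1,[21019],[]),
(1,[21307,15047],[]),
(1,[3832,21308],[]),
(1,[21029],[]),
(1,[21313,16156],[]),
(1,[20704,21314],[]),
(1,[21035],[]),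
(1,[21319,13918],[]),
(1,[374,21320],[]),
(1,[21042],[]),
(1,[21325,14070],[]),
(1,[12620,21326],[]),
(1,[21325,14099],[]),
(1,[21051],[]),
(1,[21333,21255],[]),
(1,[4353,21334],[]),
(1,[21333,21262],[]),
(1,[21057],[]),
(1,[21341,15836],[]),
(1,[21063],[]),
(1,[21345,15909],[]),
(1,[3071,21346],[]),
(1,[21069],[]),
(1,[21351,15779],[]),
(1,[3650,21352],[]),
(1,[21074],[]),
(1,[21357,13043],[]),
(1,[21357,13036],[]),
(1,[21357,12821],[]),
(1,[3024,21362],[]),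
(1,[21357,18475],[]),
(1,[3027,21366],[]),
(1,[21085],[]),
(1,[21371,531],[]),
(1,[21371,532],[]),
(1,[21371,16688],[]),
(1,[528,21376],[]),
(1,[21089],[]),
(1,[21381,19316],[]),
(1,[535,21382],[]),
(1,[21381,17828],[]),
(1,[21343,21386],[]),
(1,[21381,20727],[]),
(1,[21099],[]),
(1,[21393,18906],[]),
(1,[976,21394],[]),
(1,[21102],[]),
(1,[21399,16677],[]),
(1,[14475,21400],[]),
(1,[21399,21079],[]),
(1,[21109],[]),
(1,[21407,15023],[]),
(1,[21375,21408],[]),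
(1,[21119],[]),
(1,[21413,15235],[]),
(1,[21125],[]),
(1,[21417,13752],[]),
(1,[20995,21418],[]),
(1,[21135],[]),
(1,[21423,15667],[]),
(1,[12678,21424],[]),
(1,[21145],[]),
(1,[21429,12645],[]),
(1,[370,21430],[]),
(1,[21429,13048],[]),
(1,[15303,21434],[]),
(1,[21153,21282],[]),
(1,[21439,19633],[]),
(1,[12551,21440],[]),
(1,[21162],[]),
(1,[21445,14474],[]),
(1,[13433,21446],[]),
(1,[21445,21404],[]),
(1,[21139,21450],[]),
(1,[21445,14473],[]),
(1,[21169],[]),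
(1,[21457,13423],[]),
(1,[4743,21458],[]),
(1,[21177],[]),
(1,[21463,21179],[]),
(1,[21463,18243],[]),
(1,[3625,21466],[]),
(1,[21185],[]),
(1,[21471,3534],[]),
(1,[19015,21472],[]),
(1,[21193],[]),
(1,[21477,13124],[]),
(1,[363,21478],[]),
(1,[21199],[]),
(1,[21483,12153],[]),
(1,[3525,21484],[]),
(1,[21483,12520],[]),
(1,[18673,21488],[]),
(1,[21205],[]),
(1,[21493,14170],[]),
(1,[21493,20295],[]),
(1,[21339,21496],[])]
theorem ok42 : data.stepsOK st42 10500 = true := by decide +kernel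
def st43 : List Step := [
(1,[21215],[]),
(1,[21501,14336],[]),
(1,[11114,21502],[]),
(1,[21221],[]),
(1,[21507,14320],[]),
(1,[10451,21508],[]),
(1,[21227],[]),
(1,[21513,11043],[]),
(1,[3825,21514],[]),
(1,[21233],[]),
(1,[21519,10965],[]),
(1,[4032,21520],[]),
(1,[21239],[]),
(1,[21525,5812],[]),
(1,[4349,21526],[]),
(1,[21244],[]),
(1,[21531,21129],[]),
(1,[21531,15987],[]),
(1,[4742,21534],[]),
(1,[21251],[]),
(1,[21539,14387],[]),
(1,[992,21540],[]),
(1,[21259],[]),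
(1,[21545,18135],[]),
(1,[4747,21546],[]),
(1,[21269],[]),
(1,[21551,13405],[]),
(1,[18047,21552],[]),
(1,[21275,21544],[]),
(1,[21557,16667],[]),
(1,[21557,16488],[]),
(1,[21281],[]),
(1,[21563,13309],[]),
(1,[12542,21564],[]),
(1,[21293],[]),
(1,[21569,15723],[]),
(1,[17221,21570],[]),
(1,[21303],[]),
(1,[21575,16897],[]),
(1,[21311],[]),
(1,[21579,19517],[]),
(1,[3830,21580],[]),
(1,[21317],[]),
(1,[21585,16158],[]),
(1,[988,21586],[]),
(1,[21323],[]),
(1,[21591,13920],[]),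
(1,[20704,21592],[]),
(1,[21591,13988],[]),
(1,[15619,21596],[]),
(1,[21328,21392],[]),
(1,[21601,12620],[]),
(1,[979,21602],[]),
(1,[21601,12619],[]),
(1,[10749,21606],[]),
(1,[21337],[]),
(1,[21611,21532],[]),
(1,[4352,21612],[]),
(1,[21611,19889],[]),
(1,[21611,4744],[]),
(1,[4355,21618],[]),
(1,[21611,4743],[]),
(1,[21349],[]),
(1,[21625,15907],[]),
(1,[11967,21626],[]),
(1,[21355],[]),
(1,[21631,15777],[]),
(1,[11970,21632],[]),
(1,[21365],[]),
(1,[21637,12819],[]),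
(1,[11883,21638],[]),
(1,[21369],[]),
(1,[21643,18476],[]),
(1,[3029,21644],[]),
(1,[21379],[]),
(1,[21649,17143],[]),
(1,[10957,21650],[]),
(1,[21385],[]),
(1,[21655,19329],[]),
(1,[21655,3027],[]),
(1,[537,21658],[]),
(1,[21655,3028],[]),
(1,[21388],[]),
(1,[21665,21343],[]),
(1,[21396],[]),
(1,[21669,976],[]),
(1,[21403],[]),
(1,[21673,15712],[]),
(1,[14477,21674],[]),
(1,[21673,15711],[]),
(1,[17375,21678],[]),
(1,[21411],[]),
(1,[21683,15228],[]),
(1,[21391,21684],[]),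
(1,[21421],[]),
(1,[21689,13754],[]),
(1,[20697,21690],[]),
(1,[21427],[]),
(1,[21433],[]),
(1,[21697,13046],[]),
(1,[15301,21698],[]),
(1,[21697,13550],[]),
(1,[19040,21702],[]),
(1,[21436],[]),
(1,[21707,15303],[]),
(1,[21443],[]),
(1,[21449],[]),
(1,[21713,17374],[]),
(1,[17945,21714],[]),
(1,[21453],[]),
(1,[21719,10749],[]),
(1,[524,21720],[]),
(1,[21461,21610],[]),
(1,[21725,13421],[]),
(1,[4352,21726],[]),
(1,[21469],[]),
(1,[21731,4740],[]),
(1,[3627,21732],[]),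
(1,[21731,17968],[]),
(1,[21731,21170],[]),
(1,[18201,21738],[]),
(1,[21474],[]),
(1,[21743,20369],[]),
(1,[3537,21744],[]),
(1,[21743,18728],[]),
(1,[21743,14016],[]),
(1,[21743,19015],[]),
(1,[21481],[]),
(1,[21755,13126],[]),
(1,[21671,21756],[]),
(1,[21486],[]),
(1,[21761,3525],[]),
(1,[21761,20599],[]),
(1,[12155,21764],[]),
(1,[21761,3526],[]),
(1,[965,21768],[]),
(1,[21490],[]),
(1,[21773,18673],[]),
(1,[21499,21694],[]),
(1,[21777,13655],[]),
(1,[20841,21778],[]),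
(1,[21505],[]),
(1,[21783,14338],[]),
(1,[21511],[]),
(1,[21787,14322],[]),
(1,[1098,21788],[]),
(1,[21517],[]),
(1,[21793,11041],[]),
(1,[19972,21794],[]),
(1,[21523],[]),
(1,[21799,10963],[]),
(1,[20132,21800],[]),
(1,[21529],[]),
(1,[21805,5814],[]),
(1,[21207,21806],[]),
(1,[21537],[]),
(1,[21811,15985],[]),
(1,[18370,21812],[]),
(1,[21543],[]),
(1,[21817,14385],[]),
(1,[20425,21818],[]),
(1,[21548],[]),
(1,[21823,12145],[]),
(1,[3634,21824],[]),
(1,[21823,11927],[]),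
(1,[21823,17069],[]),
(1,[3637,21830],[]),
(1,[21823,4747],[]),
(1,[21554],[]),
(1,[21837,18047],[]),
(1,[21837,15708],[]),
(1,[13402,21840],[]),
(1,[21567],[]),
(1,[21845,13307],[]),
(1,[12540,21846],[]),
(1,[21572],[]),
(1,[21851,16198],[]),
(1,[21851,17221],[]),
(1,[21583],[]),
(1,[21857,12544],[]),
(1,[12626,21858],[]),
(1,[21589],[]),
(1,[21863,16160],[]),
(1,[986,21864],[]),
(1,[21595],[]),
(1,[21869,13986],[]),
(1,[20707,21870],[]),
(1,[21598],[]),
(1,[21875,15619],[]),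
(1,[21605],[]),
(1,[21879,12622],[]),
(1,[981,21880],[]),
(1,[21879,21330],[]),
(1,[10737,21884],[]),
(1,[21609,21718],[]),
(1,[21889,12617],[]),
(1,[527,21890],[]),
(1,[21615],[]),
(1,[21895,12567],[]),
(1,[21895,12568],[]),
(1,[4350,21898],[]),
(1,[21621],[]),
(1,[21903,21558],[]),
(1,[4357,21904],[]),
(1,[21903,21560],[]),
(1,[21903,21835],[]),
(1,[21629],[]),
(1,[21913,15905],[]),
(1,[12147,21914],[]),
(1,[21635],[]),
(1,[21919,15775],[]),
(1,[1418,21920],[]),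
(1,[21641],[]),
(1,[21925,18372],[]),
(1,[13674,21926],[]),
(1,[21647],[]),
(1,[21931,16830],[]),
(1,[18075,21932],[]),
(1,[21653],[]),
(1,[21937,20181],[]),
(1,[10959,21938],[]),
(1,[21937,20520],[]),
(1,[21937,21015],[]),
(1,[12601,21944],[]),
(1,[21661],[]),
(1,[21949,21358],[]),
(1,[16705,21950],[]),
(1,[21949,21360],[]),
(1,[21949,3025],[]),
(1,[539,21956],[]),
(1,[21677,21710],[]),
(1,[21961,15714],[]),
(1,[12550,21962],[]),
(1,[21681],[]),
(1,[21967,16668],[]),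
(1,[21687],[]),
(1,[21971,15230],[]),
(1,[3835,21972],[]),
(1,[21693],[]),
(1,[21977,13756],[]),
(1,[4188,21978],[]),
(1,[21700],[]),
(1,[21983,15301],[]),
(1,[21983,15487],[]),
(1,[12422,21986],[]),
(1,[21983,15361],[]),
(1,[12848,21990],[]),
(1,[21705],[]),
(1,[21995,13552],[]),
(1,[19039,21996],[])]
theorem ok43 : data.stepsOK st43 10750 = true := by decide +kernel
def st44 : List Step := [
(1,[21716],[]),
(1,[22001,17945],[]),
(1,[21723],[]),
(1,[22005,978],[]),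
(1,[522,22006],[]),
(1,[22005,10746],[]),
(1,[22005,21671],[]),
(1,[21729],[]),
(1,[22015,13419],[]),
(1,[21897,22016],[]),
(1,[21735],[]),
(1,[22021,18018],[]),
(1,[22021,21623],[]),
(1,[18121,22024],[]),
(1,[21740],[]),
(1,[22029,18201],[]),
(1,[22029,12591],[]),
(1,[3617,22032],[]),
(1,[21747],[]),
(1,[22037,20104],[]),
(1,[22037,13063],[]),
(1,[3539,22040],[]),
(1,[21759,22004],[]),
(1,[22045,13128],[]),
(1,[522,22046],[]),
(1,[21766],[]),
(1,[22051,11106],[]),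
(1,[12265,22052],[]),
(1,[22051,12155],[]),
(1,[21771],[]),
(1,[22059,3528],[]),
(1,[17246,22060],[]),
(1,[22059,12353],[]),
(1,[22059,20899],[]),
(1,[967,22066],[]),
(1,[21781],[]),
(1,[22071,13653],[]),
(1,[13174,22072],[]),
(1,[21791],[]),
(1,[22077,14324],[]),
(1,[10328,22078],[]),
(1,[21797],[]),
(1,[22083,11039],[]),
(1,[20212,22084],[]),
(1,[21802],[]),
(1,[22089,20132],[]),
(1,[21808],[]),
(1,[22093,12764],[]),
(1,[5817,22094],[]),
(1,[22093,13056],[]),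
(1,[22093,21207],[]),
(1,[21815,21924],[]),
(1,[22103,15983],[]),
(1,[13674,22104],[]),
(1,[21821],[]),
(1,[22109,17286],[]),
(1,[22109,14383],[]),
(1,[20213,22112],[]),
(1,[21826],[]),
(1,[22117,3634],[]),
(1,[22117,18066],[]),
(1,[21833],[]),
(1,[22123,13206],[]),
(1,[18284,22124],[]),
(1,[21967,21843],[]),
(1,[22129,21968],[]),
(1,[22129,22002],[]),
(1,[13400,22132],[]),
(1,[21849],[]),
(1,[22137,13305],[]),
(1,[14381,22138],[]),
(1,[21860],[]),
(1,[22143,21297],[]),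
(1,[12668,22144],[]),
(1,[22143,12626],[]),
(1,[22143,12625],[]),
(1,[21867],[]),
(1,[22153,16219],[]),
(1,[984,22154],[]),
(1,[21872],[]),
(1,[22159,20707],[]),
(1,[21883],[]),
(1,[22163,20730],[]),
(1,[22163,22151],[]),
(1,[21887],[]),
(1,[22169,21039,22168],[]),
(1,[4650,22170],[]),
(1,[22169,21044],[]),
(1,[21893],[]),
(1,[22177,12615],[]),
(1,[10957,22178],[]),
(1,[21901],[]),
(1,[22183,12570],[]),
(1,[22100,22184],[]),
(1,[21966,22128],[]),
(1,[22189,21907],[]),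
(1,[22191,22130],[]),
(1,[22191,13401],[]),
(1,[4359,22194],[]),
(1,[22191,13402],[]),
(1,[21917],[]),
(1,[22201,15903],[]),
(1,[4225,22202],[]),
(1,[21923],[]),
(1,[22207,15773],[]),
(1,[3071,22208],[]),
(1,[21928,22122],[]),
(1,[22213,13674],[]),
(1,[21935],[]),
(1,[22217,16832],[]),
(1,[20388,22218],[]),
(1,[21941],[]),
(1,[22223,12658],[]),
(1,[21946],[]),
(1,[22227,12601],[]),
(1,[21952],[]),
(1,[22231,16705],[]),
(1,[22231,4827],[]),
(1,[20760,22234],[]),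
(1,[21959],[]),
(1,[22239,11882],[]),
(1,[18363,22240],[]),
(1,[22239,10029],[]),
(1,[21965],[]),
(1,[22247,15716],[]),
(1,[21285,22248],[]),
(1,[21975],[]),
(1,[22253,15232],[]),
(1,[3837,22254],[]),
(1,[21981],[]),
(1,[22259,13660],[]),
(1,[17986,22260],[]),
(1,[22259,13740],[]),
(1,[4186,22264],[]),
(1,[21989],[]),
(1,[22269,15485],[]),
(1,[12426,22270],[]),
(1,[21993],[]),
(1,[22275,15359],[]),
(1,[12680,22276],[]),
(1,[21999],[]),
(1,[22281,13554],[]),
(1,[364,22282],[]),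
(1,[22009],[]),
(1,[22287,10734],[]),
(1,[22287,980],[]),
(1,[520,22290],[]),
(1,[22019],[]),
(1,[22295,13417],[]),
(1,[20841,22296],[]),
(1,[22026],[]),
(1,[22301,18281],[]),
(1,[4355,22302],[]),
(1,[22301,18121],[]),
(1,[22035],[]),
(1,[22309,12589],[]),
(1,[20055,22310],[]),
(1,[22043],[]),
(1,[22315,20631,22314],[]),
(1,[22315,20632],[]),
(1,[22315,13061],[]),
(1,[3541,22320],[]),
(1,[22049],[]),
(1,[22325,13130],[]),
(1,[17003,22326],[]),
(1,[22055],[]),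
(1,[22331,11108],[]),
(1,[19449,22332],[]),
(1,[22062],[]),
(1,[22337,17246],[]),
(1,[22337,12535],[]),
(1,[21186,22340],[]),
(1,[22068],[]),
(1,[22345,967],[]),
(1,[22075],[]),
(1,[22349,16808],[]),
(1,[12628,22350],[]),
(1,[22349,20641],[]),
(1,[13177,22354],[]),
(1,[22349,19666],[]),
(1,[12631,22358],[]),
(1,[22081],[]),
(1,[22363,14326],[]),
(1,[508,22364],[]),
(1,[22087],[]),
(1,[22369,11037],[]),
(1,[22111,22370],[]),
(1,[22097],[]),
(1,[22375,13052],[]),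
(1,[22375,12766],[]),
(1,[22107,22212],[]),
(1,[22381,15981],[]),
(1,[18284,22382],[]),
(1,[22115],[]),
(1,[22127],[]),
(1,[22389,12778],[]),
(1,[18287,22390],[]),
(1,[22389,12777],[]),
(1,[1318,22394],[]),
(1,[22135],[]),
(1,[22399,13433],[]),
(1,[22399,20858],[]),
(1,[13398,22402],[]),
(1,[22141,22386],[]),
(1,[22407,13303],[]),
(1,[20212,22408],[]),
(1,[22147],[]),
(1,[22413,13576],[]),
(1,[20995,22414],[]),
(1,[22156],[]),
(1,[22419,983],[]),
(1,[17038,22420],[]),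
(1,[22419,984],[]),
(1,[22419,21855],[]),
(1,[513,22426],[]),
(1,[22173],[]),
(1,[22431,4651],[]),
(1,[22431,22174],[]),
(1,[22181],[]),
(1,[22437,12613],[]),
(1,[10959,22438],[]),
(1,[22437,13034],[]),
(1,[21943,22442],[]),
(1,[22187],[]),
(1,[22447,12572],[]),
(1,[5817,22448],[]),
(1,[22197],[]),
(1,[22453,22400],[]),
(1,[22453,13399],[]),
(1,[4361,22456],[]),
(1,[22205],[]),
(1,[22461,15901],[]),
(1,[12676,22462],[]),
(1,[22211],[]),
(1,[22467,15771],[]),
(1,[11967,22468],[]),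
(1,[22221],[]),
(1,[22473,16834],[]),
(1,[20562,22474],[]),
(1,[22237],[]),
(1,[22479,10071],[]),
(1,[22242],[]),
(1,[22483,18363],[]),
(1,[22483,13250],[]),
(1,[22214,22486],[]),
(1,[22251],[]),
(1,[22491,15718],[]),
(1,[986,22492],[]),
(1,[22257],[]),
(1,[22497,21415],[])]
theorem ok44 : data.stepsOK st44 11000 = true := by decide +kernel
def st45 : List Step := [
(1,[3839,22498],[]),
(1,[22263],[]),
(1,[22503,13743],[]),
(1,[22266],[]),
(1,[22507,4186],[]),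
(1,[22507,4185],[]),
(1,[319,22510],[]),
(1,[22273],[]),
(1,[22515,15483],[]),
(1,[9400,22516],[]),
(1,[22279],[]),
(1,[22521,15357],[]),
(1,[10916,22522],[]),
(1,[22285],[]),
(1,[22527,13556],[]),
(1,[362,22528],[]),
(1,[22293],[]),
(1,[22533,22164],[]),
(1,[22533,22166],[]),
(1,[22299],[]),
(1,[22539,13415],[]),
(1,[13149,22540],[]),
(1,[22305],[]),
(1,[22545,18278],[]),
(1,[21909,22546],[]),
(1,[22313],[]),
(1,[22551,12587],[]),
(1,[19869,22552],[]),
(1,[22323],[]),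
(1,[22557,13179],[]),
(1,[22557,13059],[]),
(1,[22557,20922],[]),
(1,[12032,22562],[]),
(1,[22329],[]),
(1,[22567,13166],[]),
(1,[22334],[]),
(1,[22571,13900],[]),
(1,[11111,22572],[]),
(1,[22571,19254],[]),
(1,[22571,19449],[]),
(1,[22343],[]),
(1,[22581,12533],[]),
(1,[373,22582],[]),
(1,[22353],[]),
(1,[22587,15534],[]),
(1,[12049,22588],[]),
(1,[22356],[]),
(1,[22593,13143],[]),
(1,[13067,22594],[]),
(1,[22593,13177],[]),
(1,[22361],[]),
(1,[22601,19745],[]),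
(1,[22367],[]),
(1,[22605,14328],[]),
(1,[10289,22606],[]),
(1,[22373],[]),
(1,[22611,11035],[]),
(1,[22385],[]),
(1,[22615,19747],[]),
(1,[1318,22616],[]),
(1,[22392],[]),
(1,[22621,3642],[]),
(1,[1465,22622],[]),
(1,[22621,18287],[]),
(1,[22397],[]),
(1,[22629,12775],[]),
(1,[1316,22630],[]),
(1,[22404],[]),
(1,[22635,13397],[]),
(1,[22411],[]),
(1,[22639,13301],[]),
(1,[11456,22640],[]),
(1,[22417],[]),
(1,[22645,13578],[]),
(1,[20697,22646],[]),
(1,[22422,22532],[]),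
(1,[22651,17038],[]),
(1,[518,22652],[]),
(1,[22651,17040],[]),
(1,[22535,22656],[]),
(1,[22651,5721],[]),
(1,[22537,22660],[]),
(1,[22429],[]),
(1,[22665,21852],[]),
(1,[22665,15721],[]),
(1,[515,22668],[]),
(1,[22441],[]),
(1,[22673,13032],[]),
(1,[22444],[]),
(1,[22677,21943],[]),
(1,[22677,14720],[]),
(1,[10393,22680],[]),
(1,[22451],[]),
(1,[22685,12574],[]),
(1,[5819,22686],[]),
(1,[22635,22459],[]),
(1,[22691,12551],[]),
(1,[22691,22636],[]),
(1,[22691,17993],[]),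
(1,[4363,22696],[]),
(1,[22465],[]),
(1,[22701,15899],[]),
(1,[22471],[]),
(1,[22705,18049],[]),
(1,[22477],[]),
(1,[22709,16836],[]),
(1,[12678,22710],[]),
(1,[22489],[]),
(1,[22715,13252],[]),
(1,[18284,22716],[]),
(1,[22495],[]),
(1,[22501],[]),
(1,[22723,21785],[]),
(1,[21577,22724],[]),
(1,[22513],[]),
(1,[22729,4183],[]),
(1,[321,22730],[]),
(1,[22519],[]),
(1,[22735,15481],[]),
(1,[9466,22736],[]),
(1,[22525],[]),
(1,[22741,15355],[]),
(1,[12192,22742],[]),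
(1,[22531],[]),
(1,[22747,13558],[]),
(1,[12266,22748],[]),
(1,[22543],[]),
(1,[22753,13443],[]),
(1,[13151,22754],[]),
(1,[22753,13413],[]),
(1,[22549],[]),
(1,[22761,16004],[]),
(1,[12140,22762],[]),
(1,[22555],[]),
(1,[22767,12585],[]),
(1,[4028,22768],[]),
(1,[22601,22565],[]),
(1,[22773,22602],[]),
(1,[1304,22774],[]),
(1,[22773,12631],[]),
(1,[1307,22778],[]),
(1,[22575],[]),
(1,[22783,13902],[]),
(1,[11113,22784],[]),
(1,[22783,19458],[]),
(1,[22585],[]),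
(1,[22791,10093],[]),
(1,[20704,22792],[]),
(1,[22791,10445],[]),
(1,[21876,22796],[]),
(1,[22591],[]),
(1,[22801,15536],[]),
(1,[8422,22802],[]),
(1,[22597],[]),
(1,[22807,13141],[]),
(1,[19741,22808],[]),
(1,[22609],[]),
(1,[22813,14330],[]),
(1,[4803,22814],[]),
(1,[22813,20246],[]),
(1,[7848,22818],[]),
(1,[22619],[]),
(1,[22625],[]),
(1,[22825,3644],[]),
(1,[22633],[]),
(1,[22829,12773],[]),
(1,[22829,17300],[]),
(1,[1314,22832],[]),
(1,[22643],[]),
(1,[22837,13299],[]),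
(1,[1161,22838],[]),
(1,[22649],[]),
(1,[22843,13644],[]),
(1,[20683,22844],[]),
(1,[22654],[]),
(1,[22849,518],[]),
(1,[22658],[]),
(1,[22853,22535],[]),
(1,[22662],[]),
(1,[22857,12669],[]),
(1,[5718,22858],[]),
(1,[22857,12672],[]),
(1,[22857,22148],[]),
(1,[13770,22864],[]),
(1,[22857,22537],[]),
(1,[22721,22671],[]),
(1,[22871,986],[]),
(1,[17019,22872],[]),
(1,[22871,21288],[]),
(1,[514,22876],[]),
(1,[22871,22425],[]),
(1,[22683],[]),
(1,[22883,14722],[]),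
(1,[3082,22884],[]),
(1,[22689],[]),
(1,[22889,12576],[]),
(1,[5821,22890],[]),
(1,[22699],[]),
(1,[22895,17986],[]),
(1,[22895,22504],[]),
(1,[4365,22898],[]),
(1,[22895,4403],[]),
(1,[22713],[]),
(1,[22905,16838],[]),
(1,[21896,22906],[]),
(1,[22719],[]),
(1,[22911,13254],[]),
(1,[22626,22912],[]),
(1,[22726],[]),
(1,[22917,21577],[]),
(1,[22917,16895],[]),
(1,[11115,22920],[]),
(1,[22733],[]),
(1,[22925,4181],[]),
(1,[12484,22926],[]),
(1,[22739],[]),
(1,[22931,15479],[]),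
(1,[3094,22932],[]),
(1,[22745],[]),
(1,[22937,15353],[]),
(1,[12196,22938],[]),
(1,[22751],[]),
(1,[22943,13560],[]),
(1,[22057,22944],[]),
(1,[22756],[]),
(1,[22949,13151],[]),
(1,[22765],[]),
(1,[22953,16006],[]),
(1,[3688,22954],[]),
(1,[22771],[]),
(1,[22959,12583],[]),
(1,[22576,22960],[]),
(1,[22823,22777],[]),
(1,[22965,1318],[]),
(1,[1302,22966],[]),
(1,[22965,1317],[]),
(1,[13160,22970],[]),
(1,[22781],[]),
(1,[22975,13174],[]),
(1,[1309,22976],[]),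
(1,[22975,12629],[]),
(1,[22975,22599],[]),
(1,[22787],[]),
(1,[22985,13810],[]),
(1,[22919,22986],[]),
(1,[22985,13809],[]),
(1,[22795],[]),
(1,[22993,10094],[]),
(1,[22160,22994],[]),
(1,[22993,10096],[])]
theorem ok45 : data.stepsOK st45 11250 = true := by decide +kernel
def st46 : List Step := [
(1,[991,22998],[]),
(1,[22798],[]),
(1,[23003,21876],[]),
(1,[22805],[]),
(1,[23007,15538],[]),
(1,[3970,23008],[]),
(1,[22810],[]),
(1,[23013,21112],[]),
(1,[13138,23014],[]),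
(1,[23013,22789],[]),
(1,[23013,19741],[]),
(1,[22817],[]),
(1,[23023,14283],[]),
(1,[12514,23024],[]),
(1,[23023,14279],[]),
(1,[16183,23028],[]),
(1,[22821],[]),
(1,[23033,14530],[]),
(1,[4802,23034],[]),
(1,[22949,22835],[]),
(1,[23039,22950],[]),
(1,[1312,23040],[]),
(1,[23039,11469],[]),
(1,[23039,22827],[]),
(1,[22841],[]),
(1,[23049,13297],[]),
(1,[1038,23050],[]),
(1,[22847],[]),
(1,[23055,13517],[]),
(1,[9628,23056],[]),
(1,[22860],[]),
(1,[23061,5718],[]),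
(1,[23061,5717],[]),
(1,[12671,23064],[]),
(1,[23061,13026],[]),
(1,[20995,23068],[]),
(1,[22866],[]),
(1,[23073,13770],[]),
(1,[22874],[]),
(1,[23077,17019],[]),
(1,[23077,1118],[]),
(1,[21284,23080],[]),
(1,[22879],[]),
(1,[22887],[]),
(1,[23087,14724],[]),
(1,[12190,23088],[]),
(1,[22893],[]),
(1,[23093,12578],[]),
(1,[22900],[]),
(1,[23097,4365],[]),
(1,[23097,4366],[]),
(1,[1195,23100],[]),
(1,[22909],[]),
(1,[23105,16840],[]),
(1,[4353,23106],[]),
(1,[22915],[]),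
(1,[23111,13256],[]),
(1,[1462,23112],[]),
(1,[22923],[]),
(1,[23117,17288],[]),
(1,[23117,16893],[]),
(1,[11117,23120],[]),
(1,[22929],[]),
(1,[23125,4179],[]),
(1,[1281,23126],[]),
(1,[22935],[]),
(1,[23131,15477],[]),
(1,[9307,23132],[]),
(1,[22941],[]),
(1,[23137,15351],[]),
(1,[12100,23138],[]),
(1,[22947],[]),
(1,[23143,13562],[]),
(1,[21763,23144],[]),
(1,[22957],[]),
(1,[23149,16008],[]),
(1,[12138,23150],[]),
(1,[22963],[]),
(1,[23155,12581],[]),
(1,[11111,23156],[]),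
(1,[23155,12660],[]),
(1,[22969],[]),
(1,[23163,18284],[]),
(1,[1300,23164],[]),
(1,[23163,9908],[]),
(1,[23163,22627],[]),
(1,[17307,23170],[]),
(1,[22972],[]),
(1,[23175,13160],[]),
(1,[22979],[]),
(1,[23179,13168],[]),
(1,[23179,20841],[]),
(1,[22989],[]),
(1,[23185,13759],[]),
(1,[22996],[]),
(1,[23189,22160],[]),
(1,[23001],[]),
(1,[23193,5881],[]),
(1,[20425,23194],[]),
(1,[23011],[]),
(1,[23199,15540],[]),
(1,[8507,23200],[]),
(1,[23016,23084],[]),
(1,[23205,13138],[]),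
(1,[22667,23206],[]),
(1,[23205,13137],[]),
(1,[512,23210],[]),
(1,[23027],[]),
(1,[23215,18983],[]),
(1,[1289,23216],[]),
(1,[23030],[]),
(1,[23221,16183],[]),
(1,[23037],[]),
(1,[23225,14532],[]),
(1,[10288,23226],[]),
(1,[23043],[]),
(1,[23231,22758],[]),
(1,[23053],[]),
(1,[23235,13295],[]),
(1,[11471,23236],[]),
(1,[23059],[]),
(1,[23241,13515],[]),
(1,[11659,23242],[]),
(1,[23066],[]),
(1,[23247,22693],[]),
(1,[13642,23248],[]),
(1,[23247,21284],[]),
(1,[13786,23252],[]),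
(1,[23247,12671],[]),
(1,[23071],[]),
(1,[23259,12710],[]),
(1,[992,23260],[]),
(1,[23247,23082],[]),
(1,[23265,13643],[]),
(1,[23265,9923],[]),
(1,[23265,13787],[]),
(1,[23265,23256],[]),
(1,[1121,23272],[]),
(1,[23091],[]),
(1,[23277,14726],[]),
(1,[12196,23278],[]),
(1,[23103],[]),
(1,[23283,4368],[]),
(1,[9753,23284],[]),
(1,[23109],[]),
(1,[23289,16842],[]),
(1,[4355,23290],[]),
(1,[23115],[]),
(1,[23295,13258],[]),
(1,[1460,23296],[]),
(1,[23123],[]),
(1,[23301,16891],[]),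
(1,[21211,23302],[]),
(1,[23129],[]),
(1,[23307,4177],[]),
(1,[12495,23308],[]),
(1,[23135],[]),
(1,[23313,15475],[]),
(1,[8419,23314],[]),
(1,[23141],[]),
(1,[23319,15349],[]),
(1,[3270,23320],[]),
(1,[23146],[]),
(1,[23325,21763],[]),
(1,[23325,21775],[]),
(1,[23325,3523],[]),
(1,[1145,23330],[]),
(1,[23325,20062],[]),
(1,[1142,23334],[]),
(1,[23153],[]),
(1,[23339,16010],[]),
(1,[3505,23340],[]),
(1,[23159],[]),
(1,[23345,12662],[]),
(1,[23345,23095],[]),
(1,[11113,23348],[]),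
(1,[23167],[]),
(1,[23353,18214],[]),
(1,[23353,22214],[]),
(1,[1298,23356],[]),
(1,[23353,3637],[]),
(1,[23172],[]),
(1,[23363,12769],[]),
(1,[1462,23364],[]),
(1,[23363,12770],[]),
(1,[1465,23368],[]),
(1,[23363,17307],[]),
(1,[23197],[]),
(1,[23375,5879],[]),
(1,[22111,23376],[]),
(1,[23203],[]),
(1,[23381,15542],[]),
(1,[5020,23382],[]),
(1,[23208],[]),
(1,[23387,22667],[]),
(1,[23387,16063],[]),
(1,[23021,23390],[]),
(1,[23213],[]),
(1,[23395,13135],[]),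
(1,[22880,23396],[]),
(1,[23219],[]),
(1,[23401,18980],[]),
(1,[23401,21663],[]),
(1,[23401,18074],[]),
(1,[1291,23406],[]),
(1,[23229],[]),
(1,[23411,14534],[]),
(1,[506,23412],[]),
(1,[23239],[]),
(1,[23417,13293],[]),
(1,[11970,23418],[]),
(1,[23245],[]),
(1,[23423,13513],[]),
(1,[11896,23424],[]),
(1,[23250],[]),
(1,[23429,23267],[]),
(1,[23429,13457],[]),
(1,[22695,23432],[]),
(1,[23429,17066],[]),
(1,[4363,23436],[]),
(1,[23254],[]),
(1,[23441,13785],[]),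
(1,[23079,23442],[]),
(1,[23441,23271],[]),
(1,[23263],[]),
(1,[23449,12712],[]),
(1,[20425,23450],[]),
(1,[23275],[]),
(1,[23455,23062],[]),
(1,[1123,23456],[]),
(1,[23455,9577],[]),
(1,[23455,20994],[]),
(1,[23281],[]),
(1,[23465,14728],[]),
(1,[3508,23466],[]),
(1,[23286],[]),
(1,[23471,12071],[]),
(1,[23471,20883],[]),
(1,[23471,9753],[]),
(1,[23471,9823],[]),
(1,[4371,23478],[]),
(1,[23293],[]),
(1,[23483,16844],[]),
(1,[4357,23484],[]),
(1,[23299],[]),
(1,[23489,13260],[]),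
(1,[1458,23490],[]),
(1,[23305],[]),
(1,[23495,16889],[]),
(1,[23310],[])]
theorem ok46 : data.stepsOK st46 11500 = true := by decide +kernel
def st47 : List Step := [
(1,[23499,6886],[]),
(1,[4174,23500],[]),
(1,[23499,13676],[]),
(1,[23499,12495],[]),
(1,[23499,7525],[]),
(1,[23317],[]),
(1,[23511,15473],[]),
(1,[22098,23512],[]),
(1,[23323],[]),
(1,[23517,15347],[]),
(1,[12928,23518],[]),
(1,[23333],[]),
(1,[23523,3521],[]),
(1,[11937,23524],[]),
(1,[23523,18602],[]),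
(1,[13640,23528],[]),
(1,[23337],[]),
(1,[23533,20055],[]),
(1,[23533,19868],[]),
(1,[1140,23536],[]),
(1,[23343],[]),
(1,[23541,16012],[]),
(1,[11921,23542],[]),
(1,[23350],[]),
(1,[23547,22918],[]),
(1,[5820,23548],[]),
(1,[23547,22990],[]),
(1,[23547,11114],[]),
(1,[5823,23554],[]),
(1,[23547,11113],[]),
(1,[23359],[]),
(1,[23561,22484],[]),
(1,[1296,23562],[]),
(1,[23561,11875],[]),
(1,[23561,3629],[]),
(1,[23367],[]),
(1,[23571,22379],[]),
(1,[12455,23572],[]),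
(1,[23371],[]),
(1,[23577,22831],[]),
(1,[1467,23578],[]),
(1,[23378],[]),
(1,[23583,22090],[]),
(1,[5876,23584],[]),
(1,[23583,22612],[]),
(1,[23583,10961],[]),
(1,[23583,22111],[]),
(1,[23385],[]),
(1,[23595,15544],[]),
(1,[10068,23596],[]),
(1,[23393],[]),
(1,[23601,16061],[]),
(1,[21210,23602],[]),
(1,[23399],[]),
(1,[23607,13133],[]),
(1,[514,23608],[]),
(1,[23409],[]),
(1,[23613,20389],[]),
(1,[23613,22121],[]),
(1,[1293,23616],[]),
(1,[23415],[]),
(1,[23621,14536],[]),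
(1,[10256,23622],[]),
(1,[23421],[]),
(1,[23627,13291],[]),
(1,[1421,23628],[]),
(1,[23427],[]),
(1,[23633,13511],[]),
(1,[3501,23634],[]),
(1,[23434],[]),
(1,[23639,22695],[]),
(1,[23439],[]),
(1,[23643,16176],[]),
(1,[22903,23644],[]),
(1,[23445],[]),
(1,[23649,13783],[]),
(1,[514,23650],[]),
(1,[23453],[]),
(1,[23655,12714],[]),
(1,[20213,23656],[]),
(1,[23459],[]),
(1,[23661,22862],[]),
(1,[23661,23075],[]),
(1,[23661,22868],[]),
(1,[1125,23666],[]),
(1,[23469],[]),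
(1,[23671,14730],[]),
(1,[11925,23672],[]),
(1,[23480],[]),
(1,[23677,4372],[]),
(1,[2936,23678],[]),
(1,[23677,4371],[]),
(1,[23487],[]),
(1,[23685,16846],[]),
(1,[4359,23686],[]),
(1,[23493],[]),
(1,[23691,13262],[]),
(1,[1456,23692],[]),
(1,[23502],[]),
(1,[23697,4174],[]),
(1,[23697,4173],[]),
(1,[9080,23700],[]),
(1,[23515],[]),
(1,[23705,15471],[]),
(1,[23521],[]),
(1,[23709,21149],[]),
(1,[13333,23710],[]),
(1,[23527],[]),
(1,[23715,3519],[]),
(1,[13548,23716],[]),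
(1,[23715,20489],[]),
(1,[3285,23720],[]),
(1,[23530],[]),
(1,[23725,13640],[]),
(1,[23539],[]),
(1,[23729,4029],[]),
(1,[1138,23730],[]),
(1,[23729,4030],[]),
(1,[23545],[]),
(1,[23737,16014],[]),
(1,[3501,23738],[]),
(1,[23550],[]),
(1,[23743,5820],[]),
(1,[23557],[]),
(1,[23747,23118],[]),
(1,[5825,23748],[]),
(1,[23747,11116],[]),
(1,[23564],[]),
(1,[23755,1296],[]),
(1,[23575],[]),
(1,[23759,5817],[]),
(1,[13220,23760],[]),
(1,[23759,22376],[]),
(1,[23580],[]),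
(1,[23767,1467],[]),
(1,[23767,1468],[]),
(1,[23177,23770],[]),
(1,[23586],[]),
(1,[23775,5876],[]),
(1,[23599],[]),
(1,[23779,15546],[]),
(1,[937,23780],[]),
(1,[23605],[]),
(1,[23785,16059],[]),
(1,[22558,23786],[]),
(1,[23611],[]),
(1,[23791,1130],[]),
(1,[23388,23792],[]),
(1,[23791,12519],[]),
(1,[23618],[]),
(1,[23799,1293],[]),
(1,[23625],[]),
(1,[23803,14538],[]),
(1,[504,23804],[]),
(1,[23631],[]),
(1,[23809,13289],[]),
(1,[11990,23810],[]),
(1,[23637],[]),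
(1,[23815,13509],[]),
(1,[3503,23816],[]),
(1,[23647],[]),
(1,[23821,16178],[]),
(1,[4400,23822],[]),
(1,[23653],[]),
(1,[23827,13781],[]),
(1,[23388,23828],[]),
(1,[23659],[]),
(1,[23833,12716],[]),
(1,[4194,23834],[]),
(1,[23668],[]),
(1,[23839,1125],[]),
(1,[23675],[]),
(1,[23843,14732],[]),
(1,[545,23844],[]),
(1,[23681],[]),
(1,[23849,4374],[]),
(1,[319,23850],[]),
(1,[23689],[]),
(1,[23855,16848],[]),
(1,[22455,23856],[]),
(1,[23695],[]),
(1,[23861,13264],[]),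
(1,[23703],[]),
(1,[23865,4171],[]),
(1,[1378,23866],[]),
(1,[23865,16073],[]),
(1,[9878,23870],[]),
(1,[23712],[]),
(1,[23875,13454],[]),
(1,[23079,23876],[]),
(1,[23875,13333],[]),
(1,[23718],[]),
(1,[23883,13548],[]),
(1,[23723],[]),
(1,[23887,20486],[]),
(1,[13470,23888],[]),
(1,[23887,20622],[]),
(1,[23887,4346],[]),
(1,[3287,23894],[]),
(1,[23733],[]),
(1,[23899,4027],[]),
(1,[23899,22577],[]),
(1,[1136,23902],[]),
(1,[23741],[]),
(1,[23907,16016],[]),
(1,[11905,23908],[]),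
(1,[23751],[]),
(1,[23913,10973],[]),
(1,[5827,23914],[]),
(1,[23913,10974],[]),
(1,[23762],[]),
(1,[23921,13220],[]),
(1,[23921,13219],[]),
(1,[22101,23924],[]),
(1,[23773],[]),
(1,[23929,1470],[]),
(1,[1305,23930],[]),
(1,[23783],[]),
(1,[23935,15616],[]),
(1,[23641,23936],[]),
(1,[23789],[]),
(1,[23941,16057],[]),
(1,[3540,23942],[]),
(1,[23794],[]),
(1,[23947,23388],[]),
(1,[23947,23018],[]),
(1,[1133,23950],[]),
(1,[23947,23020],[]),
(1,[13473,23954],[]),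
(1,[23807],[]),
(1,[23959,14817],[]),
(1,[20720,23960],[]),
(1,[23813],[]),
(1,[23965,13287],[]),
(1,[233,23966],[]),
(1,[23819],[]),
(1,[23971,13507],[]),
(1,[12139,23972],[]),
(1,[23825],[]),
(1,[23977,16180],[]),
(1,[23831,23946],[]),
(1,[23981,13779],[]),
(1,[1133,23982],[]),
(1,[23837],[]),
(1,[23987,12718],[]),
(1,[17100,23988],[]),
(1,[23847],[]),
(1,[23993,14734],[]),
(1,[11857,23994],[]),
(1,[23993,14820],[])]
theorem ok47 : data.stepsOK st47 11750 = true := by decide +kernel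

end

end Step
end A2
end H77
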