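import Mathlib
import Cfsg.Agent.H77.A2.Step.Data

/-!
A derivation that closes 352 cosets of the subgroup on x and y (generated data).
-/

set_option autoImplicit false
set_option maxRecDepth 100000
set_option linter.all false
set_option Elab.async false

namespace H77
namespace A2
namespace Step

open H93.CosetI

noncomputable section

def st48 : List Step := [
(1,[21616,23998],[]),
(1,[23853],[]),
(1,[24003,4376],[]),
(1,[10163,24004],[]),
(1,[23859],[]),
(1,[24009,16850],[]),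
(1,[21139,24010],[]),
(1,[23869],[]),
(1,[24015,4169],[]),
(1,[9012,24016],[]),
(1,[23873],[]),
(1,[24021,16052],[]),
(1,[23879],[]),
(1,[24025,3699],[]),
(1,[24025,3700],[]),
(1,[22881,24028],[]),
(1,[23890],[]),
(1,[24033,13470],[]),
(1,[23897],[]),
(1,[24037,4348],[]),
(1,[24037,22480],[]),
(1,[24037,20760],[]),
(1,[3289,24042],[]),
(1,[23905],[]),
(1,[24047,23160],[]),
(1,[24047,22578],[]),
(1,[23911],[]),
(1,[24053,16018],[]),
(1,[4223,24054],[]),
(1,[24053,16066],[]),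
(1,[18274,24058],[]),
(1,[23917],[]),
(1,[24063,12527,24062],[]),
(1,[5829,24064],[]),
(1,[24063,10971],[]),
(1,[24063,21305],[]),
(1,[23927],[]),
(1,[24073,13217],[]),
(1,[4351,24074],[]),
(1,[23933],[]),
(1,[24079,1472],[]),
(1,[1307,24080],[]),
(1,[23939],[]),
(1,[24085,15458],[]),
(1,[4363,24086],[]),
(1,[23945],[]),
(1,[24091,16055],[]),
(1,[22316,24092],[]),
(1,[23953],[]),
(1,[24097,23346],[]),
(1,[24097,23559],[]),
(1,[23956],[]),
(1,[24103,13473],[]),
(1,[24103,13474],[]),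
(1,[21210,24106],[]),
(1,[23963],[]),
(1,[24111,14768],[]),
(1,[3835,24112],[]),
(1,[23969],[]),
(1,[24117,13285],[]),
(1,[235,24118],[]),
(1,[23975],[]),
(1,[24123,13505],[]),
(1,[3689,24124],[]),
(1,[23985],[]),
(1,[24129,13777],[]),
(1,[24101,24130],[]),
(1,[23991],[]),
(1,[24135,12720],[]),
(1,[23614,24136],[]),
(1,[24135,13050],[]),
(1,[23997],[]),
(1,[24143,14818],[]),
(1,[24001],[]),
(1,[24147,14573],[]),
(1,[4352,24148],[]),
(1,[24007],[]),
(1,[24153,4378],[]),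
(1,[12136,24154],[]),
(1,[24013],[]),
(1,[24159,16852],[]),
(1,[524,24160],[]),
(1,[24019],[]),
(1,[24165,4167],[]),
(1,[9006,24166],[]),
(1,[24031],[]),
(1,[24171,3702],[]),
(1,[513,24172],[]),
(1,[24045],[]),
(1,[24177,22232],[]),
(1,[3291,24178],[]),
(1,[24177,12099],[]),
(1,[24177,3514],[]),
(1,[24057],[]),
(1,[24187,16068],[]),
(1,[18340,24188],[]),
(1,[24061],[]),
(1,[24193,4137],[]),
(1,[21465,24194],[]),
(1,[24066],[]),
(1,[24199,5829],[]),
(1,[24077],[]),
(1,[24203,13215],[]),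
(1,[4353,24204],[]),
(1,[24083],[]),
(1,[24209,1474],[]),
(1,[22983,24210],[]),
(1,[24089],[]),
(1,[24215,15460],[]),
(1,[22897,24216],[]),
(1,[24095],[]),
(1,[24221,24023],[]),
(1,[3538,24222],[]),
(1,[24109],[]),
(1,[24227,13476],[]),
(1,[23752,24228],[]),
(1,[24115],[]),
(1,[24233,14770],[]),
(1,[3837,24234],[]),
(1,[24121],[]),
(1,[24239,13283],[]),
(1,[237,24240],[]),
(1,[24127],[]),
(1,[24245,13503],[]),
(1,[22022,24246],[]),
(1,[24133],[]),
(1,[24251,13775],[]),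
(1,[5823,24252],[]),
(1,[24139],[]),
(1,[24257,13054],[]),
(1,[24151],[]),
(1,[24261,24145],[]),
(1,[21495,24262],[]),
(1,[24157],[]),
(1,[24267,4380],[]),
(1,[12939,24268],[]),
(1,[24163],[]),
(1,[24273,16854],[]),
(1,[22013,24274],[]),
(1,[24169],[]),
(1,[24279,4165],[]),
(1,[1372,24280],[]),
(1,[24175],[]),
(1,[24285,3704],[]),
(1,[515,24286],[]),
(1,[24180],[]),
(1,[24291,3291],[]),
(1,[24291,3292],[]),
(1,[536,24294],[]),
(1,[24191],[]),
(1,[24299,4140],[]),
(1,[3620,24300],[]),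
(1,[24197],[]),
(1,[24305,4135],[]),
(1,[3623,24306],[]),
(1,[24207],[]),
(1,[24311,13213],[]),
(1,[4355,24312],[]),
(1,[24212],[]),
(1,[24317,13066],[]),
(1,[24317,22983],[]),
(1,[24219],[]),
(1,[24323,15462],[]),
(1,[20564,24324],[]),
(1,[24224],[]),
(1,[24329,3537],[]),
(1,[13031,24330],[]),
(1,[24329,22038],[]),
(1,[9879,24334],[]),
(1,[24329,3538],[]),
(1,[24231],[]),
(1,[24341,13478],[]),
(1,[5825,24342],[]),
(1,[24237],[]),
(1,[24347,14772],[]),
(1,[3839,24348],[]),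
(1,[24243],[]),
(1,[24353,13281],[]),
(1,[208,24354],[]),
(1,[24249],[]),
(1,[24359,13501],[]),
(1,[23568,24360],[]),
(1,[24255],[]),
(1,[24365,13789],[]),
(1,[5825,24366],[]),
(1,[24365,13773],[]),
(1,[24264],[]),
(1,[24373,21495],[]),
(1,[24373,14172],[]),
(1,[11946,24376],[]),
(1,[24270],[]),
(1,[24381,12939],[]),
(1,[24381,23881],[]),
(1,[24381,12683],[]),
(1,[4383,24386],[]),
(1,[24381,12928],[]),
(1,[24277],[]),
(1,[24393,16856],[]),
(1,[566,24394],[]),
(1,[24283],[]),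
(1,[24399,4163],[]),
(1,[2962,24400],[]),
(1,[24289],[]),
(1,[24405,3706],[]),
(1,[23078,24406],[]),
(1,[24297],[]),
(1,[24411,3294],[]),
(1,[534,24412],[]),
(1,[24303],[]),
(1,[24417,4142],[]),
(1,[24035,24418],[]),
(1,[24309],[]),
(1,[24423,4133],[]),
(1,[21465,24424],[]),
(1,[24315],[]),
(1,[24429,13211],[]),
(1,[4357,24430],[]),
(1,[24327],[]),
(1,[24435,15464],[]),
(1,[12678,24436],[]),
(1,[24332],[]),
(1,[24441,13031],[]),
(1,[24441,12736],[]),
(1,[21749,24444],[]),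
(1,[24337],[]),
(1,[24449,14434],[]),
(1,[10020,24450],[]),
(1,[24345],[]),
(1,[24455,13480],[]),
(1,[23919,24456],[]),
(1,[24351],[]),
(1,[24461,14774],[]),
(1,[23745,24462],[]),
(1,[24357],[]),
(1,[24467,13279],[]),
(1,[9730,24468],[]),
(1,[24363],[]),
(1,[24473,13499],[]),
(1,[1299,24474],[]),
(1,[24369],[]),
(1,[24479,13708],[]),
(1,[24479,13707],[]),
(1,[23919,24482],[]),
(1,[24379],[]),
(1,[24487,14174],[]),
(1,[10948,24488],[]),
(1,[24389],[]),
(1,[24493,12681],[]),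
(1,[4385,24494],[]),
(1,[24493,12848],[])]
theorem ok48 : data.stepsOK st48 12000 = true := by decide +kernel
def st49 : List Step := [
(1,[24397],[]),
(1,[24501,16858],[]),
(1,[10005,24502],[]),
(1,[24403],[]),
(1,[24507,4161],[]),
(1,[10392,24508],[]),
(1,[24409],[]),
(1,[24513,3708],[]),
(1,[23447,24514],[]),
(1,[24415],[]),
(1,[24519,3296],[]),
(1,[21374,24520],[]),
(1,[24421],[]),
(1,[24525,4144],[]),
(1,[3284,24526],[]),
(1,[24427],[]),
(1,[24531,4131],[]),
(1,[3623,24532],[]),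
(1,[24433],[]),
(1,[24537,13209],[]),
(1,[4359,24538],[]),
(1,[24439],[]),
(1,[24543,15466],[]),
(1,[23182,24544],[]),
(1,[24446],[]),
(1,[24549,21749],[]),
(1,[24549,14642],[]),
(1,[9021,24552],[]),
(1,[24453],[]),
(1,[24557,14436],[]),
(1,[322,24558],[]),
(1,[24459],[]),
(1,[24563,13482],[]),
(1,[24465],[]),
(1,[24567,14776],[]),
(1,[5823,24568],[]),
(1,[24471],[]),
(1,[24573,13277],[]),
(1,[9792,24574],[]),
(1,[24477],[]),
(1,[24579,13497],[]),
(1,[23361,24580],[]),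
(1,[24485],[]),
(1,[24585,13705],[]),
(1,[10977,24586],[]),
(1,[24491],[]),
(1,[24591,14176],[]),
(1,[1417,24592],[]),
(1,[24497],[]),
(1,[24597,10917],[]),
(1,[4387,24598],[]),
(1,[24597,10391],[]),
(1,[24505],[]),
(1,[24605,16860],[]),
(1,[9080,24606],[]),
(1,[24511],[]),
(1,[24611,4159],[]),
(1,[24602,24612],[]),
(1,[24517],[]),
(1,[24617,3710],[]),
(1,[23430,24618],[]),
(1,[24523],[]),
(1,[24623,11757],[]),
(1,[24529],[]),
(1,[24627,4146],[]),
(1,[11936,24628],[]),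
(1,[24535],[]),
(1,[24633,4129],[]),
(1,[21465,24634],[]),
(1,[24540],[]),
(1,[24639,22454],[]),
(1,[3715,24640],[]),
(1,[24639,4359],[]),
(1,[24547],[]),
(1,[24647,15468],[]),
(1,[1311,24648],[]),
(1,[24555],[]),
(1,[24653,14644],[]),
(1,[3003,24654],[]),
(1,[24561],[]),
(1,[24659,14438],[]),
(1,[12484,24660],[]),
(1,[24571],[]),
(1,[24665,14778],[]),
(1,[23753,24666],[]),
(1,[24577],[]),
(1,[24671,13275],[]),
(1,[9478,24672],[]),
(1,[24583],[]),
(1,[24677,13495],[]),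
(1,[22118,24678],[]),
(1,[24589],[]),
(1,[24683,13703],[]),
(1,[24595],[]),
(1,[24687,14178],[]),
(1,[3071,24688],[]),
(1,[24600],[]),
(1,[24693,4388],[]),
(1,[4102,24694],[]),
(1,[24693,4387],[]),
(1,[24609],[]),
(1,[24701,16862],[]),
(1,[10020,24702],[]),
(1,[24614],[]),
(1,[24707,4385],[]),
(1,[24707,24699],[]),
(1,[4156,24710],[]),
(1,[24707,24602],[]),
(1,[24620],[]),
(1,[24717,23430],[]),
(1,[24717,23641],[]),
(1,[24717,4362],[]),
(1,[24631],[]),
(1,[24725,4148],[]),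
(1,[23726,24726],[]),
(1,[24637],[]),
(1,[24731,4127],[]),
(1,[3620,24732],[]),
(1,[24643],[]),
(1,[24737,21138],[]),
(1,[3717,24738],[]),
(1,[24737,21454],[]),
(1,[22703,24742],[]),
(1,[24651],[]),
(1,[24747,23707],[]),
(1,[24657],[]),
(1,[24751,14646],[]),
(1,[10393,24752],[]),
(1,[24663],[]),
(1,[24757,14440],[]),
(1,[1281,24758],[]),
(1,[24669],[]),
(1,[24763,14780],[]),
(1,[21211,24764],[]),
(1,[24675],[]),
(1,[24769,13273],[]),
(1,[226,24770],[]),
(1,[24681],[]),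
(1,[24775,13493],[]),
(1,[540,24776],[]),
(1,[24691],[]),
(1,[24781,14180],[]),
(1,[3073,24782],[]),
(1,[24697],[]),
(1,[24787,4390],[]),
(1,[12048,24788],[]),
(1,[24705],[]),
(1,[24793,16864],[]),
(1,[322,24794],[]),
(1,[24712],[]),
(1,[24799,4155],[]),
(1,[24799,4156],[]),
(1,[24729],[]),
(1,[24805,4150],[]),
(1,[4032,24806],[]),
(1,[24735],[]),
(1,[24811,4125],[]),
(1,[3618,24812],[]),
(1,[24740],[]),
(1,[24817,3718],[]),
(1,[527,24818],[]),
(1,[24817,3717],[]),
(1,[24744],[]),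
(1,[24825,22703],[]),
(1,[24755],[]),
(1,[24829,14648],[]),
(1,[2963,24830],[]),
(1,[24761],[]),
(1,[24835,14442],[]),
(1,[23506,24836],[]),
(1,[24767],[]),
(1,[24841,14782],[]),
(1,[23497,24842],[]),
(1,[24773],[]),
(1,[24847,13271],[]),
(1,[12466,24848],[]),
(1,[24779],[]),
(1,[24853,13491],[]),
(1,[23757,24854],[]),
(1,[24785],[]),
(1,[24859,14182],[]),
(1,[12529,24860],[]),
(1,[24791],[]),
(1,[24865,4392],[]),
(1,[1437,24866],[]),
(1,[24797],[]),
(1,[24871,16866],[]),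
(1,[12484,24872],[]),
(1,[24809],[]),
(1,[24877,4152],[]),
(1,[23734,24878],[]),
(1,[24815],[]),
(1,[24883,8917],[]),
(1,[24821],[]),
(1,[24887,3720],[]),
(1,[529,24888],[]),
(1,[24833],[]),
(1,[24893,14650],[]),
(1,[1373,24894],[]),
(1,[24839],[]),
(1,[24899,14444],[]),
(1,[23509,24900],[]),
(1,[24844],[]),
(1,[24905,23497],[]),
(1,[24905,16887],[]),
(1,[14785,24908],[]),
(1,[24851],[]),
(1,[24913,13269],[]),
(1,[12463,24914],[]),
(1,[24857],[]),
(1,[24919,13489],[]),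
(1,[1299,24920],[]),
(1,[24863],[]),
(1,[24925,14184],[]),
(1,[12599,24926],[]),
(1,[24869],[]),
(1,[24931,4394],[]),
(1,[12059,24932],[]),
(1,[24875],[]),
(1,[24937,16868],[]),
(1,[1281,24938],[]),
(1,[24881],[]),
(1,[24943,24801],[]),
(1,[24891],[]),
(1,[24947,3722],[]),
(1,[21372,24948],[]),
(1,[24897],[]),
(1,[24953,14652],[]),
(1,[9013,24954],[]),
(1,[24903],[]),
(1,[24959,14446],[]),
(1,[7522,24960],[]),
(1,[24911],[]),
(1,[24965,16885],[]),
(1,[14787,24966],[]),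
(1,[24917],[]),
(1,[24971,13267],[]),
(1,[24104,24972],[]),
(1,[24923],[]),
(1,[24977,13487],[]),
(1,[1301,24978],[]),
(1,[24929],[]),
(1,[24983,14186],[]),
(1,[11388,24984],[]),
(1,[24935],[]),
(1,[24989,4396],[]),
(1,[22192,24990],[]),
(1,[24941],[]),
(1,[24995,16870],[]),
(1,[23506,24996],[])]
theorem ok49 : data.stepsOK st49 12250 = true := by decide +kernel
def st50 : List Step := [
(1,[24951],[]),
(1,[25001,3724],[]),
(1,[21375,25002],[]),
(1,[24957],[]),
(1,[25007,14654],[]),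
(1,[1379,25008],[]),
(1,[24963],[]),
(1,[25013,14448],[]),
(1,[23508,25014],[]),
(1,[24969],[]),
(1,[25019,16883],[]),
(1,[14789,25020],[]),
(1,[24975],[]),
(1,[25025,23863],[]),
(1,[21210,25026],[]),
(1,[24981],[]),
(1,[25031,13485],[]),
(1,[23372,25032],[]),
(1,[24987],[]),
(1,[25037,14133],[]),
(1,[24993],[]),
(1,[25041,4398],[]),
(1,[22199,25042],[]),
(1,[24999],[]),
(1,[25047,16872],[]),
(1,[23698,25048],[]),
(1,[25005],[]),
(1,[25053,3726],[]),
(1,[21391,25054],[]),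
(1,[25011],[]),
(1,[25059,14656],[]),
(1,[9081,25060],[]),
(1,[25017],[]),
(1,[25065,14405],[]),
(1,[23505,25066],[]),
(1,[25023],[]),
(1,[25071,16881],[]),
(1,[14791,25072],[]),
(1,[25028],[]),
(1,[25077,22559],[]),
(1,[1454,25078],[]),
(1,[25077,11118],[]),
(1,[25077,21210],[]),
(1,[25077,23753],[]),
(1,[1457,25086],[]),
(1,[25035],[]),
(1,[25091,24565],[]),
(1,[1462,25092],[]),
(1,[25044],[]),
(1,[25097,21838],[]),
(1,[25097,22199],[]),
(1,[25051],[]),
(1,[25103,16874],[]),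
(1,[10004,25104],[]),
(1,[25056],[]),
(1,[25109,3833],[]),
(1,[25109,20720],[]),
(1,[25109,3834],[]),
(1,[3729,25114],[]),
(1,[25109,21391],[]),
(1,[25063],[]),
(1,[25121,14407],[]),
(1,[25068],[]),
(1,[25125,23505],[]),
(1,[25125,13678],[]),
(1,[21750,25128],[]),
(1,[25075],[]),
(1,[25133,16879],[]),
(1,[14793,25134],[]),
(1,[25081],[]),
(1,[25139,22560],[]),
(1,[25139,12033],[]),
(1,[1452,25142],[]),
(1,[25139,3541],[]),
(1,[25089],[]),
(1,[25149,5824],[]),
(1,[1459,25150],[]),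
(1,[25149,24370],[]),
(1,[25149,5823],[]),
(1,[25095],[]),
(1,[25159,10976],[]),
(1,[12455,25160],[]),
(1,[25107],[]),
(1,[25165,16876],[]),
(1,[495,25166],[]),
(1,[25117],[]),
(1,[25171,3836],[]),
(1,[25171,22228],[]),
(1,[25131],[]),
(1,[25177,13680],[]),
(1,[21753,25178],[]),
(1,[25137],[]),
(1,[25144],[]),
(1,[25185,1451],[]),
(1,[1307,25186],[]),
(1,[25185,1452],[]),
(1,[25153],[]),
(1,[25193,24480],[]),
(1,[25193,5826],[]),
(1,[25163],[]),
(1,[25199,10978],[]),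
(1,[23922,25200],[]),
(1,[25199,24684],[]),
(1,[3840,25204],[]),
(1,[25183,25169],[]),
(1,[25209,14793],[]),
(1,[10116,25210],[]),
(1,[25181],[]),
(1,[25215,13682],[]),
(1,[19040,25216],[]),
(1,[25189],[]),
(1,[25221,1449],[]),
(1,[24320,25222],[]),
(1,[25203],[]),
(1,[25227,10980],[]),
(1,[24748,25228],[]),
(1,[25207],[]),
(1,[25233,13701],[]),
(1,[23745,25234],[]),
(1,[25213],[]),
(1,[25239,14791],[]),
(1,[61,25240],[]),
(1,[25219],[]),
(1,[25245,13684],[]),
(1,[19039,25246],[]),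
(1,[25224],[]),
(1,[25251,24318],[]),
(1,[25251,1476],[]),
(1,[25251,24320],[]),
(1,[25231],[]),
(1,[25259,10982],[]),
(1,[1313,25260],[]),
(1,[25237],[]),
(1,[25265,13699],[]),
(1,[24100,25266],[]),
(1,[25243],[]),
(1,[25271,14789],[]),
(1,[10192,25272],[]),
(1,[25249],[]),
(1,[25277,13686],[]),
(1,[364,25278],[]),
(1,[25263],[]),
(1,[25283,10984],[]),
(1,[23047,25284],[]),
(1,[25269],[]),
(1,[25289,13697],[]),
(1,[1135,25290],[]),
(1,[25275],[]),
(1,[25295,14787],[]),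
(1,[10191,25296],[]),
(1,[25281],[]),
(1,[25301,13688],[]),
(1,[362,25302],[]),
(1,[25287],[]),
(1,[25307,10986],[]),
(1,[23768,25308],[]),
(1,[25293],[]),
(1,[25313,13695],[]),
(1,[24051,25314],[]),
(1,[25299],[]),
(1,[25319,14785],[]),
(1,[3090,25320],[]),
(1,[25305],[]),
(1,[25325,13690],[]),
(1,[12266,25326],[]),
(1,[25311],[]),
(1,[25331,10988],[]),
(1,[23177,25332],[]),
(1,[25317],[]),
(1,[25337,13806],[]),
(1,[25323],[]),
(1,[25341,24906],[]),
(1,[25329],[]),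
(1,[25345,13804],[]),
(1,[25335],[]),
(1,[25349,10990],[]),
(1,[1305,25350],[]),
(1,[25353],[]),
(1,[25355,10992],[]),
(1,[1307,25356],[]),
(1,[25359],[]),
(1,[25361,10994],[]),
(1,[1309,25362],[]),
(1,[25365],[]),
(1,[25367,10996],[]),
(1,[1311,25368],[]),
(1,[25371],[]),
(1,[25373,10998],[]),
(1,[24749,25374],[]),
(1,[25377],[]),
(1,[25379,11000],[]),
(1,[22101,25380],[]),
(1,[25383],[]),
(1,[25385,11002],[]),
(11,[509,10288,4802,7848,10289,508,10326,7819],[510,512,23949,1132,24100,23745,3840,23923,22100,25386]),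
(1,[25389],[]),
(1,[25391,25387],[]),
(1,[25391,11004],[]),
(1,[7819,25394],[]),
(1,[25397],[]),
(1,[25399,11006],[]),
(1,[5602,25400],[]),
(1,[25403],[]),
(1,[25405,11008],[]),
(1,[5600,25406],[]),
(1,[25409],[]),
(1,[25411,11010],[]),
(1,[7513,25412],[]),
(1,[25415],[]),
(1,[25417,11012],[]),
(1,[5600,25418],[]),
(1,[25421],[]),
(1,[25423,11014],[]),
(1,[7513,25424],[]),
(1,[25427],[]),
(1,[25429,11016],[]),
(1,[5600,25430],[]),
(1,[25433],[]),
(1,[25435,11018],[]),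
(1,[7513,25436],[]),
(1,[25439],[]),
(1,[25441,11020],[]),
(1,[5603,25442],[]),
(1,[25445],[]),
(1,[25447,11022],[]),
(1,[10326,25448],[]),
(1,[25451],[]),
(1,[25453,11024],[]),
(1,[10329,25454],[]),
(1,[25457],[]),
(1,[25459,11026],[]),
(1,[1099,25460],[]),
(1,[25463],[]),
(1,[25465,11028],[]),
(1,[10450,25466],[]),
(1,[25469],[]),
(1,[25471,11030],[]),
(1,[957,25472],[]),
(1,[25475],[]),
(1,[25477,11032],[]),
(1,[959,25478],[]),
(1,[25481],[]),
(1,[25483,23589],[]),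
(12,[23079,988,20704,374,9838,4033,23735,1140],[24026,12136,10163,319,2936,23682,23476,1195,23098,24723,3712,24644,4357,4355,4353,4351,24039,3287,24035,3619,23535,1142,1144,23727,20285,11276,1004,11275,11287,8065,3367,11490,11483,53,9482,9418,415,413,12077,1442]),
(12,[23078,515,23949,1132,1134,1136,23900,24051,24048,9433,12091,1445,12080,3971,8506,5021,10069,935,12132,12140,8765,3968,3970,8422],[24385,4382,24709,24803,4103,12049,1436,12058,22193,25101,4400,22903,22896,4188,20697,993,20424,23593,23777,23735,1139,23900,24051,1136]),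
(12,[22118,23361,1300,23373,1463,1461,25196,24070],[542,10870,234,236,209,9731,2370,10059,564,12267,22056,964,22339,20894,3824,3826,3828,3830,25111,3728,25172,3838,3840,12455,12452,226,9478,10046,9991,1000,1002,1004,1006,10059,495,10002,65,63,10193,10190]),
(0,[],[]),
(10,[10505,25484,23777],[25492]),
(1,[25495],[]),
(1,[25497,25493],[])]
theorem ok50 : data.stepsOK st50 12500 = true := by decide +kernel
def st51 : List Step := [
(12,[1037,1035,11516,11359,3080,3082,10393,24715],[23045,1314,23768,23047,1313,24748,22100,4350,24375,11947,3490,11947,10949,1416,3070,3072,3074,12275,1026,12399,2949,12412,11359,3079,24625,529,10956,25175,25172,24071,24201,25197,1459,1457,1455,25191,1305,1303,23373,1464]),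
(12,[3075,3073,3071,1417,10948,11946,3491,11946,24374,4351,22101,24749,1312,23046,23769,1315,1313,24748,23922,12455,1462,1464,23047,1314],[25083,25084,25253,25254,24443,21750,353,351,25039,11388,12397,12398,1027,12274,3075,12528,12598,11389,11385,12387,1264,12404,24391,4382])]
theorem ok51 : data.stepsOK st51 12750 = true := by decide +kernel

end

end Step
end A2
end H77
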